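import Cfsg.Agent.Mrg.Omega.NOThreeL.RA.Final
import Cfsg.Agent.Mrg.Omega.NOThreeL.RTreeA


/-!
# NO-3L, R ∩ (A): `RTreeA.NsOne` (#19087)
-/

set_option autoImplicit false

namespace Cfsg.Agent.Omega.NOThreeL.RA

open Subgroup Cfsg Cfsg.Agent.Omega.MinPar
open Cfsg.Agent.ZN (zc zl o2)
open Cfsg.Agent.Omega.Frame Cfsg.Agent.Omega.FrameNOFF
open Cfsg.Agent.Omega.FrameFF (cv)
open Cfsg.Agent.Omega.NOThreeL.RTreeA (NsOne Splits)

universe u

/-- `V_P` splits over `C_V(O²(P))` if `C_Z(P) = 1`. -/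
theorem splits_of_inf_eq_bot {G : Type u} [Group G] [Finite G] (hc : IsCharacteristicTwoType G) {S : Sylow 2 G}
    {P : Subgroup G} (hP : IsParS (S : Subgroup G) P)
    (h0 : zc (S : Subgroup G) ⊓ centralizer (P : Set G) = ⊥) :
    Splits (S : Subgroup G) P (cv (S : Subgroup G) P) := by
  have h1 : cv (S : Subgroup G) P = ⊥ := NoFF.LinesPlug.inf_oddGen_eq_bot hc S hP.toIsPar h0
  rw [h1]
  exact ⟨zl (S : Subgroup G) P, le_rfl, Cfsg.Agent.MinSimple.VModule.le_normalizer_zl _ _, inf_bot_eq _, le_sup_left⟩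

/-- **#19087** -/
theorem nsOne : NsOne.{u} := by
  intro G _ _ S P H F _ _ _ h M hns hl
  exact false_of_one h.ctx.char2 h.data h.pair
    (fun h0 => hns (splits_of_inf_eq_bot h.ctx.char2 h.pair.par h0)) h.big M.toNatK hl

end Cfsg.Agent.Omega.NOThreeL.RA
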