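import Cfsg.Agent.Mrg.Omega.NOThreeL.RTools.FrameA
import Cfsg.Agent.Mrg.Omega.NOThreeL.AOne
import Cfsg.Agent.Involutions.BaerSuzuki
import Cfsg.Agent.Mrg.Omega.NOThreeL.Star

section


/-!
# NO-3L, `R ∩ (A)`, one natural factor, `|Z/E| = q` (#19087, helper162 / helper761): the frame and (0)

`HypQ e S P H` : `P ∈ P*(S)`, `H` long and minimal (below itself) with `[V, U] ≠ 1`, `V = V_P = zl S P`, `U = U_H = zl S H`;
`e : G → F²` are coordinates on `V / E`, `E = C_Z(P)`, `Z = {v | e v 1 = 0}`, `P` induces `SL₂(F)` and `U` the full root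
group `up b`.

`N = NN S P H = ⟨V^H⟩`, `R = Rr S P H = C_U(N)`, `Y = Yy S P H = C_U(V)`, `F = Fc S H = C_Z(H)`; the points of `H` are the
`Z^h = cj h • Z`, `h ∈ H`; `A = V^h`, `Y_A = Y^h`.

* `le_sup`, `exists_nc` : `H = N C`; `not_cent` : `C_E(N) = 1`; `inf_E` : `F ∩ E = 1`; `R_inf_Z` : `R ∩ Z = F`;
* `triv` : a subgroup trivial on `U / I` and on `I` is trivial on `U`;
* **`tr`** (TR) : `h ∈ N` or `h ∈ C`, `[h, U] ≤ R` implies `[h, U] = 1`;
* **`min_o2`** (MIN) : `x ∈ Z^h - F` implies `V^h ≤ O₂(C_H(x))`.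
-/

set_option autoImplicit false
set_option linter.unusedSectionVars false

namespace Cfsg.Agent.Omega.NOThreeL.RA

open Subgroup Cfsg Cfsg.Agent.Omega.MinPar
open Cfsg.Agent.ZN (zc zl o2)
open Cfsg.Agent.Omega.Frame Cfsg.Agent.Omega.FrameNOFF
open Cfsg.Agent.Omega.Node.NO3L Cfsg.Agent.Omega.NOThreeL.Basic
open Cfsg.Agent.Omega.NoFF.Basic (conj_conj mem_conj conj_le_iff conj_le_centralizer comm_symm comm_mono)
open Cfsg.Agent.Omega.NOThreeL.Pair (conj_eq_of_mem conj_le_normalizer zl_abel)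
open Cfsg.Agent.MinSimple.VModule (zl_le zc_le_zl le_normalizer_zl zc_le o2_isPGroup le_normalizer_o2 le_o2
  normalizer_le_normalizer_zc)
open Cfsg.Agent.Omega.NOThreeL (mem_normalizer_of_conj_eq le_normalizer_of mem_sup_of_comm)
open Cfsg.Agent.Omega.NOThreeL.RTools (cm cm_def cm_mul NN conj_mem_of_mem conj_le_NN le_NN NN_le le_normalizer_NN
  le_sup_inf isLong)
open Cfsg.Agent.Omega.NOThreeL.AOne (Act)
open Cfsg.Agent.Lib.SL2Mat
open Cfsg.Agent.Omega.NatPair (ap ap_mul ap_one ap_inv_ap)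
open scoped Pointwise

universe u

variable {G : Type u} [Group G]

/-- `F = C_Z(H)` -/
def Fc (S H : Subgroup G) : Subgroup G := zc S ⊓ centralizer (H : Set G)

/-- `Y = C_U(V)` -/
def Yy (S P H : Subgroup G) : Subgroup G := zl S H ⊓ centralizer (zl S P : Set G)

/-- `R = C_U(N)` -/
def Rr (S P H : Subgroup G) : Subgroup G := zl S H ⊓ centralizer (NN S P H : Set G)

/-- The frame hypotheses of `R ∩ (A)`, one natural factor, `|Z/E| = |F|`. -/
structure HypQ [Finite G] {F : Type} [Field F] (e : G → Fin 2 → F) (S : Sylow 2 G) (P H : Subgroup G) : Prop where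
  hc : IsCharacteristicTwoType G
  data : Data (S : Subgroup G)
  par : IsParS (S : Subgroup G) P
  long : IsLong (S : Subgroup G) H
  ne : ¬ zl (S : Subgroup G) P ≤ centralizer (zl (S : Subgroup G) H : Set G)
  min : ∀ H₁ : Subgroup G, IsLong (S : Subgroup G) H₁ → H₁ ≤ H → H₁ ≠ H →
    zl (S : Subgroup G) P ≤ centralizer (zl (S : Subgroup G) H₁ : Set G)
  mul : ∀ v ∈ zl (S : Subgroup G) P, ∀ w ∈ zl (S : Subgroup G) P, e (v * w) = e v + e w
  surj : ∀ x : Fin 2 → F, ∃ v ∈ zl (S : Subgroup G) P, e v = x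
  ker : ∀ v ∈ zl (S : Subgroup G) P, e v = 0 ↔ v ∈ zc (S : Subgroup G) ⊓ centralizer (P : Set G)
  line : ∀ v ∈ zl (S : Subgroup G) P, e v 1 = 0 ↔ v ∈ zc (S : Subgroup G)
  lift : ∀ A : Matrix.SpecialLinearGroup (Fin 2) F, ∃ g ∈ P, Act e (zl (S : Subgroup G) P) g A
  up1 : ∀ u ∈ zl (S : Subgroup G) H, ∃ b, Act e (zl (S : Subgroup G) P) u (up b)
  up2 : ∀ b, ∃ u ∈ zl (S : Subgroup G) H, Act e (zl (S : Subgroup G) P) u (up b)
  cent : ∀ g ∈ P, Act e (zl (S : Subgroup G) P) g 1 → g ∈ centralizer (zl (S : Subgroup G) P : Set G)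

/-- Baer–Suzuki in a subgroup. -/
theorem le_o2_of_pairs [Finite G] {V H : Subgroup G} (hV : V ≤ H)
    (h : ∀ g ∈ H, IsPGroup 2 (V ⊔ MulAut.conj g • V : Subgroup G)) : V ≤ o2 H := by
  have : Fact (Nat.Prime 2) := ⟨Nat.prime_two⟩
  have h1 : IsPGroup 2 (normalClosure ((V.subgroupOf H : Subgroup H) : Set H) : Subgroup H) := by
    refine Cfsg.Agent.Involutions.BaerSuzuki.baer_suzuki_subgroup _ fun g => ?_
    have h2 : ((V.subgroupOf H) ⊔ (V.subgroupOf H).map (MulAut.conj g).toMonoidHom : Subgroup H).map H.subtype ≤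
        V ⊔ MulAut.conj (g : G) • V := by
      rw [Subgroup.map_sup]
      refine sup_le_sup ?_ ?_
      · rintro _ ⟨x, hx, rfl⟩
        exact hx
      · rintro _ ⟨_, ⟨x, hx, rfl⟩, rfl⟩
        rw [mem_conj]
        have e1 : (g : G)⁻¹ * H.subtype ((MulAut.conj g).toMonoidHom x) * g = x := by
          change (g : G)⁻¹ * (g * x * (g : G)⁻¹) * g = x
          group
        rw [e1]
        exact hx
    have h3 := (h g g.2).to_le h2
    exact (h3.comap_of_injective H.subtype H.subtype_injective).to_le (Subgroup.le_comap_map _ _)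
  have h2 : V.subgroupOf H ≤ pCore 2 ↥H :=
    Subgroup.le_normalClosure.trans (Lib.Cores.le_pCore normalClosure_normal h1)
  have h3 := Subgroup.map_mono (f := H.subtype) h2
  rwa [subgroupOf_map_subtype, inf_eq_left.mpr hV] at h3

namespace HypQ

variable [Finite G] {F : Type} [Field F] {e : G → Fin 2 → F} {S : Sylow 2 G} {P H : Subgroup G} (D : HypQ e S P H)
include D

/-! ### elementary facts -/

theorem commV {x y : G} (hx : x ∈ zl (S : Subgroup G) P) (hy : y ∈ zl (S : Subgroup G) P) : x * y = y * x :=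
  mem_centralizer_iff.mp ((zl_abel D.hc S D.par.isLoc).1 hy) x hx

theorem sqV {x : G} (hx : x ∈ zl (S : Subgroup G) P) : x * x = 1 := by
  have h := (zl_abel D.hc S D.par.isLoc).2 x hx
  rwa [pow_two] at h

theorem commU {x y : G} (hx : x ∈ zl (S : Subgroup G) H) (hy : y ∈ zl (S : Subgroup G) H) : x * y = y * x :=
  mem_centralizer_iff.mp ((zl_abel D.hc S D.long.loc).1 hy) x hx

theorem sqU {x : G} (hx : x ∈ zl (S : Subgroup G) H) : x * x = 1 := by
  have h := (zl_abel D.hc S D.long.loc).2 x hx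
  rwa [pow_two] at h

theorem SH : (S : Subgroup G) ≤ H := D.long.loc.le

theorem SP : (S : Subgroup G) ≤ P := D.par.le

theorem VS : zl (S : Subgroup G) P ≤ (S : Subgroup G) := IsParS.zl_le_S D.hc D.par

theorem US : zl (S : Subgroup G) H ≤ (S : Subgroup G) := IsLong.zl_le_S D.hc D.long

theorem CH : CZ (S : Subgroup G) ≤ H := D.long.cz

theorem ZU : zc (S : Subgroup G) ≤ zl (S : Subgroup G) H := zc_le_zl _ _

theorem ZV : zc (S : Subgroup G) ≤ zl (S : Subgroup G) P := zc_le_zl _ _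

theorem ZS : zc (S : Subgroup G) ≤ (S : Subgroup G) := zc_le _

theorem VH : zl (S : Subgroup G) P ≤ H := D.VS.trans D.SH

theorem HU : H ≤ normalizer (zl (S : Subgroup G) H : Set G) := le_normalizer_zl _ _

theorem PV : P ≤ normalizer (zl (S : Subgroup G) P : Set G) := le_normalizer_zl _ _

omit D in
theorem zcomm {z s : G} (hz : z ∈ zc (S : Subgroup G)) (hs : s ∈ (S : Subgroup G)) : s * z = z * s :=
  (Cfsg.Agent.MinSimple.VModule.mem_zc.1 hz).2.1 s hs

/-- `O₂(H)` centralises `U` -/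
theorem o2_cent : o2 H ≤ centralizer (zl (S : Subgroup G) H : Set G) :=
  Cfsg.Agent.MinSimple.VModule.o2_le_centralizer_zl D.long.loc.le S.isPGroup'
    (MinSimple.Basic.not_dvd_relIndex S D.long.loc.le) (D.long.loc.char2 S D.hc)

/-! ### `H = N C` -/

theorem NN_le_H : NN (S : Subgroup G) P H ≤ H := NN_le fun x hx => by
  have h1 := conj_le_iff (g := x).2 D.VH
  rwa [conj_eq_of_mem (Subgroup.le_normalizer hx)] at h1

theorem C_norm_NN : CZ (S : Subgroup G) ≤ normalizer (NN (S : Subgroup G) P H : Set G) :=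
  D.CH.trans (le_normalizer_NN _ _ _)

/-- **(0)** `H = N C` -/
theorem le_sup : H ≤ NN (S : Subgroup G) P H ⊔ CZ (S : Subgroup G) := by
  by_contra hcon
  set H₁ := NN (S : Subgroup G) P H ⊔ CZ (S : Subgroup G) with hH1
  have hle : H₁ ≤ H := sup_le D.NN_le_H D.CH
  have hne : H₁ ≠ H := fun h => hcon (by rw [h])
  have hl : IsLong (S : Subgroup G) H₁ :=
    ⟨D.long.loc.of_le S ((le_CZ S).trans le_sup_right) hle, le_sup_right⟩
  have h1 := D.min H₁ hl hle hne
  have h2 : zl (S : Subgroup G) P ≤ o2 H₁ := le_o2_of_comm (D.data.low P D.par) hl h1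
  -- `V ≤ O₂(N) ≤ O₂(H)`
  have h3 : zl (S : Subgroup G) P ≤ o2 (NN (S : Subgroup G) P H) := by
    have h4 : o2 H₁ ⊓ NN (S : Subgroup G) P H ≤ o2 (NN (S : Subgroup G) P H) := by
      refine le_o2 inf_le_right ((o2_isPGroup _).to_le inf_le_left) ?_
      intro g hg
      have h5 := le_normalizer_o2 H₁ ((le_sup_left : NN (S : Subgroup G) P H ≤ H₁) hg)
      rw [mem_normalizer_iff] at h5 ⊢
      intro x
      rw [mem_inf, mem_inf, h5 x, mem_normalizer_iff.mp (Subgroup.le_normalizer hg) x]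
    exact (le_inf h2 (le_NN _ _ _)).trans h4
  have h6 : o2 (NN (S : Subgroup G) P H) ≤ o2 H := by
    refine le_o2 ((Cfsg.Agent.MinSimple.VModule.o2_le _).trans D.NN_le_H) (o2_isPGroup _) ?_
    refine (le_normalizer_NN (S : Subgroup G) P H).trans ?_
    exact Cfsg.Agent.Omega.normalizer_le_normalizer_o2' _
  exact D.ne ((h3.trans h6).trans D.o2_cent)

theorem exists_nc {h : G} (hh : h ∈ H) : ∃ n ∈ NN (S : Subgroup G) P H, ∃ c ∈ CZ (S : Subgroup G), h = n * c := by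
  have h1 : h ∈ ((NN (S : Subgroup G) P H ⊔ CZ (S : Subgroup G) : Subgroup G) : Set G) := D.le_sup hh
  rw [coe_mul_of_right_le_normalizer_left _ _ D.C_norm_NN] at h1
  obtain ⟨n, hn, c, hc, rfl⟩ := Set.mem_mul.mp h1
  exact ⟨n, hn, c, hc, rfl⟩

omit D in
theorem C_cent {z c : G} (hz : z ∈ zc (S : Subgroup G)) (hc : c ∈ CZ (S : Subgroup G)) : c * z * c⁻¹ = z := by
  rw [← mem_centralizer_iff.mp hc z hz, mul_inv_cancel_right]

/-- the points are the `Z^n`, `n ∈ N` -/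
theorem exists_conj {h : G} (hh : h ∈ H) : ∃ n ∈ NN (S : Subgroup G) P H,
    MulAut.conj h • zc (S : Subgroup G) = MulAut.conj n • zc (S : Subgroup G) := by
  obtain ⟨n, hn, c, hc, rfl⟩ := D.exists_nc hh
  refine ⟨n, hn, ?_⟩
  rw [← conj_conj, conj_eq_of_mem (centralizer_le_normalizer _ hc)]

/-- **(0)** : no `1 ≠ z ∈ E` is centralised by `N`. -/
theorem not_cent {z : G} (hz : z ∈ zc (S : Subgroup G)) (hzP : z ∈ centralizer (P : Set G))
    (hzN : z ∈ centralizer (NN (S : Subgroup G) P H : Set G)) : z = 1 := by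
  by_contra hz1
  have hL : IsLong (S : Subgroup G) (centralizer ({z} : Set G)) := isLong S hz hz1
  have hHz : H ≤ centralizer ({z} : Set G) := by
    intro h hh
    obtain ⟨n, hn, c, hc, rfl⟩ := D.exists_nc hh
    refine mul_mem ?_ (hL.cz hc)
    rw [mem_centralizer_iff]
    rintro _ rfl
    exact (mem_centralizer_iff.mp hzN n hn).symm
  have hPz : P ≤ centralizer ({z} : Set G) := by
    intro p hp
    rw [mem_centralizer_iff]
    rintro _ rfl
    exact (mem_centralizer_iff.mp hzP p hp).symm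
  have h1 : zl (S : Subgroup G) P ≤ zl (S : Subgroup G) (centralizer ({z} : Set G)) :=
    zl_le (zc_le_zl _ _) (hPz.trans (le_normalizer_zl _ _))
  have h2 : zl (S : Subgroup G) H ≤ zl (S : Subgroup G) (centralizer ({z} : Set G)) :=
    zl_le (zc_le_zl _ _) (hHz.trans (le_normalizer_zl _ _))
  exact D.ne (comm_mono (zl_abel D.hc S hL.loc).1 h1 h2)

/-! ### `R`, `F` -/

/-- `R ∩ Z = F` -/
theorem R_inf_Z : Rr (S : Subgroup G) P H ⊓ zc (S : Subgroup G) = Fc (S : Subgroup G) H := by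
  apply le_antisymm
  · intro x hx
    obtain ⟨hx1, hx2⟩ := mem_inf.mp hx
    refine mem_inf.mpr ⟨hx2, ?_⟩
    rw [mem_centralizer_iff]
    intro h hh
    obtain ⟨n, hn, c, hc, rfl⟩ := D.exists_nc hh
    have h1 := mem_centralizer_iff.mp (mem_inf.mp hx1).2 n hn
    have h2 : c * x = x * c := (mem_centralizer_iff.mp hc x hx2).symm
    calc n * c * x = n * (c * x) := by group
      _ = (n * x) * c := by rw [h2]; group
      _ = x * (n * c) := by rw [h1]; group
  · intro x hx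
    obtain ⟨hx1, hx2⟩ := mem_inf.mp hx
    exact mem_inf.mpr ⟨mem_inf.mpr ⟨D.ZU hx1, centralizer_le D.NN_le_H hx2⟩, hx1⟩

/-- `F ∩ E = 1` -/
theorem inf_E : Fc (S : Subgroup G) H ⊓ centralizer (P : Set G) = ⊥ := by
  rw [eq_bot_iff]
  intro x hx
  obtain ⟨hx1, hx2⟩ := mem_inf.mp hx
  rw [← D.R_inf_Z] at hx1
  exact mem_bot.mpr (D.not_cent (mem_inf.mp hx1).2 hx2 (mem_inf.mp (mem_inf.mp hx1).1).2)

omit [Finite G] D in
theorem Fc_conj {x h : G} (hx : x ∈ Fc (S : Subgroup G) H) (hh : h ∈ H) : h * x * h⁻¹ = x := by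
  rw [mem_centralizer_iff.mp (mem_inf.mp hx).2 h hh, mul_inv_cancel_right]

omit [Finite G] D in
/-- `F ≤ Z^h` -/
theorem Fc_le {h : G} (hh : h ∈ H) : Fc (S : Subgroup G) H ≤ MulAut.conj h • zc (S : Subgroup G) := by
  intro x hx
  rw [mem_conj]
  have h1 := Fc_conj hx (inv_mem hh)
  rw [inv_inv] at h1
  rw [h1]
  exact (mem_inf.mp hx).1

theorem HR : H ≤ normalizer (Rr (S : Subgroup G) P H : Set G) := by
  refine le_normalizer_of fun h hh x hx => mem_inf.mpr ⟨conj_mem_of_mem (D.HU hh) (mem_inf.mp hx).1, ?_⟩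
  rw [mem_centralizer_iff]
  intro y hy
  have hy' : h⁻¹ * y * h ∈ NN (S : Subgroup G) P H := by
    have h1 := conj_mem_of_mem (le_normalizer_NN (S : Subgroup G) P H (inv_mem hh)) hy
    rwa [inv_inv] at h1
  have h1 := mem_centralizer_iff.mp (mem_inf.mp hx).2 _ hy'
  calc y * (h * x * h⁻¹) = h * ((h⁻¹ * y * h) * x) * h⁻¹ := by group
    _ = h * (x * (h⁻¹ * y * h)) * h⁻¹ := by rw [h1]
    _ = h * x * h⁻¹ * y := by group

theorem RU : Rr (S : Subgroup G) P H ≤ zl (S : Subgroup G) H := inf_le_left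

/-- `R ∩ Z^h = F` -/
theorem R_inf {h : G} (hh : h ∈ H) {x : G} (hx : x ∈ Rr (S : Subgroup G) P H)
    (hz : x ∈ MulAut.conj h • zc (S : Subgroup G)) : x ∈ Fc (S : Subgroup G) H := by
  rw [mem_conj] at hz
  have h1 : h⁻¹ * x * h ∈ Rr (S : Subgroup G) P H := by
    have h2 := conj_mem_of_mem (D.HR (inv_mem hh)) hx
    rwa [inv_inv] at h2
  have h2 : h⁻¹ * x * h ∈ Fc (S : Subgroup G) H := by
    rw [← D.R_inf_Z]
    exact mem_inf.mpr ⟨h1, hz⟩
  have h3 := Fc_conj h2 hh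
  have e1 : h * (h⁻¹ * x * h) * h⁻¹ = x := by group
  rw [e1] at h3
  rw [h3]
  exact h2

/-! ### (TR) -/

/-- a subgroup of `H` trivial on `U / I` and on `I` is trivial on `U` -/
theorem triv {I : Subgroup G} (hI : I ≤ zl (S : Subgroup G) H) (hHI : H ≤ normalizer (I : Set G)) {h : G} (hh : h ∈ H)
    (h1 : ∀ x ∈ zl (S : Subgroup G) H, cm h x ∈ I) (h2 : ∀ x ∈ I, cm h x = 1) :
    ∀ x ∈ zl (S : Subgroup G) H, cm h x = 1 := by
  let M₀ : Subgroup G :=
    { carrier := {h | h ∈ H ∧ (∀ x ∈ zl (S : Subgroup G) H, cm h x ∈ I) ∧ ∀ x ∈ I, cm h x = 1}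
      mul_mem' := by
        rintro x y ⟨hx, h1, h2⟩ ⟨hy, h3, h4⟩
        refine ⟨mul_mem hx hy, fun f hf => ?_, fun f hf => ?_⟩
        · have e1 : cm (x * y) f = (x * cm y f * x⁻¹) * cm x f := by simp only [cm_def]; group
          rw [e1]
          exact mul_mem (conj_mem_of_mem (hHI hx) (h3 f hf)) (h1 f hf)
        · have e1 : cm (x * y) f = (x * cm y f * x⁻¹) * cm x f := by simp only [cm_def]; group
          rw [e1, h4 f hf, h2 f hf]; group
      one_mem' := ⟨one_mem _, fun f _ => by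
        have e1 : cm (1 : G) f = 1 := by rw [cm_def]; group
        rw [e1]; exact one_mem _, fun f _ => by rw [cm_def]; group⟩
      inv_mem' := by
        rintro x ⟨hx, h1, h2⟩
        refine ⟨inv_mem hx, fun f hf => ?_, fun f hf => ?_⟩
        · have e1 : cm x⁻¹ f = x⁻¹ * (cm x f)⁻¹ * x⁻¹⁻¹ := by simp only [cm_def]; group
          rw [e1]
          exact conj_mem_of_mem (hHI (inv_mem hx)) (inv_mem (h1 f hf))
        · have e1 : cm x⁻¹ f = x⁻¹ * (cm x f)⁻¹ * x⁻¹⁻¹ := by simp only [cm_def]; group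
          rw [e1, h2 f hf]; group }
  have hconj : ∀ {k x y : G}, cm (k * x * k⁻¹) y = k * cm x (k⁻¹ * y * k) * k⁻¹ := by
    intro k x y; simp only [cm_def]; group
  have hM₀n : H ≤ normalizer (M₀ : Set G) := by
    refine le_normalizer_of fun k hk x hx => ?_
    obtain ⟨hx, h3, h4⟩ := hx
    refine ⟨mul_mem (mul_mem hk hx) (inv_mem hk), fun f hf => ?_, fun f hf => ?_⟩
    · rw [hconj]
      refine conj_mem_of_mem (hHI hk) (h3 _ ?_)
      have h5 := conj_mem_of_mem (D.HU (inv_mem hk)) hf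
      rwa [inv_inv] at h5
    · rw [hconj, h4 _ (by
        have h5 := conj_mem_of_mem (hHI (inv_mem hk)) hf
        rwa [inv_inv] at h5)]
      group
  have hKn : H ≤ normalizer ((H ⊓ centralizer (zl (S : Subgroup G) H : Set G) : Subgroup G) : Set G) := by
    refine le_normalizer_of fun h hh x hx => mem_inf.mpr ⟨mul_mem (mul_mem hh (mem_inf.mp hx).1) (inv_mem hh), ?_⟩
    rw [mem_centralizer_iff]
    intro y hy
    have hy' : h⁻¹ * y * h ∈ zl (S : Subgroup G) H := by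
      have h1 := conj_mem_of_mem (D.HU (inv_mem hh)) hy
      rwa [inv_inv] at h1
    have h1 := mem_centralizer_iff.mp (mem_inf.mp hx).2 _ hy'
    calc y * (h * x * h⁻¹) = h * ((h⁻¹ * y * h) * x) * h⁻¹ := by group
      _ = h * (x * (h⁻¹ * y * h)) * h⁻¹ := by rw [h1]
      _ = h * x * h⁻¹ * y := by group
  have hle := le_sup_inf S (H := H) (M₀ := M₀) (K₀ := H ⊓ centralizer (zl (S : Subgroup G) H : Set G)) D.SH
    (fun x hx => hx.1) hM₀n inf_le_left hKn (by
      rintro x ⟨hx, h3, h4⟩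
      refine mem_inf.mpr ⟨pow_mem hx 2, ?_⟩
      rw [mem_centralizer_iff]
      intro f hf
      have h5 := h3 f hf
      have h6 : cm x (cm x f) = 1 := h4 _ h5
      have h7 : x * cm x f = cm x f * x := by
        have h8 : cm x (cm x f) * (cm x f * x) = x * cm x f := by simp only [cm_def]; group
        rw [← h8, h6, one_mul]
      have h9 := D.sqU (hI h5)
      have h10 : x * f = cm x f * f * x := by rw [cm_def]; group
      calc f * x ^ 2 = (cm x f * cm x f) * f * x * x := by rw [h9, pow_two]; group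
        _ = cm x f * (cm x f * f * x) * x := by group
        _ = cm x f * (x * f) * x := by rw [← h10]
        _ = (cm x f * x) * f * x := by group
        _ = x * (cm x f * f * x) := by rw [← h7]; group
        _ = x * (x * f) := by rw [← h10]
        _ = x ^ 2 * f := by rw [pow_two]; group)
  have hMZ : M₀ ≤ centralizer (zc (S : Subgroup G) : Set G) :=
    hle.trans (sup_le (inf_le_right.trans (centralizer_le D.ZU)) (inf_le_left.trans (le_CZ S)))
  have hMU : M₀ ≤ centralizer (zl (S : Subgroup G) H : Set G) := by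
    rw [le_centralizer_iff]
    refine zl_le ?_ ?_
    · rw [le_centralizer_iff]; exact hMZ
    · refine le_normalizer_of fun k hk x hx => ?_
      rw [mem_centralizer_iff] at hx ⊢
      intro m hm
      have hm' : k⁻¹ * m * k ∈ M₀ := by
        have h5 := conj_mem_of_mem (hM₀n (inv_mem hk)) hm
        rwa [inv_inv] at h5
      have h6 := hx _ hm'
      calc m * (k * x * k⁻¹) = k * ((k⁻¹ * m * k) * x) * k⁻¹ := by group
        _ = k * (x * (k⁻¹ * m * k)) * k⁻¹ := by rw [h6]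
        _ = k * x * k⁻¹ * m := by group
  intro x hx
  have h3 := mem_centralizer_iff.mp (hMU ⟨hh, h1, h2⟩) x hx
  rw [cm_def, ← h3]
  group

omit [Finite G] D in
theorem cm_eq_one {x y : G} : cm x y = 1 ↔ x * y = y * x := by
  rw [cm_def]
  constructor
  · intro h
    calc x * y = (x * y * x⁻¹ * y⁻¹) * (y * x) := by group
      _ = y * x := by rw [h, one_mul]
  · intro h
    rw [h]
    group

/-- **(TR)** for `h ∈ N` -/
theorem tr_N {h : G} (hh : h ∈ NN (S : Subgroup G) P H)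
    (h1 : ∀ x ∈ zl (S : Subgroup G) H, cm h x ∈ Rr (S : Subgroup G) P H) :
    ∀ x ∈ zl (S : Subgroup G) H, cm h x = 1 :=
  D.triv D.RU D.HR (D.NN_le_H hh) h1 fun _ hx => cm_eq_one.mpr (mem_centralizer_iff.mp (mem_inf.mp hx).2 h hh)

/-- **(TR)** for `h ∈ C` -/
theorem tr_C {h : G} (hh : h ∈ CZ (S : Subgroup G))
    (h1 : ∀ x ∈ zl (S : Subgroup G) H, cm h x ∈ Rr (S : Subgroup G) P H) :
    ∀ x ∈ zl (S : Subgroup G) H, cm h x = 1 := by
  -- `A₀`: the elements centralised by `h`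
  set A₀ : Subgroup G := zl (S : Subgroup G) H ⊓ centralizer ({h} : Set G) with hA₀
  have hcm : ∀ n ∈ NN (S : Subgroup G) P H, ∀ x ∈ zl (S : Subgroup G) H, cm (cm h n) x = 1 := by
    intro n hn
    have h2 : cm h n ∈ NN (S : Subgroup G) P H := by
      rw [cm_def]
      exact mul_mem (conj_mem_of_mem (le_normalizer_NN _ _ _ (D.CH hh)) hn) (inv_mem hn)
    refine D.tr_N h2 ?_
    -- the elements acting trivially on `U / R`
    intro x hx
    have hR : ∀ {a y : G}, a ∈ H → y ∈ Rr (S : Subgroup G) P H → a * y * a⁻¹ ∈ Rr (S : Subgroup G) P H :=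
      fun ha hy => conj_mem_of_mem (D.HR ha) hy
    have hnH := D.NN_le_H hn
    have hhH := D.CH hh
    have hU : ∀ {a y : G}, a ∈ H → y ∈ zl (S : Subgroup G) H → a * y * a⁻¹ ∈ zl (S : Subgroup G) H :=
      fun ha hy => conj_mem_of_mem (D.HU ha) hy
    -- `[h n h⁻¹ n⁻¹, x]`
    have e1 : cm (cm h n) x = (h * (n * cm h⁻¹ (n⁻¹ * x * n) * n⁻¹) * h⁻¹) * cm h x := by
      simp only [cm_def]; group
    have h3 : n⁻¹ * x * n ∈ zl (S : Subgroup G) H := by
      have := hU (inv_mem hnH) hx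
      rwa [inv_inv] at this
    have h4 : cm h⁻¹ (n⁻¹ * x * n) ∈ Rr (S : Subgroup G) P H := by
      have e2 : cm h⁻¹ (n⁻¹ * x * n) = h⁻¹ * (cm h (n⁻¹ * x * n))⁻¹ * h⁻¹⁻¹ := by simp only [cm_def]; group
      rw [e2]
      exact hR (inv_mem hhH) (inv_mem (h1 _ h3))
    rw [e1]
    exact mul_mem (hR hhH (hR hnH h4)) (h1 x hx)
  -- `[n, x] ∈ A₀`
  have h2 : ∀ n ∈ NN (S : Subgroup G) P H, ∀ x ∈ zl (S : Subgroup G) H, h * cm n x = cm n x * h := by
    intro n hn x hx
    have hhH := D.CH hh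
    have hnH := D.NN_le_H hn
    have hU : ∀ {a y : G}, a ∈ H → y ∈ zl (S : Subgroup G) H → a * y * a⁻¹ ∈ zl (S : Subgroup G) H :=
      fun ha hy => conj_mem_of_mem (D.HU ha) hy
    -- `h (n x n⁻¹) h⁻¹ = n (h x h⁻¹) n⁻¹` up to `C(U)`
    have hx' := hU (mul_mem hnH hhH) hx
    have h3 : cm (cm h n) (n * h * x * (n * h)⁻¹) = 1 := hcm n hn _ hx'
    have h4 : h * (n * x * n⁻¹) * h⁻¹ = n * (h * x * h⁻¹) * n⁻¹ := by
      have h5 := cm_eq_one.mp h3
      calc h * (n * x * n⁻¹) * h⁻¹ = (cm h n) * (n * h * x * (n * h)⁻¹) * (cm h n)⁻¹ := by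
            simp only [cm_def]; group
        _ = (n * h * x * (n * h)⁻¹) * (cm h n) * (cm h n)⁻¹ := by rw [h5]
        _ = n * (h * x * h⁻¹) * n⁻¹ := by group
    -- `n` centralises `[h, x] ∈ R`
    have h6 : n * cm h x * n⁻¹ = cm h x := by
      rw [mem_centralizer_iff.mp (mem_inf.mp (h1 x hx)).2 n hn, mul_inv_cancel_right]
    have h7 : n * (h * x * h⁻¹) * n⁻¹ = cm h x * (n * x * n⁻¹) := by
      calc n * (h * x * h⁻¹) * n⁻¹ = (n * cm h x * n⁻¹) * (n * x * n⁻¹) := by simp only [cm_def]; group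
        _ = cm h x * (n * x * n⁻¹) := by rw [h6]
    have e8 : h * x * h⁻¹ = cm h x * x := by rw [cm_def]; group
    have hnx : n * x * n⁻¹ ∈ zl (S : Subgroup G) H := hU hnH hx
    have hc : cm h x ∈ zl (S : Subgroup G) H := D.RU (h1 x hx)
    have h9 : h * cm n x * h⁻¹ = cm n x := by
      calc h * cm n x * h⁻¹ = (h * (n * x * n⁻¹) * h⁻¹) * (h * x * h⁻¹)⁻¹ := by simp only [cm_def]; group
        _ = (cm h x * (n * x * n⁻¹)) * (cm h x * x)⁻¹ := by rw [h4, h7, e8]
        _ = ((n * x * n⁻¹) * cm h x) * (cm h x * x)⁻¹ := by rw [D.commU hc hnx]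
        _ = n * x * n⁻¹ * (cm h x * x⁻¹) * (cm h x)⁻¹ := by rw [mul_inv_rev]; group
        _ = n * x * n⁻¹ * (x⁻¹ * cm h x) * (cm h x)⁻¹ := by rw [D.commU hc (inv_mem hx)]
        _ = cm n x := by rw [cm_def n x]; group
    calc h * cm n x = (h * cm n x * h⁻¹) * h := by group
      _ = cm n x * h := by rw [h9]
  -- `U ≤ A₀`
  have hZA : zc (S : Subgroup G) ≤ A₀ := by
    intro z hz
    refine mem_inf.mpr ⟨D.ZU hz, ?_⟩
    rw [mem_centralizer_iff]
    rintro _ rfl
    exact (mem_centralizer_iff.mp hh z hz).symm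
  have hA : ∀ z ∈ zc (S : Subgroup G), ∀ k ∈ H, k * z * k⁻¹ ∈ A₀ := by
    intro z hz k hk
    obtain ⟨n, hn, c, hc, rfl⟩ := D.exists_nc hk
    have e1 : n * c * z * (n * c)⁻¹ = cm n z * z := by
      have h3 : c * z * c⁻¹ = z := C_cent hz hc
      calc n * c * z * (n * c)⁻¹ = n * (c * z * c⁻¹) * n⁻¹ := by group
        _ = cm n z * z := by rw [h3, cm_def]; group
    rw [e1]
    refine mul_mem (mem_inf.mpr ⟨?_, ?_⟩) (hZA hz)
    · have e2 : cm n z = (n * z * n⁻¹) * z⁻¹ := by rw [cm_def]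
      rw [e2]
      exact mul_mem (conj_mem_of_mem (D.HU (D.NN_le_H hn)) (D.ZU hz)) (inv_mem (D.ZU hz))
    · rw [mem_centralizer_iff]
      rintro _ rfl
      exact h2 n hn z (D.ZU hz)
  intro x hx
  have hUA : zl (S : Subgroup G) H ≤ A₀ := NoFF.Basic.V_le (Z := zc (S : Subgroup G)) fun k hk y hy => by
    rw [mem_conj] at hy
    have h3 := hA _ hy k hk
    have e1 : k * (k⁻¹ * y * k) * k⁻¹ = y := by group
    rwa [e1] at h3
  exact cm_eq_one.mpr (mem_centralizer_iff.mp (mem_inf.mp (hUA hx)).2 h rfl)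

/-! ### (MIN) -/

/-- **(MIN)** `x ∈ Z^h - F` implies `V^h ≤ O₂(C_H(x))`. -/
theorem min_o2 {h x : G} (hh : h ∈ H) (hx : x ∈ MulAut.conj h • zc (S : Subgroup G)) (hxF : x ∉ Fc (S : Subgroup G) H) :
    MulAut.conj h • zl (S : Subgroup G) P ≤ o2 (H ⊓ centralizer ({x} : Set G)) := by
  rw [mem_conj] at hx
  set y := h⁻¹ * x * h with hy
  have e1 : x = h * y * h⁻¹ := by rw [hy]; group
  have hyF : y ∉ Fc (S : Subgroup G) H := by
    intro h1
    apply hxF
    rw [e1, Fc_conj h1 hh]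
    exact h1
  have hy1 : y ≠ 1 := fun h1 => hyF (h1 ▸ one_mem _)
  have hl0 := isLong S hx hy1
  have hl : IsLong (S : Subgroup G) (H ⊓ centralizer ({y} : Set G)) :=
    ⟨hl0.loc.of_le S (le_inf D.SH hl0.loc.le) inf_le_right, le_inf D.CH hl0.cz⟩
  have hne : H ⊓ centralizer ({y} : Set G) ≠ H := by
    intro h1
    apply hyF
    refine mem_inf.mpr ⟨hx, ?_⟩
    rw [mem_centralizer_iff]
    intro k hk
    exact (mem_centralizer_iff.mp ((inf_eq_left.mp h1) hk) y rfl).symm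
  have h2 : zl (S : Subgroup G) P ≤ o2 (H ⊓ centralizer ({y} : Set G)) :=
    le_o2_of_comm (D.data.low P D.par) hl (D.min _ hl inf_le_left hne)
  have h3 := (conj_le_iff (g := h)).2 h2
  rw [← show o2 (MulAut.conj h • (H ⊓ centralizer ({y} : Set G))) = MulAut.conj h • o2 (H ⊓ centralizer ({y} : Set G)) from o2_map_equiv (MulAut.conj h) _] at h3
  have e2 : MulAut.conj h • (H ⊓ centralizer ({y} : Set G)) = H ⊓ centralizer ({x} : Set G) := by
    rw [Subgroup.smul_inf, conj_eq_of_mem (Subgroup.le_normalizer hh)]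
    congr 1
    ext g
    rw [mem_conj, mem_centralizer_singleton_iff, mem_centralizer_singleton_iff, e1]
    constructor
    · intro h4
      calc g * (h * y * h⁻¹) = h * ((h⁻¹ * g * h) * y) * h⁻¹ := by group
        _ = h * (y * (h⁻¹ * g * h)) * h⁻¹ := by rw [h4]
        _ = (h * y * h⁻¹) * g := by group
    · intro h4
      calc (h⁻¹ * g * h) * y = h⁻¹ * (g * (h * y * h⁻¹)) * h := by group
        _ = h⁻¹ * ((h * y * h⁻¹) * g) * h := by rw [h4]
        _ = y * (h⁻¹ * g * h) := by group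
  rwa [e2] at h3

end HypQ

end Cfsg.Agent.Omega.NOThreeL.RA

end

section


/-!
# NO-3L, `R ∩ (A)`, one natural factor, field automorphisms (`NsF`, #21454, #21360, #22083): the minimal pair

`HypM S P H` : `P ∈ P*(S)`, `H` long and minimal (below itself) with `[V, U] ≠ 1`, `V = V_P = zl S P`, `U = U_H = zl S H`.

`N = NN S P H = ⟨V^H⟩`, `R = Rr S P H = C_U(N)`, `Y = Yy S P H = C_U(V)`, `F = Fc S H = C_Z(H)`.

* `le_sup`, `exists_nc` : `H = N C`; `not_cent` : `C_E(N) = 1`; `inf_E` : `F ∩ E = 1`; `R_inf_Z` : `R ∩ Z = F`;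
* `triv` : a subgroup trivial on `U / I` and on `I` is trivial on `U`;
* **`tr_N`**, **`tr_C`** (TR) : `h ∈ N` or `h ∈ C`, `[h, U] ≤ R` implies `[h, U] = 1`;
* **`min_o2`** (MIN) : `x ∈ Z^h - F` implies `V^h ≤ O₂(C_H(x))`.

(The same statements and proofs as in `RA.Base`, without coordinates.)
-/

set_option autoImplicit false
set_option linter.unusedSectionVars false

namespace Cfsg.Agent.Omega.NOThreeL.RF

open Subgroup Cfsg Cfsg.Agent.Omega.MinPar
open Cfsg.Agent.ZN (zc zl o2)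
open Cfsg.Agent.Omega.Frame Cfsg.Agent.Omega.FrameNOFF
open Cfsg.Agent.Omega.Node.NO3L Cfsg.Agent.Omega.NOThreeL.Basic
open Cfsg.Agent.Omega.NoFF.Basic (conj_conj mem_conj conj_le_iff conj_le_centralizer comm_symm comm_mono)
open Cfsg.Agent.Omega.NOThreeL.Pair (conj_eq_of_mem conj_le_normalizer zl_abel)
open Cfsg.Agent.MinSimple.VModule (zl_le zc_le_zl le_normalizer_zl zc_le o2_isPGroup le_normalizer_o2 le_o2
  normalizer_le_normalizer_zc)
open Cfsg.Agent.Omega.NOThreeL (mem_normalizer_of_conj_eq le_normalizer_of mem_sup_of_comm)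
open Cfsg.Agent.Omega.NOThreeL.RTools (cm cm_def cm_mul NN conj_mem_of_mem conj_le_NN le_NN NN_le le_normalizer_NN
  le_sup_inf isLong)
open Cfsg.Agent.Omega.NOThreeL.RA (Fc Yy Rr le_o2_of_pairs)
open scoped Pointwise

universe u

variable {G : Type u} [Group G]

/-- The minimal pair. -/
structure HypM [Finite G] (S : Sylow 2 G) (P H : Subgroup G) : Prop where
  hc : IsCharacteristicTwoType G
  data : Data (S : Subgroup G)
  par : IsParS (S : Subgroup G) P
  long : IsLong (S : Subgroup G) H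
  ne : ¬ zl (S : Subgroup G) P ≤ centralizer (zl (S : Subgroup G) H : Set G)
  min : ∀ H₁ : Subgroup G, IsLong (S : Subgroup G) H₁ → H₁ ≤ H → H₁ ≠ H →
    zl (S : Subgroup G) P ≤ centralizer (zl (S : Subgroup G) H₁ : Set G)

namespace HypM

variable [Finite G] {S : Sylow 2 G} {P H : Subgroup G} (D : HypM S P H)
include D

/-! ### elementary facts -/

theorem commV {x y : G} (hx : x ∈ zl (S : Subgroup G) P) (hy : y ∈ zl (S : Subgroup G) P) : x * y = y * x :=
  mem_centralizer_iff.mp ((zl_abel D.hc S D.par.isLoc).1 hy) x hx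

theorem sqV {x : G} (hx : x ∈ zl (S : Subgroup G) P) : x * x = 1 := by
  have h := (zl_abel D.hc S D.par.isLoc).2 x hx
  rwa [pow_two] at h

theorem commU {x y : G} (hx : x ∈ zl (S : Subgroup G) H) (hy : y ∈ zl (S : Subgroup G) H) : x * y = y * x :=
  mem_centralizer_iff.mp ((zl_abel D.hc S D.long.loc).1 hy) x hx

theorem sqU {x : G} (hx : x ∈ zl (S : Subgroup G) H) : x * x = 1 := by
  have h := (zl_abel D.hc S D.long.loc).2 x hx
  rwa [pow_two] at h

theorem SH : (S : Subgroup G) ≤ H := D.long.loc.le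

theorem SP : (S : Subgroup G) ≤ P := D.par.le

theorem VS : zl (S : Subgroup G) P ≤ (S : Subgroup G) := IsParS.zl_le_S D.hc D.par

theorem US : zl (S : Subgroup G) H ≤ (S : Subgroup G) := IsLong.zl_le_S D.hc D.long

theorem CH : CZ (S : Subgroup G) ≤ H := D.long.cz

theorem ZU : zc (S : Subgroup G) ≤ zl (S : Subgroup G) H := zc_le_zl _ _

theorem ZV : zc (S : Subgroup G) ≤ zl (S : Subgroup G) P := zc_le_zl _ _

theorem ZS : zc (S : Subgroup G) ≤ (S : Subgroup G) := zc_le _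

theorem VH : zl (S : Subgroup G) P ≤ H := D.VS.trans D.SH

theorem HU : H ≤ normalizer (zl (S : Subgroup G) H : Set G) := le_normalizer_zl _ _

theorem PV : P ≤ normalizer (zl (S : Subgroup G) P : Set G) := le_normalizer_zl _ _

omit D in
theorem zcomm {z s : G} (hz : z ∈ zc (S : Subgroup G)) (hs : s ∈ (S : Subgroup G)) : s * z = z * s :=
  (Cfsg.Agent.MinSimple.VModule.mem_zc.1 hz).2.1 s hs

/-- `O₂(H)` centralises `U` -/
theorem o2_cent : o2 H ≤ centralizer (zl (S : Subgroup G) H : Set G) :=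
  Cfsg.Agent.MinSimple.VModule.o2_le_centralizer_zl D.long.loc.le S.isPGroup'
    (MinSimple.Basic.not_dvd_relIndex S D.long.loc.le) (D.long.loc.char2 S D.hc)

/-! ### `H = N C` -/

theorem NN_le_H : NN (S : Subgroup G) P H ≤ H := NN_le fun x hx => by
  have h1 := conj_le_iff (g := x).2 D.VH
  rwa [conj_eq_of_mem (Subgroup.le_normalizer hx)] at h1

theorem C_norm_NN : CZ (S : Subgroup G) ≤ normalizer (NN (S : Subgroup G) P H : Set G) :=
  D.CH.trans (le_normalizer_NN _ _ _)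

/-- **(0)** `H = N C` -/
theorem le_sup : H ≤ NN (S : Subgroup G) P H ⊔ CZ (S : Subgroup G) := by
  by_contra hcon
  set H₁ := NN (S : Subgroup G) P H ⊔ CZ (S : Subgroup G) with hH1
  have hle : H₁ ≤ H := sup_le D.NN_le_H D.CH
  have hne : H₁ ≠ H := fun h => hcon (by rw [h])
  have hl : IsLong (S : Subgroup G) H₁ :=
    ⟨D.long.loc.of_le S ((le_CZ S).trans le_sup_right) hle, le_sup_right⟩
  have h1 := D.min H₁ hl hle hne
  have h2 : zl (S : Subgroup G) P ≤ o2 H₁ := le_o2_of_comm (D.data.low P D.par) hl h1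
  -- `V ≤ O₂(N) ≤ O₂(H)`
  have h3 : zl (S : Subgroup G) P ≤ o2 (NN (S : Subgroup G) P H) := by
    have h4 : o2 H₁ ⊓ NN (S : Subgroup G) P H ≤ o2 (NN (S : Subgroup G) P H) := by
      refine le_o2 inf_le_right ((o2_isPGroup _).to_le inf_le_left) ?_
      intro g hg
      have h5 := le_normalizer_o2 H₁ ((le_sup_left : NN (S : Subgroup G) P H ≤ H₁) hg)
      rw [mem_normalizer_iff] at h5 ⊢
      intro x
      rw [mem_inf, mem_inf, h5 x, mem_normalizer_iff.mp (Subgroup.le_normalizer hg) x]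
    exact (le_inf h2 (le_NN _ _ _)).trans h4
  have h6 : o2 (NN (S : Subgroup G) P H) ≤ o2 H := by
    refine le_o2 ((Cfsg.Agent.MinSimple.VModule.o2_le _).trans D.NN_le_H) (o2_isPGroup _) ?_
    refine (le_normalizer_NN (S : Subgroup G) P H).trans ?_
    exact Cfsg.Agent.Omega.normalizer_le_normalizer_o2' _
  exact D.ne ((h3.trans h6).trans D.o2_cent)

theorem exists_nc {h : G} (hh : h ∈ H) : ∃ n ∈ NN (S : Subgroup G) P H, ∃ c ∈ CZ (S : Subgroup G), h = n * c := by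
  have h1 : h ∈ ((NN (S : Subgroup G) P H ⊔ CZ (S : Subgroup G) : Subgroup G) : Set G) := D.le_sup hh
  rw [coe_mul_of_right_le_normalizer_left _ _ D.C_norm_NN] at h1
  obtain ⟨n, hn, c, hc, rfl⟩ := Set.mem_mul.mp h1
  exact ⟨n, hn, c, hc, rfl⟩

omit D in
theorem C_cent {z c : G} (hz : z ∈ zc (S : Subgroup G)) (hc : c ∈ CZ (S : Subgroup G)) : c * z * c⁻¹ = z := by
  rw [← mem_centralizer_iff.mp hc z hz, mul_inv_cancel_right]

/-- the points are the `Z^n`, `n ∈ N` -/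
theorem exists_conj {h : G} (hh : h ∈ H) : ∃ n ∈ NN (S : Subgroup G) P H,
    MulAut.conj h • zc (S : Subgroup G) = MulAut.conj n • zc (S : Subgroup G) := by
  obtain ⟨n, hn, c, hc, rfl⟩ := D.exists_nc hh
  refine ⟨n, hn, ?_⟩
  rw [← conj_conj, conj_eq_of_mem (centralizer_le_normalizer _ hc)]

/-- **(0)** : no `1 ≠ z ∈ E` is centralised by `N`. -/
theorem not_cent {z : G} (hz : z ∈ zc (S : Subgroup G)) (hzP : z ∈ centralizer (P : Set G))
    (hzN : z ∈ centralizer (NN (S : Subgroup G) P H : Set G)) : z = 1 := by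
  by_contra hz1
  have hL : IsLong (S : Subgroup G) (centralizer ({z} : Set G)) := isLong S hz hz1
  have hHz : H ≤ centralizer ({z} : Set G) := by
    intro h hh
    obtain ⟨n, hn, c, hc, rfl⟩ := D.exists_nc hh
    refine mul_mem ?_ (hL.cz hc)
    rw [mem_centralizer_iff]
    rintro _ rfl
    exact (mem_centralizer_iff.mp hzN n hn).symm
  have hPz : P ≤ centralizer ({z} : Set G) := by
    intro p hp
    rw [mem_centralizer_iff]
    rintro _ rfl
    exact (mem_centralizer_iff.mp hzP p hp).symm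
  have h1 : zl (S : Subgroup G) P ≤ zl (S : Subgroup G) (centralizer ({z} : Set G)) :=
    zl_le (zc_le_zl _ _) (hPz.trans (le_normalizer_zl _ _))
  have h2 : zl (S : Subgroup G) H ≤ zl (S : Subgroup G) (centralizer ({z} : Set G)) :=
    zl_le (zc_le_zl _ _) (hHz.trans (le_normalizer_zl _ _))
  exact D.ne (comm_mono (zl_abel D.hc S hL.loc).1 h1 h2)

/-! ### `R`, `F` -/

/-- `R ∩ Z = F` -/
theorem R_inf_Z : Rr (S : Subgroup G) P H ⊓ zc (S : Subgroup G) = Fc (S : Subgroup G) H := by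
  apply le_antisymm
  · intro x hx
    obtain ⟨hx1, hx2⟩ := mem_inf.mp hx
    refine mem_inf.mpr ⟨hx2, ?_⟩
    rw [mem_centralizer_iff]
    intro h hh
    obtain ⟨n, hn, c, hc, rfl⟩ := D.exists_nc hh
    have h1 := mem_centralizer_iff.mp (mem_inf.mp hx1).2 n hn
    have h2 : c * x = x * c := (mem_centralizer_iff.mp hc x hx2).symm
    calc n * c * x = n * (c * x) := by group
      _ = (n * x) * c := by rw [h2]; group
      _ = x * (n * c) := by rw [h1]; group
  · intro x hx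
    obtain ⟨hx1, hx2⟩ := mem_inf.mp hx
    exact mem_inf.mpr ⟨mem_inf.mpr ⟨D.ZU hx1, centralizer_le D.NN_le_H hx2⟩, hx1⟩

/-- `F ∩ E = 1` -/
theorem inf_E : Fc (S : Subgroup G) H ⊓ centralizer (P : Set G) = ⊥ := by
  rw [eq_bot_iff]
  intro x hx
  obtain ⟨hx1, hx2⟩ := mem_inf.mp hx
  rw [← D.R_inf_Z] at hx1
  exact mem_bot.mpr (D.not_cent (mem_inf.mp hx1).2 hx2 (mem_inf.mp (mem_inf.mp hx1).1).2)

omit [Finite G] D in
theorem Fc_conj {x h : G} (hx : x ∈ Fc (S : Subgroup G) H) (hh : h ∈ H) : h * x * h⁻¹ = x := by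
  rw [mem_centralizer_iff.mp (mem_inf.mp hx).2 h hh, mul_inv_cancel_right]

omit [Finite G] D in
/-- `F ≤ Z^h` -/
theorem Fc_le {h : G} (hh : h ∈ H) : Fc (S : Subgroup G) H ≤ MulAut.conj h • zc (S : Subgroup G) := by
  intro x hx
  rw [mem_conj]
  have h1 := Fc_conj hx (inv_mem hh)
  rw [inv_inv] at h1
  rw [h1]
  exact (mem_inf.mp hx).1

theorem HR : H ≤ normalizer (Rr (S : Subgroup G) P H : Set G) := by
  refine le_normalizer_of fun h hh x hx => mem_inf.mpr ⟨conj_mem_of_mem (D.HU hh) (mem_inf.mp hx).1, ?_⟩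
  rw [mem_centralizer_iff]
  intro y hy
  have hy' : h⁻¹ * y * h ∈ NN (S : Subgroup G) P H := by
    have h1 := conj_mem_of_mem (le_normalizer_NN (S : Subgroup G) P H (inv_mem hh)) hy
    rwa [inv_inv] at h1
  have h1 := mem_centralizer_iff.mp (mem_inf.mp hx).2 _ hy'
  calc y * (h * x * h⁻¹) = h * ((h⁻¹ * y * h) * x) * h⁻¹ := by group
    _ = h * (x * (h⁻¹ * y * h)) * h⁻¹ := by rw [h1]
    _ = h * x * h⁻¹ * y := by group

theorem RU : Rr (S : Subgroup G) P H ≤ zl (S : Subgroup G) H := inf_le_left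

/-- `R ∩ Z^h = F` -/
theorem R_inf {h : G} (hh : h ∈ H) {x : G} (hx : x ∈ Rr (S : Subgroup G) P H)
    (hz : x ∈ MulAut.conj h • zc (S : Subgroup G)) : x ∈ Fc (S : Subgroup G) H := by
  rw [mem_conj] at hz
  have h1 : h⁻¹ * x * h ∈ Rr (S : Subgroup G) P H := by
    have h2 := conj_mem_of_mem (D.HR (inv_mem hh)) hx
    rwa [inv_inv] at h2
  have h2 : h⁻¹ * x * h ∈ Fc (S : Subgroup G) H := by
    rw [← D.R_inf_Z]
    exact mem_inf.mpr ⟨h1, hz⟩
  have h3 := Fc_conj h2 hh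
  have e1 : h * (h⁻¹ * x * h) * h⁻¹ = x := by group
  rw [e1] at h3
  rw [h3]
  exact h2

/-! ### (TR) -/

/-- a subgroup of `H` trivial on `U / I` and on `I` is trivial on `U` -/
theorem triv {I : Subgroup G} (hI : I ≤ zl (S : Subgroup G) H) (hHI : H ≤ normalizer (I : Set G)) {h : G} (hh : h ∈ H)
    (h1 : ∀ x ∈ zl (S : Subgroup G) H, cm h x ∈ I) (h2 : ∀ x ∈ I, cm h x = 1) :
    ∀ x ∈ zl (S : Subgroup G) H, cm h x = 1 := by
  let M₀ : Subgroup G :=
    { carrier := {h | h ∈ H ∧ (∀ x ∈ zl (S : Subgroup G) H, cm h x ∈ I) ∧ ∀ x ∈ I, cm h x = 1}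
      mul_mem' := by
        rintro x y ⟨hx, h1, h2⟩ ⟨hy, h3, h4⟩
        refine ⟨mul_mem hx hy, fun f hf => ?_, fun f hf => ?_⟩
        · have e1 : cm (x * y) f = (x * cm y f * x⁻¹) * cm x f := by simp only [cm_def]; group
          rw [e1]
          exact mul_mem (conj_mem_of_mem (hHI hx) (h3 f hf)) (h1 f hf)
        · have e1 : cm (x * y) f = (x * cm y f * x⁻¹) * cm x f := by simp only [cm_def]; group
          rw [e1, h4 f hf, h2 f hf]; group
      one_mem' := ⟨one_mem _, fun f _ => by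
        have e1 : cm (1 : G) f = 1 := by rw [cm_def]; group
        rw [e1]; exact one_mem _, fun f _ => by rw [cm_def]; group⟩
      inv_mem' := by
        rintro x ⟨hx, h1, h2⟩
        refine ⟨inv_mem hx, fun f hf => ?_, fun f hf => ?_⟩
        · have e1 : cm x⁻¹ f = x⁻¹ * (cm x f)⁻¹ * x⁻¹⁻¹ := by simp only [cm_def]; group
          rw [e1]
          exact conj_mem_of_mem (hHI (inv_mem hx)) (inv_mem (h1 f hf))
        · have e1 : cm x⁻¹ f = x⁻¹ * (cm x f)⁻¹ * x⁻¹⁻¹ := by simp only [cm_def]; group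
          rw [e1, h2 f hf]; group }
  have hconj : ∀ {k x y : G}, cm (k * x * k⁻¹) y = k * cm x (k⁻¹ * y * k) * k⁻¹ := by
    intro k x y; simp only [cm_def]; group
  have hM₀n : H ≤ normalizer (M₀ : Set G) := by
    refine le_normalizer_of fun k hk x hx => ?_
    obtain ⟨hx, h3, h4⟩ := hx
    refine ⟨mul_mem (mul_mem hk hx) (inv_mem hk), fun f hf => ?_, fun f hf => ?_⟩
    · rw [hconj]
      refine conj_mem_of_mem (hHI hk) (h3 _ ?_)
      have h5 := conj_mem_of_mem (D.HU (inv_mem hk)) hf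
      rwa [inv_inv] at h5
    · rw [hconj, h4 _ (by
        have h5 := conj_mem_of_mem (hHI (inv_mem hk)) hf
        rwa [inv_inv] at h5)]
      group
  have hKn : H ≤ normalizer ((H ⊓ centralizer (zl (S : Subgroup G) H : Set G) : Subgroup G) : Set G) := by
    refine le_normalizer_of fun h hh x hx => mem_inf.mpr ⟨mul_mem (mul_mem hh (mem_inf.mp hx).1) (inv_mem hh), ?_⟩
    rw [mem_centralizer_iff]
    intro y hy
    have hy' : h⁻¹ * y * h ∈ zl (S : Subgroup G) H := by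
      have h1 := conj_mem_of_mem (D.HU (inv_mem hh)) hy
      rwa [inv_inv] at h1
    have h1 := mem_centralizer_iff.mp (mem_inf.mp hx).2 _ hy'
    calc y * (h * x * h⁻¹) = h * ((h⁻¹ * y * h) * x) * h⁻¹ := by group
      _ = h * (x * (h⁻¹ * y * h)) * h⁻¹ := by rw [h1]
      _ = h * x * h⁻¹ * y := by group
  have hle := le_sup_inf S (H := H) (M₀ := M₀) (K₀ := H ⊓ centralizer (zl (S : Subgroup G) H : Set G)) D.SH
    (fun x hx => hx.1) hM₀n inf_le_left hKn (by
      rintro x ⟨hx, h3, h4⟩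
      refine mem_inf.mpr ⟨pow_mem hx 2, ?_⟩
      rw [mem_centralizer_iff]
      intro f hf
      have h5 := h3 f hf
      have h6 : cm x (cm x f) = 1 := h4 _ h5
      have h7 : x * cm x f = cm x f * x := by
        have h8 : cm x (cm x f) * (cm x f * x) = x * cm x f := by simp only [cm_def]; group
        rw [← h8, h6, one_mul]
      have h9 := D.sqU (hI h5)
      have h10 : x * f = cm x f * f * x := by rw [cm_def]; group
      calc f * x ^ 2 = (cm x f * cm x f) * f * x * x := by rw [h9, pow_two]; group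
        _ = cm x f * (cm x f * f * x) * x := by group
        _ = cm x f * (x * f) * x := by rw [← h10]
        _ = (cm x f * x) * f * x := by group
        _ = x * (cm x f * f * x) := by rw [← h7]; group
        _ = x * (x * f) := by rw [← h10]
        _ = x ^ 2 * f := by rw [pow_two]; group)
  have hMZ : M₀ ≤ centralizer (zc (S : Subgroup G) : Set G) :=
    hle.trans (sup_le (inf_le_right.trans (centralizer_le D.ZU)) (inf_le_left.trans (le_CZ S)))
  have hMU : M₀ ≤ centralizer (zl (S : Subgroup G) H : Set G) := by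
    rw [le_centralizer_iff]
    refine zl_le ?_ ?_
    · rw [le_centralizer_iff]; exact hMZ
    · refine le_normalizer_of fun k hk x hx => ?_
      rw [mem_centralizer_iff] at hx ⊢
      intro m hm
      have hm' : k⁻¹ * m * k ∈ M₀ := by
        have h5 := conj_mem_of_mem (hM₀n (inv_mem hk)) hm
        rwa [inv_inv] at h5
      have h6 := hx _ hm'
      calc m * (k * x * k⁻¹) = k * ((k⁻¹ * m * k) * x) * k⁻¹ := by group
        _ = k * (x * (k⁻¹ * m * k)) * k⁻¹ := by rw [h6]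
        _ = k * x * k⁻¹ * m := by group
  intro x hx
  have h3 := mem_centralizer_iff.mp (hMU ⟨hh, h1, h2⟩) x hx
  rw [cm_def, ← h3]
  group

omit [Finite G] D in
theorem cm_eq_one {x y : G} : cm x y = 1 ↔ x * y = y * x := by
  rw [cm_def]
  constructor
  · intro h
    calc x * y = (x * y * x⁻¹ * y⁻¹) * (y * x) := by group
      _ = y * x := by rw [h, one_mul]
  · intro h
    rw [h]
    group

/-- **(TR)** for `h ∈ N` -/
theorem tr_N {h : G} (hh : h ∈ NN (S : Subgroup G) P H)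
    (h1 : ∀ x ∈ zl (S : Subgroup G) H, cm h x ∈ Rr (S : Subgroup G) P H) :
    ∀ x ∈ zl (S : Subgroup G) H, cm h x = 1 :=
  D.triv D.RU D.HR (D.NN_le_H hh) h1 fun _ hx => cm_eq_one.mpr (mem_centralizer_iff.mp (mem_inf.mp hx).2 h hh)

/-- **(TR)** for `h ∈ C` -/
theorem tr_C {h : G} (hh : h ∈ CZ (S : Subgroup G))
    (h1 : ∀ x ∈ zl (S : Subgroup G) H, cm h x ∈ Rr (S : Subgroup G) P H) :
    ∀ x ∈ zl (S : Subgroup G) H, cm h x = 1 := by
  -- `A₀`: the elements centralised by `h`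
  set A₀ : Subgroup G := zl (S : Subgroup G) H ⊓ centralizer ({h} : Set G) with hA₀
  have hcm : ∀ n ∈ NN (S : Subgroup G) P H, ∀ x ∈ zl (S : Subgroup G) H, cm (cm h n) x = 1 := by
    intro n hn
    have h2 : cm h n ∈ NN (S : Subgroup G) P H := by
      rw [cm_def]
      exact mul_mem (conj_mem_of_mem (le_normalizer_NN _ _ _ (D.CH hh)) hn) (inv_mem hn)
    refine D.tr_N h2 ?_
    -- the elements acting trivially on `U / R`
    intro x hx
    have hR : ∀ {a y : G}, a ∈ H → y ∈ Rr (S : Subgroup G) P H → a * y * a⁻¹ ∈ Rr (S : Subgroup G) P H :=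
      fun ha hy => conj_mem_of_mem (D.HR ha) hy
    have hnH := D.NN_le_H hn
    have hhH := D.CH hh
    have hU : ∀ {a y : G}, a ∈ H → y ∈ zl (S : Subgroup G) H → a * y * a⁻¹ ∈ zl (S : Subgroup G) H :=
      fun ha hy => conj_mem_of_mem (D.HU ha) hy
    -- `[h n h⁻¹ n⁻¹, x]`
    have e1 : cm (cm h n) x = (h * (n * cm h⁻¹ (n⁻¹ * x * n) * n⁻¹) * h⁻¹) * cm h x := by
      simp only [cm_def]; group
    have h3 : n⁻¹ * x * n ∈ zl (S : Subgroup G) H := by
      have := hU (inv_mem hnH) hx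
      rwa [inv_inv] at this
    have h4 : cm h⁻¹ (n⁻¹ * x * n) ∈ Rr (S : Subgroup G) P H := by
      have e2 : cm h⁻¹ (n⁻¹ * x * n) = h⁻¹ * (cm h (n⁻¹ * x * n))⁻¹ * h⁻¹⁻¹ := by simp only [cm_def]; group
      rw [e2]
      exact hR (inv_mem hhH) (inv_mem (h1 _ h3))
    rw [e1]
    exact mul_mem (hR hhH (hR hnH h4)) (h1 x hx)
  -- `[n, x] ∈ A₀`
  have h2 : ∀ n ∈ NN (S : Subgroup G) P H, ∀ x ∈ zl (S : Subgroup G) H, h * cm n x = cm n x * h := by
    intro n hn x hx
    have hhH := D.CH hh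
    have hnH := D.NN_le_H hn
    have hU : ∀ {a y : G}, a ∈ H → y ∈ zl (S : Subgroup G) H → a * y * a⁻¹ ∈ zl (S : Subgroup G) H :=
      fun ha hy => conj_mem_of_mem (D.HU ha) hy
    -- `h (n x n⁻¹) h⁻¹ = n (h x h⁻¹) n⁻¹` up to `C(U)`
    have hx' := hU (mul_mem hnH hhH) hx
    have h3 : cm (cm h n) (n * h * x * (n * h)⁻¹) = 1 := hcm n hn _ hx'
    have h4 : h * (n * x * n⁻¹) * h⁻¹ = n * (h * x * h⁻¹) * n⁻¹ := by
      have h5 := cm_eq_one.mp h3
      calc h * (n * x * n⁻¹) * h⁻¹ = (cm h n) * (n * h * x * (n * h)⁻¹) * (cm h n)⁻¹ := by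
            simp only [cm_def]; group
        _ = (n * h * x * (n * h)⁻¹) * (cm h n) * (cm h n)⁻¹ := by rw [h5]
        _ = n * (h * x * h⁻¹) * n⁻¹ := by group
    -- `n` centralises `[h, x] ∈ R`
    have h6 : n * cm h x * n⁻¹ = cm h x := by
      rw [mem_centralizer_iff.mp (mem_inf.mp (h1 x hx)).2 n hn, mul_inv_cancel_right]
    have h7 : n * (h * x * h⁻¹) * n⁻¹ = cm h x * (n * x * n⁻¹) := by
      calc n * (h * x * h⁻¹) * n⁻¹ = (n * cm h x * n⁻¹) * (n * x * n⁻¹) := by simp only [cm_def]; group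
        _ = cm h x * (n * x * n⁻¹) := by rw [h6]
    have e8 : h * x * h⁻¹ = cm h x * x := by rw [cm_def]; group
    have hnx : n * x * n⁻¹ ∈ zl (S : Subgroup G) H := hU hnH hx
    have hc : cm h x ∈ zl (S : Subgroup G) H := D.RU (h1 x hx)
    have h9 : h * cm n x * h⁻¹ = cm n x := by
      calc h * cm n x * h⁻¹ = (h * (n * x * n⁻¹) * h⁻¹) * (h * x * h⁻¹)⁻¹ := by simp only [cm_def]; group
        _ = (cm h x * (n * x * n⁻¹)) * (cm h x * x)⁻¹ := by rw [h4, h7, e8]
        _ = ((n * x * n⁻¹) * cm h x) * (cm h x * x)⁻¹ := by rw [D.commU hc hnx]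
        _ = n * x * n⁻¹ * (cm h x * x⁻¹) * (cm h x)⁻¹ := by rw [mul_inv_rev]; group
        _ = n * x * n⁻¹ * (x⁻¹ * cm h x) * (cm h x)⁻¹ := by rw [D.commU hc (inv_mem hx)]
        _ = cm n x := by rw [cm_def n x]; group
    calc h * cm n x = (h * cm n x * h⁻¹) * h := by group
      _ = cm n x * h := by rw [h9]
  -- `U ≤ A₀`
  have hZA : zc (S : Subgroup G) ≤ A₀ := by
    intro z hz
    refine mem_inf.mpr ⟨D.ZU hz, ?_⟩
    rw [mem_centralizer_iff]
    rintro _ rfl
    exact (mem_centralizer_iff.mp hh z hz).symm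
  have hA : ∀ z ∈ zc (S : Subgroup G), ∀ k ∈ H, k * z * k⁻¹ ∈ A₀ := by
    intro z hz k hk
    obtain ⟨n, hn, c, hc, rfl⟩ := D.exists_nc hk
    have e1 : n * c * z * (n * c)⁻¹ = cm n z * z := by
      have h3 : c * z * c⁻¹ = z := C_cent hz hc
      calc n * c * z * (n * c)⁻¹ = n * (c * z * c⁻¹) * n⁻¹ := by group
        _ = cm n z * z := by rw [h3, cm_def]; group
    rw [e1]
    refine mul_mem (mem_inf.mpr ⟨?_, ?_⟩) (hZA hz)
    · have e2 : cm n z = (n * z * n⁻¹) * z⁻¹ := by rw [cm_def]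
      rw [e2]
      exact mul_mem (conj_mem_of_mem (D.HU (D.NN_le_H hn)) (D.ZU hz)) (inv_mem (D.ZU hz))
    · rw [mem_centralizer_iff]
      rintro _ rfl
      exact h2 n hn z (D.ZU hz)
  intro x hx
  have hUA : zl (S : Subgroup G) H ≤ A₀ := NoFF.Basic.V_le (Z := zc (S : Subgroup G)) fun k hk y hy => by
    rw [mem_conj] at hy
    have h3 := hA _ hy k hk
    have e1 : k * (k⁻¹ * y * k) * k⁻¹ = y := by group
    rwa [e1] at h3
  exact cm_eq_one.mpr (mem_centralizer_iff.mp (mem_inf.mp (hUA hx)).2 h rfl)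

/-! ### (MIN) -/

/-- **(MIN)** `x ∈ Z^h - F` implies `V^h ≤ O₂(C_H(x))`. -/
theorem min_o2 {h x : G} (hh : h ∈ H) (hx : x ∈ MulAut.conj h • zc (S : Subgroup G)) (hxF : x ∉ Fc (S : Subgroup G) H) :
    MulAut.conj h • zl (S : Subgroup G) P ≤ o2 (H ⊓ centralizer ({x} : Set G)) := by
  rw [mem_conj] at hx
  set y := h⁻¹ * x * h with hy
  have e1 : x = h * y * h⁻¹ := by rw [hy]; group
  have hyF : y ∉ Fc (S : Subgroup G) H := by
    intro h1
    apply hxF
    rw [e1, Fc_conj h1 hh]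
    exact h1
  have hy1 : y ≠ 1 := fun h1 => hyF (h1 ▸ one_mem _)
  have hl0 := isLong S hx hy1
  have hl : IsLong (S : Subgroup G) (H ⊓ centralizer ({y} : Set G)) :=
    ⟨hl0.loc.of_le S (le_inf D.SH hl0.loc.le) inf_le_right, le_inf D.CH hl0.cz⟩
  have hne : H ⊓ centralizer ({y} : Set G) ≠ H := by
    intro h1
    apply hyF
    refine mem_inf.mpr ⟨hx, ?_⟩
    rw [mem_centralizer_iff]
    intro k hk
    exact (mem_centralizer_iff.mp ((inf_eq_left.mp h1) hk) y rfl).symm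
  have h2 : zl (S : Subgroup G) P ≤ o2 (H ⊓ centralizer ({y} : Set G)) :=
    le_o2_of_comm (D.data.low P D.par) hl (D.min _ hl inf_le_left hne)
  have h3 := (conj_le_iff (g := h)).2 h2
  rw [← show o2 (MulAut.conj h • (H ⊓ centralizer ({y} : Set G))) = MulAut.conj h • o2 (H ⊓ centralizer ({y} : Set G)) from o2_map_equiv (MulAut.conj h) _] at h3
  have e2 : MulAut.conj h • (H ⊓ centralizer ({y} : Set G)) = H ⊓ centralizer ({x} : Set G) := by
    rw [Subgroup.smul_inf, conj_eq_of_mem (Subgroup.le_normalizer hh)]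
    congr 1
    ext g
    rw [mem_conj, mem_centralizer_singleton_iff, mem_centralizer_singleton_iff, e1]
    constructor
    · intro h4
      calc g * (h * y * h⁻¹) = h * ((h⁻¹ * g * h) * y) * h⁻¹ := by group
        _ = h * (y * (h⁻¹ * g * h)) * h⁻¹ := by rw [h4]
        _ = (h * y * h⁻¹) * g := by group
    · intro h4
      calc (h⁻¹ * g * h) * y = h⁻¹ * (g * (h * y * h⁻¹)) * h := by group
        _ = h⁻¹ * ((h * y * h⁻¹) * g) * h := by rw [h4]
        _ = y * (h⁻¹ * g * h) := by group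
  rwa [e2] at h3

end HypM

end Cfsg.Agent.Omega.NOThreeL.RF

end

section


/-!
# NO-3L, `R ∩ (A)`, `k = 1`, nonsplit, field automorphisms (NsF), (f) END: the frame

`#22083` (helper618) (f) in the form of helper401: `V = V_P = zl S P`, `Z⁺ = Zp = Rp × Dp = C_V(S₀)`, `Dp = C_V(O²(P))`,
`H = H*` minimal over `B = T_P S` in `N_G(Rp)` with `V ≰ O₂(H)`, `U = zl S H`, `N = NN S P H = ⟨V^H⟩ ≤ C_G(Rp)`,
`I = Rr S P H = C_U(N)`, `Y = Yy S P H = C_U(V)`.

`HypF e S P H Zp Rp Dp B` : the literal data. This is #19087 with `Z := Zp`, `F := Rp`, `E := Dp`, (MIN) from (GD):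

* `exists_nb` : `H = N B`; `R_inf_Z` : `I ∩ Zp = Rp`; `triv`, `tr_N`, `tr_Z` (TR);
* **`V_le_o2N`** (MIN) : `x ∈ Zp^h - Rp` implies `V^h ≤ O₂(C_N(x))`.
-/

set_option autoImplicit false
set_option linter.unusedSectionVars false

namespace Cfsg.Agent.Omega.NOThreeL.RFEnd

open Subgroup Cfsg Cfsg.Agent.Omega.MinPar
open Cfsg.Agent.ZN (zc zl o2)
open Cfsg.Agent.Omega.Frame Cfsg.Agent.Omega.FrameNOFF
open Cfsg.Agent.Omega.Node.NO3L Cfsg.Agent.Omega.NOThreeL.Basic
open Cfsg.Agent.Omega.NoFF.Basic (conj_conj mem_conj conj_le_iff conj_le_centralizer comm_symm comm_mono)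
open Cfsg.Agent.Omega.NOThreeL.Pair (conj_eq_of_mem conj_le_normalizer zl_abel)
open Cfsg.Agent.MinSimple.VModule (zl_le zc_le_zl le_normalizer_zl zc_le o2_isPGroup le_normalizer_o2 le_o2
  normalizer_le_normalizer_zc)
open Cfsg.Agent.Omega.NOThreeL (mem_normalizer_of_conj_eq le_normalizer_of mem_sup_of_comm)
open Cfsg.Agent.Omega.NOThreeL.RTools (cm cm_def cm_mul NN conj_mem_of_mem conj_le_NN le_NN NN_le le_normalizer_NN
  le_sup_inf isLong)
open Cfsg.Agent.Omega.NOThreeL.AOne (Act)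
open Cfsg.Agent.Omega.NOThreeL.RA (Yy Rr le_o2_of_pairs)
open Cfsg.Agent.Lib.SL2Mat
open Cfsg.Agent.Omega.NatPair (ap ap_mul ap_one ap_inv_ap)
open scoped Pointwise commutatorElement

universe u

variable {G : Type u} [Group G]

/-- The frame hypotheses of (f): `Zp = Z⁺ = C_V(S₀)`, `Rp = R = [Z⁺, T_P]`, `Dp = C_V(O²(P))`, `B = T_P S`, `H = H*`. -/
structure HypF [Finite G] {F : Type} [Field F] (e : G → Fin 2 → F) (S : Sylow 2 G) (P H Zp Rp Dp B : Subgroup G) :
    Prop where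
  hc : IsCharacteristicTwoType G
  data : Data (S : Subgroup G)
  par : IsParS (S : Subgroup G) P
  loc : IsLoc (S : Subgroup G) H
  ne : ¬ zl (S : Subgroup G) P ≤ centralizer (zl (S : Subgroup G) H : Set G)
  /-- coordinates on `V / D` -/
  mul : ∀ v ∈ zl (S : Subgroup G) P, ∀ w ∈ zl (S : Subgroup G) P, e (v * w) = e v + e w
  surj : ∀ x : Fin 2 → F, ∃ v ∈ zl (S : Subgroup G) P, e v = x
  ker : ∀ v ∈ zl (S : Subgroup G) P, e v = 0 ↔ v ∈ Dp
  line : ∀ v ∈ zl (S : Subgroup G) P, e v 1 = 0 ↔ v ∈ Zp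
  lift : ∀ A : Matrix.SpecialLinearGroup (Fin 2) F, ∃ g ∈ P, Act e (zl (S : Subgroup G) P) g A
  up1 : ∀ u ∈ zl (S : Subgroup G) H, ∃ b, Act e (zl (S : Subgroup G) P) u (up b)
  up2 : ∀ b, ∃ u ∈ zl (S : Subgroup G) H, Act e (zl (S : Subgroup G) P) u (up b)
  cent : ∀ g ∈ zl (S : Subgroup G) H, Act e (zl (S : Subgroup G) P) g 1 → g ∈ centralizer (zl (S : Subgroup G) P : Set G)
  ZV : Zp ≤ zl (S : Subgroup G) P
  ZU : Zp ≤ zl (S : Subgroup G) H
  zcZ : zc (S : Subgroup G) ≤ Zp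
  RZ : Rp ≤ Zp
  DZ : Dp ≤ Zp
  ZRD : Zp ≤ Rp ⊔ Dp
  RD : Rp ⊓ Dp = ⊥
  PD : P ≤ normalizer (Dp : Set G)
  /-- `Z ≤ [U, V] R` -/
  ZUV : Zp ≤ ⁅zl (S : Subgroup G) H, zl (S : Subgroup G) P⁆ ⊔ Rp
  /-- `H = N B` -/
  SB : (S : Subgroup G) ≤ B
  BP : B ≤ P
  BH : B ≤ H
  BZ : B ≤ normalizer (Zp : Set G)
  HB : H ≤ NN (S : Subgroup G) P H ⊔ B
  HRp : H ≤ normalizer (Rp : Set G)
  NR : NN (S : Subgroup G) P H ≤ centralizer (Rp : Set G)
  SN : (S : Subgroup G) ⊓ NN (S : Subgroup G) P H ≤ centralizer (Zp : Set G)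
  /-- an element of `S` which acts on `V / D` as some `up b` centralises `Z⁺` -/
  field : ∀ s ∈ (S : Subgroup G), (∀ v ∈ Zp, e (s * v * s⁻¹) = e v) → s ∈ centralizer (Zp : Set G)
  /-- (GD) -/
  gd : ∀ x ∈ Dp, x ≠ 1 → zl (S : Subgroup G) P ≤ o2 (centralizer ({x} : Set G))
  /-- (GOOD) -/
  good : ∀ z ∈ zc (S : Subgroup G), z ∉ Rp → zl (S : Subgroup G) P ≤ o2 (centralizer ({z} : Set G))
  /-- the torus -/
  tor : ∀ z ∈ (zc (S : Subgroup G) ⊓ Dp) ⊔ Rp, ∃ p ∈ B, p * z * p⁻¹ ∈ zc (S : Subgroup G)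
  eps : ∃ x ∈ zc (S : Subgroup G) ⊓ Dp, x ≠ 1

namespace HypF

variable [Finite G] {F : Type} [Field F] {e : G → Fin 2 → F} {S : Sylow 2 G} {P H Zp Rp Dp B : Subgroup G}
  (D : HypF e S P H Zp Rp Dp B)
include D

/-! ### elementary facts -/

theorem commV {x y : G} (hx : x ∈ zl (S : Subgroup G) P) (hy : y ∈ zl (S : Subgroup G) P) : x * y = y * x :=
  mem_centralizer_iff.mp ((zl_abel D.hc S D.par.isLoc).1 hy) x hx

theorem sqV {x : G} (hx : x ∈ zl (S : Subgroup G) P) : x * x = 1 := by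
  have h := (zl_abel D.hc S D.par.isLoc).2 x hx
  rwa [pow_two] at h

theorem commU {x y : G} (hx : x ∈ zl (S : Subgroup G) H) (hy : y ∈ zl (S : Subgroup G) H) : x * y = y * x :=
  mem_centralizer_iff.mp ((zl_abel D.hc S D.loc).1 hy) x hx

theorem sqU {x : G} (hx : x ∈ zl (S : Subgroup G) H) : x * x = 1 := by
  have h := (zl_abel D.hc S D.loc).2 x hx
  rwa [pow_two] at h

theorem SH : (S : Subgroup G) ≤ H := D.loc.le

theorem SP : (S : Subgroup G) ≤ P := D.par.le

theorem VS : zl (S : Subgroup G) P ≤ (S : Subgroup G) := IsParS.zl_le_S D.hc D.par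

theorem US : zl (S : Subgroup G) H ≤ (S : Subgroup G) :=
  ((D.loc.zl_le S D.hc).trans (zc_le _)).trans (D.loc.o2_le S)

theorem ZS : Zp ≤ (S : Subgroup G) := D.ZV.trans D.VS

theorem VH : zl (S : Subgroup G) P ≤ H := D.VS.trans D.SH

theorem HU : H ≤ normalizer (zl (S : Subgroup G) H : Set G) := le_normalizer_zl _ _

theorem PV : P ≤ normalizer (zl (S : Subgroup G) P : Set G) := le_normalizer_zl _ _

omit D in
theorem zcomm {z s : G} (hz : z ∈ zc (S : Subgroup G)) (hs : s ∈ (S : Subgroup G)) : s * z = z * s :=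
  (Cfsg.Agent.MinSimple.VModule.mem_zc.1 hz).2.1 s hs

/-- `O₂(H)` centralises `U` -/
theorem o2_cent : o2 H ≤ centralizer (zl (S : Subgroup G) H : Set G) :=
  Cfsg.Agent.MinSimple.VModule.o2_le_centralizer_zl D.loc.le S.isPGroup'
    (MinSimple.Basic.not_dvd_relIndex S D.loc.le) (D.loc.char2 S D.hc)

/-! ### `H = N B` -/

theorem NN_le_H : NN (S : Subgroup G) P H ≤ H := NN_le fun x hx => by
  have h1 := conj_le_iff (g := x).2 D.VH
  rwa [conj_eq_of_mem (Subgroup.le_normalizer hx)] at h1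

theorem exists_nb {h : G} (hh : h ∈ H) : ∃ n ∈ NN (S : Subgroup G) P H, ∃ c ∈ B, h = n * c := by
  have h1 : h ∈ ((NN (S : Subgroup G) P H ⊔ B : Subgroup G) : Set G) := D.HB hh
  rw [coe_mul_of_right_le_normalizer_left _ _ (D.BH.trans (le_normalizer_NN _ _ _))] at h1
  obtain ⟨n, hn, c, hc, rfl⟩ := Set.mem_mul.mp h1
  exact ⟨n, hn, c, hc, rfl⟩

/-- the points are the `Zp^n`, `n ∈ N` -/
theorem exists_conj {h : G} (hh : h ∈ H) : ∃ n ∈ NN (S : Subgroup G) P H,
    MulAut.conj h • Zp = MulAut.conj n • Zp := by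
  obtain ⟨n, hn, c, hc, rfl⟩ := D.exists_nb hh
  refine ⟨n, hn, ?_⟩
  rw [← conj_conj, conj_eq_of_mem (D.BZ hc)]

/-- the lines are the `V^n`, `n ∈ N` -/
theorem exists_conjV {h : G} (hh : h ∈ H) : ∃ n ∈ NN (S : Subgroup G) P H,
    MulAut.conj h • zl (S : Subgroup G) P = MulAut.conj n • zl (S : Subgroup G) P ∧
      MulAut.conj h • Zp = MulAut.conj n • Zp := by
  obtain ⟨n, hn, c, hc, rfl⟩ := D.exists_nb hh
  refine ⟨n, hn, ?_, ?_⟩
  · rw [← conj_conj, conj_eq_of_mem (D.PV (D.BP hc))]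
  · rw [← conj_conj, conj_eq_of_mem (D.BZ hc)]

/-! ### `Rp` -/

theorem RV : Rp ≤ zl (S : Subgroup G) P := D.RZ.trans D.ZV

theorem RpU : Rp ≤ zl (S : Subgroup G) H := D.RZ.trans D.ZU

theorem Rp_conj {x h : G} (hx : x ∈ Rp) (hh : h ∈ H) : h * x * h⁻¹ ∈ Rp := conj_mem_of_mem (D.HRp hh) hx

theorem Rp_conj' {x h : G} (hx : x ∈ Rp) (hh : h ∈ H) : h⁻¹ * x * h ∈ Rp := by
  have h1 := D.Rp_conj hx (inv_mem hh)
  rwa [inv_inv] at h1

theorem Rp_fix {x n : G} (hx : x ∈ Rp) (hn : n ∈ NN (S : Subgroup G) P H) : n * x = x * n :=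
  (mem_centralizer_iff.mp (D.NR hn) x hx).symm

/-- `Rp ≤ Zp^h` -/
theorem Rp_le {h : G} (hh : h ∈ H) : Rp ≤ MulAut.conj h • Zp := by
  intro x hx
  rw [mem_conj]
  exact D.RZ (D.Rp_conj' hx hh)

theorem Rp_le_Rr : Rp ≤ Rr (S : Subgroup G) P H := le_inf D.RpU (by
  rw [← Subgroup.le_centralizer_iff]
  exact D.NR)

/-- `x ∈ Zp - Rp`: `V ≤ O₂(C_N(x))` -/
theorem V_le_o2N_one {x : G} (hx : x ∈ Zp) (hxF : x ∉ Rp) :
    zl (S : Subgroup G) P ≤ o2 (NN (S : Subgroup G) P H ⊓ centralizer ({x} : Set G)) := by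
  obtain ⟨r, hr, d, hd, rfl⟩ : ∃ r ∈ Rp, ∃ d ∈ Dp, x = r * d := by
    have h1 : x ∈ ((Rp ⊔ Dp : Subgroup G) : Set G) := D.ZRD hx
    have hn : Rp ≤ normalizer (Dp : Set G) := (D.RV.trans (D.VS.trans D.SP)).trans D.PD
    rw [coe_mul_of_left_le_normalizer_right _ _ hn] at h1
    obtain ⟨n, hn, c, hc, h⟩ := Set.mem_mul.mp h1
    exact ⟨n, hn, c, hc, h.symm⟩
  have hd1 : d ≠ 1 := by
    rintro rfl
    exact hxF (by rwa [mul_one])
  have h1 := D.gd d hd hd1
  have h2 : NN (S : Subgroup G) P H ⊓ centralizer ({r * d} : Set G) ≤ centralizer ({d} : Set G) := by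
    intro n hn
    obtain ⟨hn1, hn2⟩ := mem_inf.1 hn
    rw [mem_centralizer_singleton_iff] at hn2 ⊢
    have h3 := D.Rp_fix hr hn1
    calc n * d = r⁻¹ * (r * n) * d := by group
      _ = r⁻¹ * (n * r) * d := by rw [h3]
      _ = r⁻¹ * (n * (r * d)) := by group
      _ = r⁻¹ * (r * d * n) := by rw [hn2]
      _ = d * n := by group
  have h3 : o2 (centralizer ({d} : Set G)) ⊓ (NN (S : Subgroup G) P H ⊓ centralizer ({r * d} : Set G)) ≤
      o2 (NN (S : Subgroup G) P H ⊓ centralizer ({r * d} : Set G)) := by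
    refine le_o2 inf_le_right ((o2_isPGroup _).to_le inf_le_left) ?_
    exact le_normalizer_of fun g hg y hy =>
      mem_inf.2 ⟨conj_mem_of_mem (le_normalizer_o2 _ (h2 hg)) (mem_inf.1 hy).1,
        mul_mem (mul_mem hg (mem_inf.1 hy).2) (inv_mem hg)⟩
  refine (le_inf h1 (le_inf (le_NN _ _ _) ?_)).trans h3
  intro v hv
  rw [mem_centralizer_singleton_iff]
  exact D.commV hv (D.ZV hx)

/-- **(MIN)** `x ∈ Zp^h - Rp`: `V^h ≤ O₂(C_N(x))` -/
theorem V_le_o2N {h x : G} (hh : h ∈ H) (hx : x ∈ MulAut.conj h • Zp) (hxF : x ∉ Rp) :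
    MulAut.conj h • zl (S : Subgroup G) P ≤ o2 (NN (S : Subgroup G) P H ⊓ centralizer ({x} : Set G)) := by
  rw [mem_conj] at hx
  set y := h⁻¹ * x * h with hy
  have e1 : x = h * y * h⁻¹ := by rw [hy]; group
  have hyF : y ∉ Rp := fun h1 => hxF (by rw [e1]; exact D.Rp_conj h1 hh)
  have h3 := (conj_le_iff (g := h)).2 (D.V_le_o2N_one hx hyF)
  rw [← show o2 (MulAut.conj h • (NN (S : Subgroup G) P H ⊓ centralizer ({y} : Set G))) =
    MulAut.conj h • o2 (NN (S : Subgroup G) P H ⊓ centralizer ({y} : Set G)) from o2_map_equiv (MulAut.conj h) _] at h3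
  have e2 : MulAut.conj h • (NN (S : Subgroup G) P H ⊓ centralizer ({y} : Set G)) =
      NN (S : Subgroup G) P H ⊓ centralizer ({x} : Set G) := by
    rw [Subgroup.smul_inf, conj_eq_of_mem (le_normalizer_NN _ _ _ hh)]
    congr 1
    ext g
    rw [mem_conj, mem_centralizer_singleton_iff, mem_centralizer_singleton_iff, e1]
    constructor
    · intro h4
      calc g * (h * y * h⁻¹) = h * ((h⁻¹ * g * h) * y) * h⁻¹ := by group
        _ = h * (y * (h⁻¹ * g * h)) * h⁻¹ := by rw [h4]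
        _ = (h * y * h⁻¹) * g := by group
    · intro h4
      calc (h⁻¹ * g * h) * y = h⁻¹ * (g * (h * y * h⁻¹)) * h := by group
        _ = h⁻¹ * ((h * y * h⁻¹) * g) * h := by rw [h4]
        _ = y * (h⁻¹ * g * h) := by group
  rwa [e2] at h3

theorem HR : H ≤ normalizer (Rr (S : Subgroup G) P H : Set G) := by
  refine le_normalizer_of fun h hh x hx => mem_inf.mpr ⟨conj_mem_of_mem (D.HU hh) (mem_inf.mp hx).1, ?_⟩
  rw [mem_centralizer_iff]
  intro y hy
  have hy' : h⁻¹ * y * h ∈ NN (S : Subgroup G) P H := by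
    have h1 := conj_mem_of_mem (le_normalizer_NN (S : Subgroup G) P H (inv_mem hh)) hy
    rwa [inv_inv] at h1
  have h1 := mem_centralizer_iff.mp (mem_inf.mp hx).2 _ hy'
  calc y * (h * x * h⁻¹) = h * ((h⁻¹ * y * h) * x) * h⁻¹ := by group
    _ = h * (x * (h⁻¹ * y * h)) * h⁻¹ := by rw [h1]
    _ = h * x * h⁻¹ * y := by group

theorem RU : Rr (S : Subgroup G) P H ≤ zl (S : Subgroup G) H := inf_le_left

/-- `V ≰ O₂(N)` -/
theorem not_le_o2N : ¬ zl (S : Subgroup G) P ≤ o2 (NN (S : Subgroup G) P H) := by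
  intro h3
  have h6 : o2 (NN (S : Subgroup G) P H) ≤ o2 H := by
    refine le_o2 ((Cfsg.Agent.MinSimple.VModule.o2_le _).trans D.NN_le_H) (o2_isPGroup _) ?_
    refine (le_normalizer_NN (S : Subgroup G) P H).trans ?_
    exact Cfsg.Agent.Omega.normalizer_le_normalizer_o2' _
  exact D.ne ((h3.trans h6).trans D.o2_cent)

/-- `I ∩ Zp = Rp` -/
theorem R_inf_Z : Rr (S : Subgroup G) P H ⊓ Zp = Rp := by
  apply le_antisymm
  · intro x hx
    obtain ⟨hx1, hx2⟩ := mem_inf.mp hx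
    by_contra hxF
    have h1 := D.V_le_o2N_one hx2 hxF
    have h2 : NN (S : Subgroup G) P H ⊓ centralizer ({x} : Set G) = NN (S : Subgroup G) P H := by
      rw [inf_eq_left]
      intro n hn
      rw [mem_centralizer_singleton_iff]
      exact mem_centralizer_iff.mp (mem_inf.mp hx1).2 n hn
    rw [h2] at h1
    exact D.not_le_o2N h1
  · exact le_inf D.Rp_le_Rr D.RZ

/-- `I ∩ Zp^h = Rp` -/
theorem R_inf {h : G} (hh : h ∈ H) {x : G} (hx : x ∈ Rr (S : Subgroup G) P H)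
    (hz : x ∈ MulAut.conj h • Zp) : x ∈ Rp := by
  rw [mem_conj] at hz
  have h1 : h⁻¹ * x * h ∈ Rr (S : Subgroup G) P H := by
    have h2 := conj_mem_of_mem (D.HR (inv_mem hh)) hx
    rwa [inv_inv] at h2
  have h2 : h⁻¹ * x * h ∈ Rp := by
    rw [← D.R_inf_Z]
    exact mem_inf.mpr ⟨h1, hz⟩
  have h3 := D.Rp_conj h2 hh
  have e1 : h * (h⁻¹ * x * h) * h⁻¹ = x := by group
  rwa [e1] at h3

/-! ### (TR) -/

/-- a subgroup of `H` trivial on `U / I` and on `I` is trivial on `U` -/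
theorem triv {I : Subgroup G} (hI : I ≤ zl (S : Subgroup G) H) (hHI : H ≤ normalizer (I : Set G)) {h : G} (hh : h ∈ H)
    (h1 : ∀ x ∈ zl (S : Subgroup G) H, cm h x ∈ I) (h2 : ∀ x ∈ I, cm h x = 1) :
    ∀ x ∈ zl (S : Subgroup G) H, cm h x = 1 := by
  let M₀ : Subgroup G :=
    { carrier := {h | h ∈ H ∧ (∀ x ∈ zl (S : Subgroup G) H, cm h x ∈ I) ∧ ∀ x ∈ I, cm h x = 1}
      mul_mem' := by
        rintro x y ⟨hx, h1, h2⟩ ⟨hy, h3, h4⟩
        refine ⟨mul_mem hx hy, fun f hf => ?_, fun f hf => ?_⟩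
        · have e1 : cm (x * y) f = (x * cm y f * x⁻¹) * cm x f := by simp only [cm_def]; group
          rw [e1]
          exact mul_mem (conj_mem_of_mem (hHI hx) (h3 f hf)) (h1 f hf)
        · have e1 : cm (x * y) f = (x * cm y f * x⁻¹) * cm x f := by simp only [cm_def]; group
          rw [e1, h4 f hf, h2 f hf]; group
      one_mem' := ⟨one_mem _, fun f _ => by
        have e1 : cm (1 : G) f = 1 := by rw [cm_def]; group
        rw [e1]; exact one_mem _, fun f _ => by rw [cm_def]; group⟩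
      inv_mem' := by
        rintro x ⟨hx, h1, h2⟩
        refine ⟨inv_mem hx, fun f hf => ?_, fun f hf => ?_⟩
        · have e1 : cm x⁻¹ f = x⁻¹ * (cm x f)⁻¹ * x⁻¹⁻¹ := by simp only [cm_def]; group
          rw [e1]
          exact conj_mem_of_mem (hHI (inv_mem hx)) (inv_mem (h1 f hf))
        · have e1 : cm x⁻¹ f = x⁻¹ * (cm x f)⁻¹ * x⁻¹⁻¹ := by simp only [cm_def]; group
          rw [e1, h2 f hf]; group }
  have hconj : ∀ {k x y : G}, cm (k * x * k⁻¹) y = k * cm x (k⁻¹ * y * k) * k⁻¹ := by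
    intro k x y; simp only [cm_def]; group
  have hM₀n : H ≤ normalizer (M₀ : Set G) := by
    refine le_normalizer_of fun k hk x hx => ?_
    obtain ⟨hx, h3, h4⟩ := hx
    refine ⟨mul_mem (mul_mem hk hx) (inv_mem hk), fun f hf => ?_, fun f hf => ?_⟩
    · rw [hconj]
      refine conj_mem_of_mem (hHI hk) (h3 _ ?_)
      have h5 := conj_mem_of_mem (D.HU (inv_mem hk)) hf
      rwa [inv_inv] at h5
    · rw [hconj, h4 _ (by
        have h5 := conj_mem_of_mem (hHI (inv_mem hk)) hf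
        rwa [inv_inv] at h5)]
      group
  have hKn : H ≤ normalizer ((H ⊓ centralizer (zl (S : Subgroup G) H : Set G) : Subgroup G) : Set G) := by
    refine le_normalizer_of fun h hh x hx => mem_inf.mpr ⟨mul_mem (mul_mem hh (mem_inf.mp hx).1) (inv_mem hh), ?_⟩
    rw [mem_centralizer_iff]
    intro y hy
    have hy' : h⁻¹ * y * h ∈ zl (S : Subgroup G) H := by
      have h1 := conj_mem_of_mem (D.HU (inv_mem hh)) hy
      rwa [inv_inv] at h1
    have h1 := mem_centralizer_iff.mp (mem_inf.mp hx).2 _ hy'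
    calc y * (h * x * h⁻¹) = h * ((h⁻¹ * y * h) * x) * h⁻¹ := by group
      _ = h * (x * (h⁻¹ * y * h)) * h⁻¹ := by rw [h1]
      _ = h * x * h⁻¹ * y := by group
  have hle := le_sup_inf S (H := H) (M₀ := M₀) (K₀ := H ⊓ centralizer (zl (S : Subgroup G) H : Set G)) D.SH
    (fun x hx => hx.1) hM₀n inf_le_left hKn (by
      rintro x ⟨hx, h3, h4⟩
      refine mem_inf.mpr ⟨pow_mem hx 2, ?_⟩
      rw [mem_centralizer_iff]
      intro f hf
      have h5 := h3 f hf
      have h6 : cm x (cm x f) = 1 := h4 _ h5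
      have h7 : x * cm x f = cm x f * x := by
        have h8 : cm x (cm x f) * (cm x f * x) = x * cm x f := by simp only [cm_def]; group
        rw [← h8, h6, one_mul]
      have h9 := D.sqU (hI h5)
      have h10 : x * f = cm x f * f * x := by rw [cm_def]; group
      calc f * x ^ 2 = (cm x f * cm x f) * f * x * x := by rw [h9, pow_two]; group
        _ = cm x f * (cm x f * f * x) * x := by group
        _ = cm x f * (x * f) * x := by rw [← h10]
        _ = (cm x f * x) * f * x := by group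
        _ = x * (cm x f * f * x) := by rw [← h7]; group
        _ = x * (x * f) := by rw [← h10]
        _ = x ^ 2 * f := by rw [pow_two]; group)
  have hMZ : M₀ ≤ centralizer (zc (S : Subgroup G) : Set G) :=
    hle.trans (sup_le (inf_le_right.trans (centralizer_le (D.zcZ.trans D.ZU))) (inf_le_left.trans (le_CZ S)))
  have hMU : M₀ ≤ centralizer (zl (S : Subgroup G) H : Set G) := by
    rw [le_centralizer_iff]
    refine zl_le ?_ ?_
    · rw [le_centralizer_iff]; exact hMZ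
    · refine le_normalizer_of fun k hk x hx => ?_
      rw [mem_centralizer_iff] at hx ⊢
      intro m hm
      have hm' : k⁻¹ * m * k ∈ M₀ := by
        have h5 := conj_mem_of_mem (hM₀n (inv_mem hk)) hm
        rwa [inv_inv] at h5
      have h6 := hx _ hm'
      calc m * (k * x * k⁻¹) = k * ((k⁻¹ * m * k) * x) * k⁻¹ := by group
        _ = k * (x * (k⁻¹ * m * k)) * k⁻¹ := by rw [h6]
        _ = k * x * k⁻¹ * m := by group
  intro x hx
  have h3 := mem_centralizer_iff.mp (hMU ⟨hh, h1, h2⟩) x hx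
  rw [cm_def, ← h3]
  group

omit [Finite G] D in
theorem cm_eq_one {x y : G} : cm x y = 1 ↔ x * y = y * x := by
  rw [cm_def]
  constructor
  · intro h
    calc x * y = (x * y * x⁻¹ * y⁻¹) * (y * x) := by group
      _ = y * x := by rw [h, one_mul]
  · intro h
    rw [h]
    group

/-- **(TR)** for `h ∈ N` -/
theorem tr_N {h : G} (hh : h ∈ NN (S : Subgroup G) P H)
    (h1 : ∀ x ∈ zl (S : Subgroup G) H, cm h x ∈ Rr (S : Subgroup G) P H) :
    ∀ x ∈ zl (S : Subgroup G) H, cm h x = 1 :=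
  D.triv D.RU D.HR (D.NN_le_H hh) h1 fun _ hx => cm_eq_one.mpr (mem_centralizer_iff.mp (mem_inf.mp hx).2 h hh)

/-- **(TR)** for `h ∈ H` which centralises `Zp` -/
theorem tr_Z {h : G} (hhH : h ∈ H) (hhZ : h ∈ centralizer (Zp : Set G))
    (h1 : ∀ x ∈ zl (S : Subgroup G) H, cm h x ∈ Rr (S : Subgroup G) P H) :
    ∀ x ∈ zl (S : Subgroup G) H, cm h x = 1 := by
  -- `A₀`: the elements centralised by `h`
  set A₀ : Subgroup G := zl (S : Subgroup G) H ⊓ centralizer ({h} : Set G) with hA₀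
  have hcm : ∀ n ∈ NN (S : Subgroup G) P H, ∀ x ∈ zl (S : Subgroup G) H, cm (cm h n) x = 1 := by
    intro n hn
    have h2 : cm h n ∈ NN (S : Subgroup G) P H := by
      rw [cm_def]
      exact mul_mem (conj_mem_of_mem (le_normalizer_NN _ _ _ hhH) hn) (inv_mem hn)
    refine D.tr_N h2 ?_
    -- the elements acting trivially on `U / R`
    intro x hx
    have hR : ∀ {a y : G}, a ∈ H → y ∈ Rr (S : Subgroup G) P H → a * y * a⁻¹ ∈ Rr (S : Subgroup G) P H :=
      fun ha hy => conj_mem_of_mem (D.HR ha) hy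
    have hnH := D.NN_le_H hn
    have hU : ∀ {a y : G}, a ∈ H → y ∈ zl (S : Subgroup G) H → a * y * a⁻¹ ∈ zl (S : Subgroup G) H :=
      fun ha hy => conj_mem_of_mem (D.HU ha) hy
    -- `[h n h⁻¹ n⁻¹, x]`
    have e1 : cm (cm h n) x = (h * (n * cm h⁻¹ (n⁻¹ * x * n) * n⁻¹) * h⁻¹) * cm h x := by
      simp only [cm_def]; group
    have h3 : n⁻¹ * x * n ∈ zl (S : Subgroup G) H := by
      have := hU (inv_mem hnH) hx
      rwa [inv_inv] at this
    have h4 : cm h⁻¹ (n⁻¹ * x * n) ∈ Rr (S : Subgroup G) P H := by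
      have e2 : cm h⁻¹ (n⁻¹ * x * n) = h⁻¹ * (cm h (n⁻¹ * x * n))⁻¹ * h⁻¹⁻¹ := by simp only [cm_def]; group
      rw [e2]
      exact hR (inv_mem hhH) (inv_mem (h1 _ h3))
    rw [e1]
    exact mul_mem (hR hhH (hR hnH h4)) (h1 x hx)
  -- `[n, x] ∈ A₀`
  have h2 : ∀ n ∈ NN (S : Subgroup G) P H, ∀ x ∈ zl (S : Subgroup G) H, h * cm n x = cm n x * h := by
    intro n hn x hx
    have hnH := D.NN_le_H hn
    have hU : ∀ {a y : G}, a ∈ H → y ∈ zl (S : Subgroup G) H → a * y * a⁻¹ ∈ zl (S : Subgroup G) H :=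
      fun ha hy => conj_mem_of_mem (D.HU ha) hy
    -- `h (n x n⁻¹) h⁻¹ = n (h x h⁻¹) n⁻¹` up to `C(U)`
    have hx' := hU (mul_mem hnH hhH) hx
    have h3 : cm (cm h n) (n * h * x * (n * h)⁻¹) = 1 := hcm n hn _ hx'
    have h4 : h * (n * x * n⁻¹) * h⁻¹ = n * (h * x * h⁻¹) * n⁻¹ := by
      have h5 := cm_eq_one.mp h3
      calc h * (n * x * n⁻¹) * h⁻¹ = (cm h n) * (n * h * x * (n * h)⁻¹) * (cm h n)⁻¹ := by
            simp only [cm_def]; group
        _ = (n * h * x * (n * h)⁻¹) * (cm h n) * (cm h n)⁻¹ := by rw [h5]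
        _ = n * (h * x * h⁻¹) * n⁻¹ := by group
    -- `n` centralises `[h, x] ∈ R`
    have h6 : n * cm h x * n⁻¹ = cm h x := by
      rw [mem_centralizer_iff.mp (mem_inf.mp (h1 x hx)).2 n hn, mul_inv_cancel_right]
    have h7 : n * (h * x * h⁻¹) * n⁻¹ = cm h x * (n * x * n⁻¹) := by
      calc n * (h * x * h⁻¹) * n⁻¹ = (n * cm h x * n⁻¹) * (n * x * n⁻¹) := by simp only [cm_def]; group
        _ = cm h x * (n * x * n⁻¹) := by rw [h6]
    have e8 : h * x * h⁻¹ = cm h x * x := by rw [cm_def]; group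
    have hnx : n * x * n⁻¹ ∈ zl (S : Subgroup G) H := hU hnH hx
    have hc : cm h x ∈ zl (S : Subgroup G) H := D.RU (h1 x hx)
    have h9 : h * cm n x * h⁻¹ = cm n x := by
      calc h * cm n x * h⁻¹ = (h * (n * x * n⁻¹) * h⁻¹) * (h * x * h⁻¹)⁻¹ := by simp only [cm_def]; group
        _ = (cm h x * (n * x * n⁻¹)) * (cm h x * x)⁻¹ := by rw [h4, h7, e8]
        _ = ((n * x * n⁻¹) * cm h x) * (cm h x * x)⁻¹ := by rw [D.commU hc hnx]
        _ = n * x * n⁻¹ * (cm h x * x⁻¹) * (cm h x)⁻¹ := by rw [mul_inv_rev]; group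
        _ = n * x * n⁻¹ * (x⁻¹ * cm h x) * (cm h x)⁻¹ := by rw [D.commU hc (inv_mem hx)]
        _ = cm n x := by rw [cm_def n x]; group
    calc h * cm n x = (h * cm n x * h⁻¹) * h := by group
      _ = cm n x * h := by rw [h9]
  -- `U ≤ A₀`
  have hZA : Zp ≤ A₀ := by
    intro z hz
    refine mem_inf.mpr ⟨D.ZU hz, ?_⟩
    rw [mem_centralizer_iff]
    rintro _ rfl
    exact (mem_centralizer_iff.mp hhZ z hz).symm
  have hA : ∀ z ∈ zc (S : Subgroup G), ∀ k ∈ H, k * z * k⁻¹ ∈ A₀ := by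
    intro z hz k hk
    obtain ⟨n, hn, c, hc, rfl⟩ := D.exists_nb hk
    have hz' : c * z * c⁻¹ ∈ Zp := conj_mem_of_mem (D.BZ hc) (D.zcZ hz)
    have e1 : n * c * z * (n * c)⁻¹ = cm n (c * z * c⁻¹) * (c * z * c⁻¹) := by
      rw [cm_def]; group
    rw [e1]
    refine mul_mem (mem_inf.mpr ⟨?_, ?_⟩) (hZA hz')
    · have e2 : cm n (c * z * c⁻¹) = (n * (c * z * c⁻¹) * n⁻¹) * (c * z * c⁻¹)⁻¹ := by rw [cm_def]
      rw [e2]
      exact mul_mem (conj_mem_of_mem (D.HU (D.NN_le_H hn)) (D.ZU hz')) (inv_mem (D.ZU hz'))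
    · rw [mem_centralizer_iff]
      rintro _ rfl
      exact h2 n hn _ (D.ZU hz')
  intro x hx
  have hUA : zl (S : Subgroup G) H ≤ A₀ := NoFF.Basic.V_le (Z := zc (S : Subgroup G)) fun k hk y hy => by
    rw [mem_conj] at hy
    have h3 := hA _ hy k hk
    have e1 : k * (k⁻¹ * y * k) * k⁻¹ = y := by group
    rwa [e1] at h3
  exact cm_eq_one.mpr (mem_centralizer_iff.mp (mem_inf.mp (hUA hx)).2 h rfl)

end HypF

end Cfsg.Agent.Omega.NOThreeL.RFEnd

end

section


/-!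
# NO-3L, `R ∩ (A)`, `k ≥ 2`: THEOREM K (#21065, helper162), the end

* `end_of` : `U ⊴ H`, `M ≤ H` an abelian 2-group, `X ≤ U` with `|U : C_U(M)| < |X|` such that the conjugates of `M`
  under `C(x)`, `1 ≠ x ∈ X`, commute with `M`; `O₂(H)` centralises `U`.  Then `M` centralises `U`.
-/

set_option autoImplicit false

namespace Cfsg.Agent.Omega.NOThreeL.KTwo

open Subgroup Cfsg
open Cfsg.Agent.ZN (o2)
open Cfsg.Agent.Omega.NoFF.Basic (conj_conj mem_conj conj_le_iff conj_le_centralizer comm_symm)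
open scoped Pointwise

universe u

variable {G : Type u} [Group G]

/-- pigeonhole: `|U : C_U(A)| < |X|`, `X ≤ U`: some `1 ≠ x ∈ X` is centralised by `A` -/
theorem exists_cent [Finite G] {U A X : Subgroup G} (hX : X ≤ U)
    (hlt : (centralizer (A : Set G)).relIndex U < Nat.card X) :
    ∃ x ∈ X, x ≠ 1 ∧ A ≤ centralizer ({x} : Set G) := by
  by_contra hcon
  push Not at hcon
  have h1 : X ⊓ centralizer (A : Set G) = ⊥ := by
    rw [eq_bot_iff]
    intro x hx
    obtain ⟨hx1, hx2⟩ := mem_inf.1 hx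
    rw [mem_bot]
    by_contra hne
    refine hcon x hx1 hne fun a ha => ?_
    rw [mem_centralizer_singleton_iff]
    exact mem_centralizer_iff.1 hx2 a ha
  have h2 : (centralizer (A : Set G)).relIndex X = Nat.card X := by
    have h3 : (centralizer (A : Set G)).relIndex X = (X ⊓ centralizer (A : Set G)).relIndex X := by
      rw [inf_relIndex_left]
    rw [h3, h1, relIndex_bot_left]
  have h3 : (centralizer (A : Set G)).relIndex X ≤ (centralizer (A : Set G)).relIndex U :=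
    relIndex_le_of_le_right hX
      (Subgroup.index_ne_zero_of_finite (H := (centralizer (A : Set G)).subgroupOf U))
  omega

/-- **the end of THEOREM K** -/
theorem end_of [Finite G] {H U M X : Subgroup G} (hM : M ≤ H) (hM2 : IsPGroup 2 M)
    (hHU : H ≤ normalizer (U : Set G)) (hX : X ≤ U)
    (hlt : (centralizer (M : Set G)).relIndex U < Nat.card X)
    (hc : ∀ x ∈ X, x ≠ 1 → ∀ g ∈ centralizer ({x} : Set G), ∀ g' ∈ centralizer ({x} : Set G),
      MulAut.conj g • M ≤ centralizer ((MulAut.conj g' • M : Subgroup G) : Set G))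
    (ho : o2 H ≤ centralizer (U : Set G)) : M ≤ centralizer (U : Set G) := by
  have : Fact (Nat.Prime 2) := ⟨Nat.prime_two⟩
  refine (RA.le_o2_of_pairs hM fun h hh => ?_).trans ho
  have hUh : MulAut.conj h • U = U := NOThreeL.Pair.conj_eq_of_mem (hHU hh)
  -- `|U : C_U(M^h)| = |U : C_U(M)|`
  have h1 : (centralizer ((MulAut.conj h • M : Subgroup G) : Set G)).relIndex U =
      (centralizer (M : Set G)).relIndex U := by
    have h2 := Subgroup.relIndex_pointwise_smul (MulAut.conj h) (centralizer (M : Set G)) U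
    rw [hUh] at h2
    rw [← h2]
    congr 1
    ext x
    rw [mem_conj, mem_centralizer_iff, mem_centralizer_iff]
    constructor
    · intro h3 y hy
      have h4 := h3 (h * y * h⁻¹) (by
        change h * y * h⁻¹ ∈ MulAut.conj h • M
        rw [mem_conj]
        have e1 : h⁻¹ * (h * y * h⁻¹) * h = y := by group
        rwa [e1])
      calc y * (h⁻¹ * x * h) = h⁻¹ * ((h * y * h⁻¹) * x) * h := by group
        _ = h⁻¹ * (x * (h * y * h⁻¹)) * h := by rw [h4]
        _ = h⁻¹ * x * h * y := by group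
    · intro h3 y hy
      have hy' : y ∈ MulAut.conj h • M := hy
      rw [mem_conj] at hy'
      have h4 := h3 _ hy'
      calc y * x = h * ((h⁻¹ * y * h) * (h⁻¹ * x * h)) * h⁻¹ := by group
        _ = h * ((h⁻¹ * x * h) * (h⁻¹ * y * h)) * h⁻¹ := by rw [h4]
        _ = x * y := by group
  rw [← h1] at hlt
  obtain ⟨x, hx, hx1, hA⟩ := exists_cent hX hlt
  set A : Subgroup G := MulAut.conj h • M with hAdef
  -- `K = ⟨M^A⟩` is an abelian 2-group normalised by `A`
  let K : Subgroup G := ⨆ a ∈ A, MulAut.conj a • M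
  have hK : K ≤ centralizer (K : Set G) := iSup₂_le fun a ha => comm_symm (iSup₂_le fun b hb =>
    comm_symm (hc x hx hx1 a (hA ha) b (hA hb)))
  have hMa : ∀ a ∈ A, MulAut.conj a • M ≤ K := fun a ha =>
    le_iSup₂_of_le (f := fun a (_ : a ∈ A) => MulAut.conj a • M) a ha le_rfl
  have hMK : M ≤ K := by
    have h2 := hMa 1 (one_mem A)
    rwa [map_one, one_smul] at h2
  have hA2 : IsPGroup 2 A := hM2.map (MulAut.conj h).toMonoidHom
  have hK2 : IsPGroup 2 K := by
    let K' : Subgroup G :=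
      { carrier := {x | x ∈ K ∧ ∃ n : ℕ, x ^ 2 ^ n = 1}
        one_mem' := ⟨one_mem _, 0, one_pow _⟩
        mul_mem' := by
          rintro a b ⟨ha, n, hn⟩ ⟨hb, m, hm⟩
          refine ⟨mul_mem ha hb, n + m, ?_⟩
          have hab : Commute a b := (mem_centralizer_iff.1 (hK ha) b hb).symm
          rw [hab.mul_pow, pow_add, pow_mul, hn, one_pow, one_mul, mul_comm (2 ^ n) (2 ^ m), pow_mul, hm, one_pow]
        inv_mem' := by
          rintro a ⟨ha, n, hn⟩
          exact ⟨inv_mem ha, n, by rw [inv_pow, hn, inv_one]⟩ }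
    have h2 : K ≤ K' := iSup₂_le fun a ha y hy => by
      refine ⟨hMa a ha hy, ?_⟩
      have h3 : IsPGroup 2 (MulAut.conj a • M : Subgroup G) := hM2.map (MulAut.conj a).toMonoidHom
      obtain ⟨n, hn⟩ := h3 ⟨y, hy⟩
      exact ⟨n, congrArg Subtype.val hn⟩
    intro y
    obtain ⟨n, hn⟩ := (h2 y.2).2
    exact ⟨n, Subtype.ext hn⟩
  have hAK : A ≤ normalizer (K : Set G) := NOThreeL.le_normalizer_of fun a ha y hy => by
    have h2 : K ≤ K.comap (MulAut.conj a).toMonoidHom := iSup₂_le fun b hb z hz => by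
      refine hMa (a * b) (mul_mem ha hb) ?_
      change a * z * a⁻¹ ∈ _
      rw [mem_conj] at hz ⊢
      have e1 : (a * b)⁻¹ * (a * z * a⁻¹) * (a * b) = b⁻¹ * z * b := by group
      rwa [e1]
    exact h2 hy
  have h2 := IsPGroup.to_sup_of_normal_right' hA2 hK2 hAK
  exact h2.to_le (sup_le (hMK.trans le_sup_right) le_sup_left)

end Cfsg.Agent.Omega.NOThreeL.KTwo

end
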