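import Cfsg.Agent.Mrg.Omega.NOThreeL.RA.Base
import Cfsg.Agent.Omega.NoFF.Main

section


/-!
# NO-3L, `R ∩ (A)`, one natural factor, `|Z/E| = q` (#19087, helper162 / helper761): (1), the pairs

`D : HypQ e S P H`, `q = |F|`; `h`, `k ∈ H`; `Opp S P h k` : `⟨V^h, V^k⟩` is not a 2-group.

* coordinates: `e_cm` : `e [v, u] = (b v₁, 0)`; `VU_Z` : `[V, U] ≤ Z`; `exists_beta`; `cm_conj` : `[V^h, U] ≤ Z^h`;
* `relIndex_YU`, `relIndex_ZV`, `relIndex_EZ` : `|U/Y| = |V/Z| = |Z/E| = q`;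
* `comm_of_F` (S) : `z ∈ Z^h`, `x ∈ H`, `[z, x] ∈ F` implies `[z, x] = 1`;
* `exists_opp`; `inf_eq` : `Z^h ∩ Y^k = F` if `Opp h k`; `not_R`, **`not_R'`** : `[a, u] ∉ R` for `a ∈ V^h - Z^h`,
  `u ∈ U - Y^h`; **`card_F`** : `|Z/F| = q`; **`U_eq`** : `U = Z^h Y^k` if `Opp h k`; `exists_cm` : `[V^h, u] F = Z^h`;
* `mem_R` : `C_{U/R}(N) = 1`; `pair` : if `⟨V^h, V^k⟩` is a 2-group, then `Z^h ≤ Y^k` or `Z^k ≤ Y^h`.
-/

set_option autoImplicit false
set_option linter.unusedSectionVars false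

namespace Cfsg.Agent.Omega.NOThreeL.RA

open Subgroup Cfsg Cfsg.Agent.Omega.MinPar
open Cfsg.Agent.ZN (zc zl o2)
open Cfsg.Agent.Omega.Frame Cfsg.Agent.Omega.FrameNOFF
open Cfsg.Agent.Omega.Node.NO3L Cfsg.Agent.Omega.NOThreeL.Basic
open Cfsg.Agent.Omega.NoFF.Basic (conj_conj mem_conj conj_le_iff conj_le_centralizer comm_symm comm_mono)
open Cfsg.Agent.Omega.NOThreeL.Pair (conj_eq_of_mem conj_le_normalizer zl_abel)
open Cfsg.Agent.MinSimple.VModule (zl_le zc_le_zl le_normalizer_zl zc_le o2_isPGroup le_normalizer_o2 le_o2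
  normalizer_le_normalizer_zc)
open Cfsg.Agent.Omega.NOThreeL (mem_normalizer_of_conj_eq le_normalizer_of mem_sup_of_comm)
open Cfsg.Agent.Omega.NOThreeL.RTools (cm cm_def cm_mul NN conj_mem_of_mem conj_le_NN le_NN NN_le le_normalizer_NN
  le_sup_inf isLong)
open Cfsg.Agent.Omega.NOThreeL.AOne (Act ap_up_0)
open Cfsg.Agent.Lib.SL2Mat
open Cfsg.Agent.Omega.NatPair (ap ap_mul ap_one ap_inv_ap)
open scoped Pointwise commutatorElement

universe u

section aux

variable {G : Type u} [Group G]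

/-- `⟨V^h, V^k⟩` is not a 2-group. -/
def Opp (S P : Subgroup G) (h k : G) : Prop :=
  ¬ IsPGroup 2 (MulAut.conj h • zl S P ⊔ MulAut.conj k • zl S P : Subgroup G)

theorem Opp.symm {S P : Subgroup G} {h k : G} (H : Opp S P h k) : Opp S P k h := by
  unfold Opp at *
  rwa [sup_comm]

theorem ap_up_1 {F : Type} [Field F] (b : F) (x : Fin 2 → F) : ap (up b) x 1 = x 1 := by
  rw [NatPair.ap_eq_mulVec, Matrix.mulVec, dotProduct, Fin.sum_univ_two]
  change ent (up b) 1 0 * x 0 + ent (up b) 1 1 * x 1 = _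
  rw [up_10, up_11, zero_mul, zero_add, one_mul]

theorem relIndex_of_map {X : Type*} [AddGroup X] {A B : Subgroup G} (f : G → X)
    (hm : ∀ a ∈ A, ∀ b ∈ A, f (a * b) = f a + f b) (hk : ∀ a ∈ A, f a = 0 ↔ a ∈ B) (hs : ∀ x, ∃ a ∈ A, f a = x) :
    B.relIndex A = Nat.card X := by
  let φ : A →* Multiplicative X := MonoidHom.mk' (fun a => Multiplicative.ofAdd (f a)) fun a b => by
    rw [← ofAdd_add, ← hm a a.2 b b.2]
    rfl
  have hker : φ.ker = B.subgroupOf A := by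
    ext ⟨a, ha⟩
    rw [MonoidHom.mem_ker, mem_subgroupOf]
    exact hk a ha
  have hr : φ.range = ⊤ := by
    rw [eq_top_iff]
    intro x _
    obtain ⟨a, ha, h⟩ := hs (Multiplicative.toAdd x)
    exact ⟨⟨a, ha⟩, by change Multiplicative.ofAdd (f a) = x; rw [h]; rfl⟩
  change (B.subgroupOf A).index = _
  rw [← hker, index_ker, hr]
  exact Nat.card_congr (Equiv.trans (Equiv.Set.univ _) Multiplicative.toAdd)

theorem relIndex_conj (g : G) (A B : Subgroup G) :
    (MulAut.conj g • A).relIndex (MulAut.conj g • B) = A.relIndex B :=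
  Subgroup.relIndex_pointwise_smul _ _ _

end aux

namespace HypQ

variable {G : Type u} [Group G] [Finite G] {F : Type} [Field F] {e : G → Fin 2 → F} {S : Sylow 2 G}
  {P H : Subgroup G} (D : HypQ e S P H)
include D

/-! ### coordinates -/

theorem e_one : e 1 = 0 := by
  have h := D.mul 1 (one_mem _) 1 (one_mem _)
  rw [mul_one] at h
  exact left_eq_add.mp h

theorem e_self {v : G} (hv : v ∈ zl (S : Subgroup G) P) : e v + e v = 0 := by
  rw [← D.mul v hv v hv, D.sqV hv, D.e_one]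

theorem inv_V {v : G} (hv : v ∈ zl (S : Subgroup G) P) : v⁻¹ = v := inv_eq_of_mul_eq_one_left (D.sqV hv)

theorem inv_U {v : G} (hv : v ∈ zl (S : Subgroup G) H) : v⁻¹ = v := inv_eq_of_mul_eq_one_left (D.sqU hv)

theorem two_eq (x : F) : x + x = 0 := by
  obtain ⟨v, hv, h⟩ := D.surj ![x, 0]
  have h1 := congrFun (D.e_self hv) 0
  rw [h] at h1
  exact h1

theorem e_cm {v u : G} {b : F} (hv : v ∈ zl (S : Subgroup G) P) (hu : u ∈ P)
    (h : Act e (zl (S : Subgroup G) P) u (up b)) : e (cm v u) = ![b * e v 1, 0] := by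
  have e1 : cm v u = v * (u * v * u⁻¹) := by
    rw [cm_def]
    calc v * u * v⁻¹ * u⁻¹ = v * (u * v⁻¹ * u⁻¹) := by group
      _ = v * (u * v * u⁻¹) := by rw [D.inv_V hv]
  rw [e1, D.mul v hv _ (conj_mem_of_mem (D.PV hu) hv), h v hv]
  funext i
  fin_cases i
  · change e v 0 + ap (up b) (e v) 0 = b * e v 1
    rw [ap_up_0, ← add_assoc, D.two_eq, zero_add]
  · change e v 1 + ap (up b) (e v) 1 = 0
    rw [ap_up_1, D.two_eq]

theorem cm_VP {v u : G} (hv : v ∈ zl (S : Subgroup G) P) (hu : u ∈ P) : cm v u ∈ zl (S : Subgroup G) P := by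
  have e1 : cm v u = v * (u * v⁻¹ * u⁻¹) := by rw [cm_def]; group
  rw [e1]
  exact mul_mem hv (conj_mem_of_mem (D.PV hu) (inv_mem hv))

theorem UP : zl (S : Subgroup G) H ≤ P := D.US.trans D.SP

/-- `[V, U] ≤ Z` -/
theorem VU_Z {v u : G} (hv : v ∈ zl (S : Subgroup G) P) (hu : u ∈ zl (S : Subgroup G) H) :
    cm v u ∈ zc (S : Subgroup G) := by
  obtain ⟨b, hb⟩ := D.up1 u hu
  rw [← D.line _ (D.cm_VP hv (D.UP hu)), D.e_cm hv (D.UP hu) hb]
  rfl

/-- the root coordinate of `U` -/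
theorem exists_beta : ∃ β : G → F, (∀ u ∈ zl (S : Subgroup G) H, Act e (zl (S : Subgroup G) P) u (up (β u))) ∧
    (∀ u ∈ zl (S : Subgroup G) H, ∀ w ∈ zl (S : Subgroup G) H, β (u * w) = β u + β w) ∧
    (∀ u ∈ zl (S : Subgroup G) H, β u = 0 ↔ u ∈ Yy (S : Subgroup G) P H) ∧
    ∀ x, ∃ u ∈ zl (S : Subgroup G) H, β u = x := by
  classical
  obtain ⟨v1, hv1, he1⟩ := D.surj ![0, 1]
  have he : e v1 1 = 1 := by rw [he1]; rfl
  have huniq : ∀ u ∈ zl (S : Subgroup G) H, ∀ b b', Act e (zl (S : Subgroup G) P) u (up b) →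
      Act e (zl (S : Subgroup G) P) u (up b') → b = b' := by
    intro u hu b b' h1 h2
    have h3 := congrFun (D.e_cm hv1 (D.UP hu) h1) 0
    rw [D.e_cm hv1 (D.UP hu) h2, he, mul_one, mul_one] at h3
    exact h3.symm
  choose! β hβ using D.up1
  refine ⟨β, hβ, ?_, ?_, ?_⟩
  · intro u hu w hw
    refine huniq _ (mul_mem hu hw) _ _ (hβ _ (mul_mem hu hw)) ?_
    rw [← up_mul]
    exact (hβ u hu).mul (hβ w hw) (D.PV (D.UP hw))
  · intro u hu
    constructor
    · intro h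
      refine mem_inf.mpr ⟨hu, D.cent u (D.UP hu) ?_⟩
      have h1 := hβ u hu
      rwa [h, up_zero] at h1
    · intro h
      refine huniq u hu _ _ (hβ u hu) ?_
      rw [up_zero]
      intro v hv
      rw [ap_one]
      congr 1
      rw [← mem_centralizer_iff.mp (mem_inf.mp h).2 v hv, mul_inv_cancel_right]
  · intro x
    obtain ⟨u, hu, h⟩ := D.up2 x
    exact ⟨u, hu, huniq u hu _ _ (hβ u hu) h⟩

theorem ZV_P {v : G} (hv : v ∈ zc (S : Subgroup G)) : e v 1 = 0 := (D.line v (D.ZV hv)).mpr hv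

/-- `[v, u] ∈ E` only if `v ∈ Z` or `u ∈ Y` -/
theorem cm_E {v u : G} (hv : v ∈ zl (S : Subgroup G) P) (hu : u ∈ zl (S : Subgroup G) H)
    (h : cm v u ∈ centralizer (P : Set G)) : v ∈ zc (S : Subgroup G) ∨ u ∈ Yy (S : Subgroup G) P H := by
  obtain ⟨β, h1, h2, h3, h4⟩ := D.exists_beta
  have h5 : e (cm v u) = 0 := (D.ker _ (D.cm_VP hv (D.UP hu))).mpr (mem_inf.mpr ⟨D.VU_Z hv hu, h⟩)
  rw [D.e_cm hv (D.UP hu) (h1 u hu)] at h5
  have h6 : β u * e v 1 = 0 := congrFun h5 0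
  rcases mul_eq_zero.mp h6 with h | h
  · exact Or.inr ((h3 u hu).mp h)
  · exact Or.inl ((D.line v hv).mp h)

theorem cm_one {v u : G} (hv : v ∈ zl (S : Subgroup G) P) (hu : u ∈ zl (S : Subgroup G) H)
    (h : cm v u = 1) : v ∈ zc (S : Subgroup G) ∨ u ∈ Yy (S : Subgroup G) P H :=
  D.cm_E hv hu (h ▸ one_mem _)

/-! ### indices -/

theorem relIndex_YU : (Yy (S : Subgroup G) P H).relIndex (zl (S : Subgroup G) H) = Nat.card F := by
  obtain ⟨β, _, h2, h3, h4⟩ := D.exists_beta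
  exact relIndex_of_map β h2 h3 h4

theorem relIndex_ZV : (zc (S : Subgroup G)).relIndex (zl (S : Subgroup G) P) = Nat.card F := by
  refine relIndex_of_map (fun v => e v 1) (fun a ha b hb => congrFun (D.mul a ha b hb) 1) D.line fun x => ?_
  obtain ⟨v, hv, h⟩ := D.surj ![0, x]
  exact ⟨v, hv, by rw [h]; rfl⟩

theorem relIndex_EZ : (zc (S : Subgroup G) ⊓ centralizer (P : Set G)).relIndex (zc (S : Subgroup G)) = Nat.card F := by
  refine relIndex_of_map (fun v => e v 0) (fun a ha b hb => congrFun (D.mul a (D.ZV ha) b (D.ZV hb)) 0)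
    (fun a ha => ?_) fun x => ?_
  · rw [← D.ker a (D.ZV ha)]
    constructor
    · intro h
      funext i
      fin_cases i
      · exact h
      · exact D.ZV_P ha
    · intro h
      exact congrFun h 0
  · obtain ⟨v, hv, h⟩ := D.surj ![x, 0]
    refine ⟨v, (D.line v hv).mp (by rw [h]; rfl), by rw [h]; rfl⟩

/-! ### conjugates -/

omit D in
theorem conj_cm (h x y : G) : h⁻¹ * cm x y * h = cm (h⁻¹ * x * h) (h⁻¹ * y * h) := by
  simp only [cm_def]; group

theorem U_conj {h u : G} (hh : h ∈ H) (hu : u ∈ zl (S : Subgroup G) H) : h⁻¹ * u * h ∈ zl (S : Subgroup G) H := by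
  have h1 := conj_mem_of_mem (D.HU (inv_mem hh)) hu
  rwa [inv_inv] at h1

theorem conjU {h : G} (hh : h ∈ H) : MulAut.conj h • zl (S : Subgroup G) H = zl (S : Subgroup G) H :=
  conj_eq_of_mem (D.HU hh)

/-- `[V^h, U] ≤ Z^h` -/
theorem cm_conj {h a u : G} (hh : h ∈ H) (ha : a ∈ MulAut.conj h • zl (S : Subgroup G) P)
    (hu : u ∈ zl (S : Subgroup G) H) : cm a u ∈ MulAut.conj h • zc (S : Subgroup G) := by
  rw [mem_conj] at ha ⊢
  rw [conj_cm]
  exact D.VU_Z ha (D.U_conj hh hu)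

theorem conjZ_le {h : G} (hh : h ∈ H) : MulAut.conj h • zc (S : Subgroup G) ≤ zl (S : Subgroup G) H := by
  have h1 := (conj_le_iff (g := h)).2 D.ZU
  rwa [D.conjU hh] at h1

theorem conjY_le {h : G} (hh : h ∈ H) : MulAut.conj h • Yy (S : Subgroup G) P H ≤ zl (S : Subgroup G) H := by
  have h1 := (conj_le_iff (g := h)).2 (inf_le_left : Yy (S : Subgroup G) P H ≤ zl (S : Subgroup G) H)
  rwa [D.conjU hh] at h1

omit D in
theorem conjZ_le_V (h : G) : MulAut.conj h • zc (S : Subgroup G) ≤ MulAut.conj h • zl (S : Subgroup G) P :=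
  conj_le_iff.2 (zc_le_zl _ _)

theorem conjV_le {h : G} (hh : h ∈ H) : MulAut.conj h • zl (S : Subgroup G) P ≤ H := by
  have h1 := (conj_le_iff (g := h)).2 D.VH
  rwa [conj_eq_of_mem (Subgroup.le_normalizer hh)] at h1

/-- `C_U(a) = Y^h` for `a ∈ V^h - Z^h` -/
theorem mem_Y_of_comm {h a u : G} (hh : h ∈ H) (ha : a ∈ MulAut.conj h • zl (S : Subgroup G) P)
    (ha' : a ∉ MulAut.conj h • zc (S : Subgroup G)) (hu : u ∈ zl (S : Subgroup G) H) (hc : a * u = u * a) :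
    u ∈ MulAut.conj h • Yy (S : Subgroup G) P H := by
  rw [mem_conj] at ha ha' ⊢
  rcases D.cm_one ha (D.U_conj hh hu) (by
    rw [← conj_cm, cm_eq_one.mpr hc, mul_one, inv_mul_cancel]) with h1 | h1
  · exact absurd h1 ha'
  · exact h1

theorem Y_comm {h a u : G} (ha : a ∈ MulAut.conj h • zl (S : Subgroup G) P)
    (hu : u ∈ MulAut.conj h • Yy (S : Subgroup G) P H) : a * u = u * a := by
  rw [mem_conj] at ha hu
  have h1 := mem_centralizer_iff.mp (mem_inf.mp hu).2 _ ha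
  calc a * u = h * ((h⁻¹ * a * h) * (h⁻¹ * u * h)) * h⁻¹ := by group
    _ = h * ((h⁻¹ * u * h) * (h⁻¹ * a * h)) * h⁻¹ := by rw [h1]
    _ = u * a := by group

theorem mem_Y_iff {h u : G} (hh : h ∈ H) : u ∈ MulAut.conj h • Yy (S : Subgroup G) P H ↔
    u ∈ zl (S : Subgroup G) H ∧ ∀ a ∈ MulAut.conj h • zl (S : Subgroup G) P, a * u = u * a := by
  constructor
  · exact fun hu => ⟨D.conjY_le hh hu, fun a ha => D.Y_comm ha hu⟩
  · rintro ⟨hu, h1⟩
    rw [mem_conj]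
    refine mem_inf.mpr ⟨D.U_conj hh hu, ?_⟩
    rw [mem_centralizer_iff]
    intro v hv
    have h2 := h1 (h * v * h⁻¹) (by rw [mem_conj]; have e1 : h⁻¹ * (h * v * h⁻¹) * h = v := by group
                                    rwa [e1])
    calc v * (h⁻¹ * u * h) = h⁻¹ * ((h * v * h⁻¹) * u) * h := by group
      _ = h⁻¹ * (u * (h * v * h⁻¹)) * h := by rw [h2]
      _ = h⁻¹ * u * h * v := by group

theorem F_le_U : Fc (S : Subgroup G) H ≤ zl (S : Subgroup G) H := inf_le_left.trans D.ZU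

theorem F_le_Y {h : G} (hh : h ∈ H) : Fc (S : Subgroup G) H ≤ MulAut.conj h • Yy (S : Subgroup G) P H := by
  intro x hx
  rw [D.mem_Y_iff hh]
  exact ⟨D.F_le_U hx, fun a ha => mem_centralizer_iff.mp (mem_inf.mp hx).2 a (D.conjV_le hh ha)⟩

theorem R_le_Y {h : G} (hh : h ∈ H) : Rr (S : Subgroup G) P H ≤ MulAut.conj h • Yy (S : Subgroup G) P H := by
  intro x hx
  rw [D.mem_Y_iff hh]
  exact ⟨D.RU hx, fun a ha => mem_centralizer_iff.mp (mem_inf.mp hx).2 a (conj_le_NN hh ha)⟩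

/-! ### (S) -/

theorem comm_of_F_one {z x : G} (hz : z ∈ zc (S : Subgroup G)) (hx : x ∈ H)
    (h : cm x z ∈ Fc (S : Subgroup G) H) : x * z = z * x := by
  have : Fact (Nat.Prime 2) := ⟨Nat.prime_two⟩
  have hmul : ∀ {x y : G}, x ∈ H → cm y z ∈ Fc (S : Subgroup G) H → cm (x * y) z = cm x z * cm y z := by
    intro x y hx hy
    have e1 : cm (x * y) z = (x * cm y z * x⁻¹) * cm x z := by simp only [cm_def]; group
    have h2 := mem_centralizer_iff.mp (mem_inf.mp hy).2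
    rw [e1, Fc_conj hy hx]
    by_cases hz' : z ∈ H
    · have h3 : cm x z ∈ H := by
        rw [cm_def]
        exact mul_mem (mul_mem (mul_mem hx hz') (inv_mem hx)) (inv_mem hz')
      exact (h2 _ h3).symm
    · exact absurd (D.SH (D.ZS hz)) hz'
  let K : Subgroup G :=
    { carrier := {x | x ∈ H ∧ cm x z ∈ Fc (S : Subgroup G) H}
      mul_mem' := by
        rintro x y ⟨hx, h1⟩ ⟨hy, h2⟩
        refine ⟨mul_mem hx hy, ?_⟩
        rw [hmul hx h2]
        exact mul_mem h1 h2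
      one_mem' := ⟨one_mem _, by rw [cm_def]; simp⟩
      inv_mem' := by
        rintro x ⟨hx, h1⟩
        refine ⟨inv_mem hx, ?_⟩
        have e1 : cm x⁻¹ z = x⁻¹ * (cm x z)⁻¹ * x⁻¹⁻¹ := by simp only [cm_def]; group
        rw [e1, Fc_conj (inv_mem h1) (inv_mem hx)]
        exact inv_mem h1 }
  let φ : K →* G := MonoidHom.mk' (fun x => cm (x : G) z) fun x y => hmul x.2.1 y.2.2
  have hSK : (S : Subgroup G) ≤ K := fun s hs => ⟨D.SH hs, by
    rw [cm_eq_one.mpr (zcomm hz hs)]; exact one_mem _⟩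
  have hSk : (S : Subgroup G).subgroupOf K ≤ φ.ker := by
    rintro ⟨s, hs⟩ h1
    rw [MonoidHom.mem_ker]
    exact cm_eq_one.mpr (zcomm hz h1)
  have h1 : ¬ 2 ∣ φ.ker.index := by
    intro h2
    have h3 : φ.ker.index ∣ ((S : Subgroup G).subgroupOf K).index := index_dvd_of_le hSk
    exact MinSimple.Basic.not_dvd_relIndex S hSK (h2.trans h3)
  have h2 : IsPGroup 2 φ.range := by
    have h3 : φ.range ≤ Fc (S : Subgroup G) H := by
      rintro _ ⟨x, rfl⟩
      exact x.2.2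
    exact (S.isPGroup'.to_le ((inf_le_left : Fc (S : Subgroup G) H ≤ _).trans D.ZS)).to_le h3
  have h3 : φ.range = ⊥ := by
    obtain ⟨n, hn⟩ := IsPGroup.iff_card.mp h2
    rw [index_ker, hn] at h1
    have hn0 : n = 0 := by
      by_contra h4
      exact h1 (dvd_pow_self 2 h4)
    rw [hn0, pow_zero] at hn
    exact Subgroup.eq_bot_of_card_eq _ hn
  have h4 : φ ⟨x, hx, h⟩ ∈ φ.range := ⟨_, rfl⟩
  rw [h3, mem_bot] at h4
  exact cm_eq_one.mp h4

/-- **(S)** -/
theorem comm_of_F {h z x : G} (hh : h ∈ H) (hz : z ∈ MulAut.conj h • zc (S : Subgroup G)) (hx : x ∈ H)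
    (hF : cm x z ∈ Fc (S : Subgroup G) H) : x * z = z * x := by
  rw [mem_conj] at hz
  have h1 : cm (h⁻¹ * x * h) (h⁻¹ * z * h) ∈ Fc (S : Subgroup G) H := by
    rw [← conj_cm]
    have h2 := Fc_conj hF (inv_mem hh)
    rw [inv_inv] at h2
    rwa [h2]
  have h2 := D.comm_of_F_one hz (mul_mem (mul_mem (inv_mem hh) hx) hh) h1
  calc x * z = h * ((h⁻¹ * x * h) * (h⁻¹ * z * h)) * h⁻¹ := by group
    _ = h * ((h⁻¹ * z * h) * (h⁻¹ * x * h)) * h⁻¹ := by rw [h2]
    _ = z * x := by group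

/-! ### opposite pairs -/

/-- Baer–Suzuki -/
theorem exists_opp {h : G} (hh : h ∈ H) : ∃ k ∈ H, Opp (S : Subgroup G) P h k := by
  by_contra hcon
  push Not at hcon
  refine D.ne ((le_o2_of_pairs D.VH fun g hg => ?_).trans D.o2_cent)
  have h1 : IsPGroup 2 (MulAut.conj h • zl (S : Subgroup G) P ⊔ MulAut.conj (h * g) • zl (S : Subgroup G) P : Subgroup G) := by
    have h2 := hcon (h * g) (mul_mem hh hg)
    unfold Opp at h2
    rwa [not_not] at h2
  rw [← conj_conj, ← Subgroup.smul_sup] at h1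
  exact h1.of_equiv (Subgroup.equivSMul (MulAut.conj h) _).symm

/-- `Z^h ∩ Y^k = F` -/
theorem inf_F {h k : G} (hh : h ∈ H) (hk : k ∈ H) (ho : Opp (S : Subgroup G) P h k) {x : G}
    (hx : x ∈ MulAut.conj h • zc (S : Subgroup G)) (hxY : x ∈ MulAut.conj k • Yy (S : Subgroup G) P H) :
    x ∈ Fc (S : Subgroup G) H := by
  by_contra hxF
  apply ho
  have h1 := D.min_o2 hh hx hxF
  set L := H ⊓ centralizer ({x} : Set G) with hL
  have h2 : MulAut.conj k • zl (S : Subgroup G) P ≤ L := by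
    intro a ha
    refine mem_inf.mpr ⟨D.conjV_le hk ha, ?_⟩
    rw [mem_centralizer_iff]
    rintro _ rfl
    exact (D.Y_comm ha hxY).symm
  have h3 : IsPGroup 2 (MulAut.conj k • zl (S : Subgroup G) P ⊔ o2 L : Subgroup G) := by
    have : Fact (Nat.Prime 2) := ⟨Nat.prime_two⟩
    refine IsPGroup.to_sup_of_normal_right' ?_ (o2_isPGroup _) (h2.trans (le_normalizer_o2 _))
    exact (S.isPGroup'.to_le D.VS).map _
  refine h3.to_le (sup_le (h1.trans le_sup_right) le_sup_left)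

theorem inf_eq {h k : G} (hh : h ∈ H) (hk : k ∈ H) (ho : Opp (S : Subgroup G) P h k) :
    MulAut.conj h • zc (S : Subgroup G) ⊓ MulAut.conj k • Yy (S : Subgroup G) P H = Fc (S : Subgroup G) H :=
  le_antisymm (fun _ hx => D.inf_F hh hk ho (mem_inf.mp hx).1 (mem_inf.mp hx).2)
    (le_inf (Fc_le hh) (D.F_le_Y hk))

theorem not_R {h k a z : G} (hh : h ∈ H) (hk : k ∈ H) (ho : Opp (S : Subgroup G) P h k)
    (hz : z ∈ MulAut.conj k • zc (S : Subgroup G)) (hzF : z ∉ Fc (S : Subgroup G) H)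
    (ha : a ∈ MulAut.conj h • zl (S : Subgroup G) P) (haZ : a ∉ MulAut.conj h • zc (S : Subgroup G)) :
    cm a z ∉ Rr (S : Subgroup G) P H := by
  intro h1
  have hzU := D.conjZ_le hk hz
  have h2 := D.R_inf hh h1 (D.cm_conj hh ha hzU)
  have h3 := D.comm_of_F hk hz (D.conjV_le hh ha) h2
  exact hzF (D.inf_F hk hh ho.symm hz (D.mem_Y_of_comm hh ha haZ hzU h3))

theorem Z_not_F {k : G} (hk : k ∈ H) : ∃ z ∈ MulAut.conj k • zc (S : Subgroup G), z ∉ Fc (S : Subgroup G) H := by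
  by_contra hcon
  push Not at hcon
  apply D.ne
  have h1 : zc (S : Subgroup G) ≤ Fc (S : Subgroup G) H := by
    intro z hz
    have h2 := hcon (k * z * k⁻¹) (by
      rw [mem_conj]
      have e1 : k⁻¹ * (k * z * k⁻¹) * k = z := by group
      rwa [e1])
    have h3 := Fc_conj h2 (inv_mem hk)
    have e1 : k⁻¹ * (k * z * k⁻¹) * k⁻¹⁻¹ = z := by group
    rw [e1] at h3
    rw [h3]
    exact h2
  have h2 : zl (S : Subgroup G) H ≤ zc (S : Subgroup G) := by
    refine zl_le le_rfl fun h hh => ?_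
    refine mem_normalizer_of_conj_eq ?_
    refine conj_eq_of_mem (mem_normalizer_iff.mpr fun x => ?_)
    constructor
    · intro hx
      rw [Fc_conj (h1 hx) hh]
      exact hx
    · intro hx
      have h3 := Fc_conj (h1 hx) (inv_mem hh)
      have e1 : h⁻¹ * (h * x * h⁻¹) * h⁻¹⁻¹ = x := by group
      rw [e1] at h3
      rw [h3]
      exact hx
  intro v hv
  rw [mem_centralizer_iff]
  intro u hu
  exact (zcomm (h2 hu) (D.VS hv)).symm

/-- `β`-coordinate of `h⁻¹ u h` -/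
theorem exists_beta_conj {h : G} (hh : h ∈ H) : ∃ β : G → F,
    (∀ u ∈ zl (S : Subgroup G) H, ∀ w ∈ zl (S : Subgroup G) H, β (u * w) = β u + β w) ∧
    (∀ u ∈ zl (S : Subgroup G) H, β u = 0 ↔ u ∈ MulAut.conj h • Yy (S : Subgroup G) P H) ∧
    ∀ x, ∃ u ∈ zl (S : Subgroup G) H, β u = x := by
  obtain ⟨β, h1, h2, h3, h4⟩ := D.exists_beta
  refine ⟨fun u => β (h⁻¹ * u * h), ?_, ?_, ?_⟩
  · intro u hu w hw
    have e1 : h⁻¹ * (u * w) * h = (h⁻¹ * u * h) * (h⁻¹ * w * h) := by group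
    change β _ = _
    rw [e1, h2 _ (D.U_conj hh hu) _ (D.U_conj hh hw)]
  · intro u hu
    rw [mem_conj]
    exact h3 _ (D.U_conj hh hu)
  · intro x
    obtain ⟨u, hu, h5⟩ := h4 x
    refine ⟨h * u * h⁻¹, conj_mem_of_mem (D.HU hh) hu, ?_⟩
    have e1 : h⁻¹ * (h * u * h⁻¹) * h = u := by group
    change β _ = x
    rw [e1, h5]

theorem finite_F : Finite F := by
  have h1 : (Set.range fun v : zl (S : Subgroup G) P => e v 0).Finite := Set.finite_range _
  refine Set.finite_univ_iff.mp (h1.subset fun x _ => ?_)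
  obtain ⟨v, hv, h⟩ := D.surj ![x, 0]
  exact ⟨⟨v, hv⟩, by change e v 0 = x; rw [h]; rfl⟩

/-- `|V^h/Z^h| = q` -/
theorem relIndex_ZVh (h : G) :
    (MulAut.conj h • zc (S : Subgroup G)).relIndex (MulAut.conj h • zl (S : Subgroup G) P) = Nat.card F := by
  rw [relIndex_conj, D.relIndex_ZV]

theorem relIndex_YUh {h : G} (hh : h ∈ H) :
    (MulAut.conj h • Yy (S : Subgroup G) P H).relIndex (zl (S : Subgroup G) H) = Nat.card F := by
  have h1 := relIndex_conj h (Yy (S : Subgroup G) P H) (zl (S : Subgroup G) H)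
  rw [D.conjU hh, D.relIndex_YU] at h1
  exact h1

omit D in
theorem relIndex_F_conj {h : G} (hh : h ∈ H) : (Fc (S : Subgroup G) H).relIndex (MulAut.conj h • zc (S : Subgroup G)) =
    (Fc (S : Subgroup G) H).relIndex (zc (S : Subgroup G)) := by
  have h1 := relIndex_conj h (Fc (S : Subgroup G) H) (zc (S : Subgroup G))
  have h2 : MulAut.conj h • Fc (S : Subgroup G) H = Fc (S : Subgroup G) H := by
    refine conj_eq_of_mem (mem_normalizer_iff.mpr fun x => ?_)
    constructor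
    · intro hx
      rw [Fc_conj hx hh]
      exact hx
    · intro hx
      have h3 := Fc_conj hx (inv_mem hh)
      have e1 : h⁻¹ * (h * x * h⁻¹) * h⁻¹⁻¹ = x := by group
      rw [e1] at h3
      rw [h3]
      exact hx
  rwa [h2] at h1

/-- `|Z/F| ≤ q` -/
theorem card_le : (Fc (S : Subgroup G) H).relIndex (zc (S : Subgroup G)) ≤ Nat.card F := by
  have := D.finite_F
  obtain ⟨k, hk, ho⟩ := D.exists_opp (one_mem H)
  have h1 : (Fc (S : Subgroup G) H).relIndex (zc (S : Subgroup G)) =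
      (MulAut.conj k • Yy (S : Subgroup G) P H).relIndex (zc (S : Subgroup G)) := by
    have h2 := D.inf_eq (one_mem H) hk ho
    rw [map_one, one_smul] at h2
    rw [← h2, inf_relIndex_left]
  rw [h1, ← D.relIndex_YUh hk]
  refine relIndex_le_of_le_right D.ZU ?_
  rw [D.relIndex_YUh hk]
  exact Nat.card_pos.ne'

/-- the map `a ↦ [a, z]` -/
theorem cm_mul_left {h a b z : G} (hh : h ∈ H) (ha : a ∈ MulAut.conj h • zl (S : Subgroup G) P)
    (hb : b ∈ MulAut.conj h • zl (S : Subgroup G) P) (hz : z ∈ zl (S : Subgroup G) H) :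
    cm (a * b) z = cm a z * cm b z := by
  have h1 := D.cm_conj hh hb hz
  have h2 : a * cm b z * a⁻¹ = cm b z := by
    have h3 := ha
    have h4 := h1
    rw [mem_conj] at h3 h4
    have h5 := D.commV h3 (D.ZV h4)
    calc a * cm b z * a⁻¹ = h * ((h⁻¹ * a * h) * (h⁻¹ * cm b z * h)) * h⁻¹ * a⁻¹ := by group
      _ = h * ((h⁻¹ * cm b z * h) * (h⁻¹ * a * h)) * h⁻¹ * a⁻¹ := by rw [h5]
      _ = cm b z := by group
  have e1 : cm (a * b) z = (a * cm b z * a⁻¹) * cm a z := by simp only [cm_def]; group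
  rw [e1, h2]
  exact D.commU (D.conjZ_le hh h1) (D.conjZ_le hh (D.cm_conj hh ha hz))

/-- the elements `[a, z]`, `a ∈ V^h` -/
theorem exists_cm_card {h k z : G} (hh : h ∈ H) (hk : k ∈ H) (ho : Opp (S : Subgroup G) P h k)
    (hz : z ∈ MulAut.conj k • zc (S : Subgroup G)) (hzF : z ∉ Fc (S : Subgroup G) H) :
    Nat.card F = (Fc (S : Subgroup G) H).relIndex (MulAut.conj h • zc (S : Subgroup G)) ∧
    ∀ w ∈ MulAut.conj h • zc (S : Subgroup G), ∃ a ∈ MulAut.conj h • zl (S : Subgroup G) P,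
      cm a z * w ∈ Fc (S : Subgroup G) H := by
  classical
  have := D.finite_F
  have hzU := D.conjZ_le hk hz
  set A := MulAut.conj h • zl (S : Subgroup G) P with hA
  set Zh := MulAut.conj h • zc (S : Subgroup G) with hZh
  have hFZ : Fc (S : Subgroup G) H ≤ Zh := Fc_le hh
  have hcomm : ∀ x ∈ Zh, ∀ y ∈ Zh, x * y = y * x := fun x hx y hy => D.commU (D.conjZ_le hh hx) (D.conjZ_le hh hy)
  have hn : ((Fc (S : Subgroup G) H).subgroupOf Zh).Normal := by
    refine ⟨fun x hx g => ?_⟩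
    have h1 : g * x * g⁻¹ = x := Subtype.ext (by
      change (g : G) * x * (g : G)⁻¹ = x
      rw [hcomm g g.2 x x.2, mul_inv_cancel_right])
    rwa [h1]
  let f₀ : A →* Zh := MonoidHom.mk' (fun a => ⟨cm (a : G) z, D.cm_conj hh a.2 hzU⟩) fun a b =>
    Subtype.ext (D.cm_mul_left hh a.2 b.2 hzU)
  let f : A →* Zh ⧸ ((Fc (S : Subgroup G) H).subgroupOf Zh) := (QuotientGroup.mk' _).comp f₀
  have hker : f.ker = Zh.subgroupOf A := by
    ext ⟨a, ha⟩
    rw [MonoidHom.mem_ker, mem_subgroupOf]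
    have h1 : f ⟨a, ha⟩ = 1 ↔ cm a z ∈ Fc (S : Subgroup G) H := by
      change (QuotientGroup.mk (f₀ ⟨a, ha⟩) : Zh ⧸ ((Fc (S : Subgroup G) H).subgroupOf Zh)) = 1 ↔ _
      rw [QuotientGroup.eq_one_iff, mem_subgroupOf]
      rfl
    rw [h1]
    constructor
    · intro h2
      by_contra h3
      have h4 : cm a z ∈ Rr (S : Subgroup G) P H := by
        have h5 : cm a z ∈ Rr (S : Subgroup G) P H ⊓ zc (S : Subgroup G) := by
          rw [D.R_inf_Z]; exact h2
        exact (mem_inf.mp h5).1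
      exact D.not_R hh hk ho hz hzF ha h3 h4
    · intro h2
      have h3 : a * z = z * a := D.commU (D.conjZ_le hh h2) hzU
      rw [cm_eq_one.mpr h3]
      exact one_mem _
  have h1 : f.ker.index = Nat.card F := by
    rw [hker]
    exact D.relIndex_ZVh h
  have h2 : Nat.card f.range ≤ Nat.card (Zh ⧸ ((Fc (S : Subgroup G) H).subgroupOf Zh)) :=
    Nat.card_le_card_of_injective _ Subtype.val_injective
  have h3 : Nat.card (Zh ⧸ ((Fc (S : Subgroup G) H).subgroupOf Zh)) = (Fc (S : Subgroup G) H).relIndex Zh := rfl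
  have h4 : (Fc (S : Subgroup G) H).relIndex Zh ≤ Nat.card F := by
    rw [hZh, relIndex_F_conj hh]
    exact D.card_le
  rw [← index_ker, h1, h3] at h2
  have h5 : Nat.card F = (Fc (S : Subgroup G) H).relIndex Zh := le_antisymm h2 h4
  refine ⟨h5, fun w hw => ?_⟩
  have h6 : f.range = ⊤ := by
    refine Subgroup.eq_top_of_card_eq _ ?_
    rw [← index_ker, h1, h3, h5]
  have h7 : (QuotientGroup.mk (⟨w, hw⟩ : Zh) : Zh ⧸ ((Fc (S : Subgroup G) H).subgroupOf Zh))⁻¹ ∈ f.range := by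
    rw [h6]; exact mem_top _
  obtain ⟨⟨a, ha⟩, h8⟩ := h7
  refine ⟨a, ha, ?_⟩
  have h9 : (QuotientGroup.mk (f₀ ⟨a, ha⟩ * ⟨w, hw⟩) : Zh ⧸ ((Fc (S : Subgroup G) H).subgroupOf Zh)) = 1 := by
    rw [QuotientGroup.mk_mul]
    change f ⟨a, ha⟩ * _ = 1
    rw [h8, inv_mul_cancel]
  rw [QuotientGroup.eq_one_iff, mem_subgroupOf] at h9
  exact h9

/-- **`|Z/F| = q`** -/
theorem card_F : (Fc (S : Subgroup G) H).relIndex (zc (S : Subgroup G)) = Nat.card F := by
  obtain ⟨k, hk, ho⟩ := D.exists_opp (one_mem H)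
  obtain ⟨z, hz, hzF⟩ := D.Z_not_F hk
  have h1 := (D.exists_cm_card (one_mem H) hk ho hz hzF).1
  rw [map_one, one_smul] at h1
  exact h1.symm

/-- **`U = Z^h Y^k`** for an opposite pair -/
theorem U_eq {h k : G} (hh : h ∈ H) (hk : k ∈ H) (ho : Opp (S : Subgroup G) P h k) {u : G}
    (hu : u ∈ zl (S : Subgroup G) H) : ∃ z ∈ MulAut.conj h • zc (S : Subgroup G),
      ∃ y ∈ MulAut.conj k • Yy (S : Subgroup G) P H, u = z * y := by
  have := D.finite_F
  obtain ⟨β, h2, h3, h4⟩ := D.exists_beta_conj hk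
  set Zh := MulAut.conj h • zc (S : Subgroup G) with hZh
  let φ : Zh →* Multiplicative F := MonoidHom.mk' (fun a => Multiplicative.ofAdd (β a)) fun a b => by
    rw [← ofAdd_add, ← h2 a (D.conjZ_le hh a.2) b (D.conjZ_le hh b.2)]
    rfl
  have hker : φ.ker = (Fc (S : Subgroup G) H).subgroupOf Zh := by
    ext ⟨a, ha⟩
    rw [MonoidHom.mem_ker, mem_subgroupOf]
    change β a = 0 ↔ a ∈ _
    rw [h3 a (D.conjZ_le hh ha)]
    exact ⟨fun h5 => D.inf_F hh hk ho ha h5, fun h5 => D.F_le_Y hk h5⟩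
  have h5 : φ.range = ⊤ := by
    refine Subgroup.eq_top_of_card_eq _ ?_
    rw [← index_ker, hker]
    change (Fc (S : Subgroup G) H).relIndex Zh = _
    rw [hZh, relIndex_F_conj hh, D.card_F]
    exact Nat.card_congr Multiplicative.ofAdd
  have h6 : Multiplicative.ofAdd (β u) ∈ φ.range := by rw [h5]; exact mem_top _
  obtain ⟨⟨z, hz⟩, h7⟩ := h6
  have h8 : β z = β u := h7
  have hzU := D.conjZ_le hh hz
  refine ⟨z, hz, z⁻¹ * u, ?_, by group⟩
  rw [← h3 _ (mul_mem (inv_mem hzU) hu), h2 _ (inv_mem hzU) _ hu, D.inv_U hzU, h8, D.two_eq]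

/-- **`[a, u] ∉ R`** for `a ∈ V^h - Z^h`, `u ∈ U - Y^h` -/
theorem not_R' {h a u : G} (hh : h ∈ H) (ha : a ∈ MulAut.conj h • zl (S : Subgroup G) P)
    (haZ : a ∉ MulAut.conj h • zc (S : Subgroup G)) (hu : u ∈ zl (S : Subgroup G) H)
    (huY : u ∉ MulAut.conj h • Yy (S : Subgroup G) P H) : cm a u ∉ Rr (S : Subgroup G) P H := by
  obtain ⟨k, hk, ho⟩ := D.exists_opp hh
  obtain ⟨z, hz, y, hy, rfl⟩ := D.U_eq hk hh ho.symm hu
  have h1 : a * y = y * a := D.Y_comm ha hy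
  have e1 : cm a (z * y) = cm a z := by
    rw [cm_def, cm_def, mul_inv_rev]
    calc a * (z * y) * a⁻¹ * (y⁻¹ * z⁻¹) = a * z * (y * a⁻¹) * y⁻¹ * z⁻¹ := by group
      _ = a * z * (a⁻¹ * y) * y⁻¹ * z⁻¹ := by
          have h2 : y * a⁻¹ = a⁻¹ * y := by
            calc y * a⁻¹ = a⁻¹ * (a * y) * a⁻¹ := by group
              _ = a⁻¹ * (y * a) * a⁻¹ := by rw [h1]
              _ = a⁻¹ * y := by group
          rw [h2]
      _ = a * z * a⁻¹ * z⁻¹ := by group
  rw [e1]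
  refine D.not_R hh hk ho hz (fun h2 => huY ?_) ha haZ
  exact mul_mem (D.F_le_Y hh h2) hy

/-- **`[V^h, u] F = Z^h`** for `u ∈ U - Y^h` -/
theorem exists_cm {h u : G} (hh : h ∈ H) (hu : u ∈ zl (S : Subgroup G) H)
    (huY : u ∉ MulAut.conj h • Yy (S : Subgroup G) P H) {w : G} (hw : w ∈ MulAut.conj h • zc (S : Subgroup G)) :
    ∃ a ∈ MulAut.conj h • zl (S : Subgroup G) P, cm a u * w ∈ Fc (S : Subgroup G) H := by
  obtain ⟨k, hk, ho⟩ := D.exists_opp hh
  obtain ⟨z, hz, y, hy, rfl⟩ := D.U_eq hk hh ho.symm hu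
  have hzF : z ∉ Fc (S : Subgroup G) H := fun h2 => huY (mul_mem (D.F_le_Y hh h2) hy)
  obtain ⟨a, ha, h1⟩ := (D.exists_cm_card hh hk ho hz hzF).2 w hw
  refine ⟨a, ha, ?_⟩
  have h2 : a * y = y * a := D.Y_comm ha hy
  have e1 : cm a (z * y) = cm a z := by
    rw [cm_def, cm_def, mul_inv_rev]
    have h3 : y * a⁻¹ = a⁻¹ * y := by
      calc y * a⁻¹ = a⁻¹ * (a * y) * a⁻¹ := by group
        _ = a⁻¹ * (y * a) * a⁻¹ := by rw [h2]
        _ = a⁻¹ * y := by group
    calc a * (z * y) * a⁻¹ * (y⁻¹ * z⁻¹) = a * z * (y * a⁻¹) * y⁻¹ * z⁻¹ := by group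
      _ = a * z * (a⁻¹ * y) * y⁻¹ * z⁻¹ := by rw [h3]
      _ = a * z * a⁻¹ * z⁻¹ := by group
  rwa [e1]

/-- **`C_{U/R}(N) = 1`** -/
theorem mem_R {u : G} (hu : u ∈ zl (S : Subgroup G) H)
    (h : ∀ n ∈ NN (S : Subgroup G) P H, cm n u ∈ Rr (S : Subgroup G) P H) : u ∈ Rr (S : Subgroup G) P H := by
  have h1 : ∀ k ∈ H, u ∈ MulAut.conj k • Yy (S : Subgroup G) P H := by
    intro k hk
    by_contra h2
    -- an element of `V^k - Z^k`
    have h3 : ∃ a ∈ MulAut.conj k • zl (S : Subgroup G) P, a ∉ MulAut.conj k • zc (S : Subgroup G) := by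
      obtain ⟨v, hv, hev⟩ := D.surj ![0, 1]
      refine ⟨k * v * k⁻¹, ?_, ?_⟩
      · rw [mem_conj]
        have e1 : k⁻¹ * (k * v * k⁻¹) * k = v := by group
        rwa [e1]
      · rw [mem_conj]
        have e1 : k⁻¹ * (k * v * k⁻¹) * k = v := by group
        rw [e1]
        intro h4
        have h5 := D.ZV_P h4
        rw [hev] at h5
        exact one_ne_zero h5
    obtain ⟨a, ha, haZ⟩ := h3
    exact D.not_R' hk ha haZ hu h2 (h a (conj_le_NN hk ha))
  refine mem_inf.mpr ⟨hu, ?_⟩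
  have h2 : NN (S : Subgroup G) P H ≤ centralizer ({u} : Set G) := by
    refine NN_le fun k hk a ha => ?_
    rw [mem_centralizer_iff]
    rintro _ rfl
    exact (D.Y_comm ha (h1 k hk)).symm
  rw [mem_centralizer_iff]
  intro n hn
  exact (mem_centralizer_iff.mp (h2 hn) u rfl).symm

/-- `|F| = |E|` -/
theorem card_F_eq : Nat.card (Fc (S : Subgroup G) H) =
    Nat.card (zc (S : Subgroup G) ⊓ centralizer (P : Set G) : Subgroup G) := by
  have := D.finite_F
  have h1 := card_mul_index ((Fc (S : Subgroup G) H).subgroupOf (zc (S : Subgroup G)))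
  have h2 := card_mul_index ((zc (S : Subgroup G) ⊓ centralizer (P : Set G)).subgroupOf (zc (S : Subgroup G)))
  have h3 : ((Fc (S : Subgroup G) H).subgroupOf (zc (S : Subgroup G))).index = Nat.card F := D.card_F
  have h4 : ((zc (S : Subgroup G) ⊓ centralizer (P : Set G)).subgroupOf (zc (S : Subgroup G))).index = Nat.card F :=
    D.relIndex_EZ
  have h5 : Fc (S : Subgroup G) H ≤ zc (S : Subgroup G) := inf_le_left
  have h6 : zc (S : Subgroup G) ⊓ centralizer (P : Set G) ≤ zc (S : Subgroup G) := inf_le_left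
  rw [h3, Nat.card_congr (subgroupOfEquivOfLe h5).toEquiv] at h1
  rw [h4, Nat.card_congr (subgroupOfEquivOfLe h6).toEquiv, ← h1] at h2
  exact (Nat.eq_of_mul_eq_mul_right Nat.card_pos h2).symm

/-- **pairs generating a 2-group** -/
theorem pair {h k : G} (hh : h ∈ H) (hk : k ∈ H) (ho : ¬ Opp (S : Subgroup G) P h k) :
    MulAut.conj h • zc (S : Subgroup G) ≤ MulAut.conj k • Yy (S : Subgroup G) P H ∨
      MulAut.conj k • zc (S : Subgroup G) ≤ MulAut.conj h • Yy (S : Subgroup G) P H := by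
  have : Fact (Nat.Prime 2) := ⟨Nat.prime_two⟩
  unfold Opp at ho
  rw [not_not] at ho
  by_contra hcon
  push Not at hcon
  obtain ⟨hc1, hc2⟩ := hcon
  obtain ⟨z, hz, hzY⟩ := SetLike.not_le_iff_exists.mp hc1
  obtain ⟨w, hw, hwY⟩ := SetLike.not_le_iff_exists.mp hc2
  have hzU := D.conjZ_le hh hz
  have hwU := D.conjZ_le hk hw
  obtain ⟨b, hb, hb1⟩ := D.exists_cm hk hzU hzY hw
  obtain ⟨a, ha, ha1⟩ := D.exists_cm hh hwU hwY hz
  set X : Subgroup G := MulAut.conj h • zl (S : Subgroup G) P ⊔ MulAut.conj k • zl (S : Subgroup G) P with hX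
  have hXH : X ≤ H := sup_le (D.conjV_le hh) (D.conjV_le hk)
  have hXN : X ≤ NN (S : Subgroup G) P H := sup_le (conj_le_NN hh) (conj_le_NN hk)
  set T : Subgroup G := X ⊔ zl (S : Subgroup G) H with hT
  have hTp : IsPGroup 2 T :=
    IsPGroup.to_sup_of_normal_right' ho (S.isPGroup'.to_le D.US) (hXH.trans D.HU)
  have hnil : Group.IsNilpotent T := IsPGroup.isNilpotent hTp
  obtain ⟨n, hn⟩ := (Subgroup.isNilpotent_iff_lowerCentralSeries T).mp hnil
  have haT : a ∈ T := (le_sup_left : X ≤ T) ((le_sup_left : _ ≤ X) ha)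
  have hbT : b ∈ T := (le_sup_left : X ≤ T) ((le_sup_right : _ ≤ X) hb)
  have hUT : zl (S : Subgroup G) H ≤ T := le_sup_right
  -- the step
  have step : ∀ {m : ℕ} {x y c : G}, c ∈ X → x ∈ zl (S : Subgroup G) H → y ∈ zl (S : Subgroup G) H →
      cm c x * y ∈ Fc (S : Subgroup G) H → (∃ r ∈ Rr (S : Subgroup G) P H, x * r ∈ T.lowerCentralSeries m) →
      ∃ r ∈ Rr (S : Subgroup G) P H, y * r ∈ T.lowerCentralSeries (m + 1) := by
    rintro m x y c hc hx hy hf ⟨r, hr, hxr⟩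
    have hfR : cm c x * y ∈ Rr (S : Subgroup G) P H := by
      rw [← D.R_inf_Z] at hf
      exact (mem_inf.mp hf).1
    refine ⟨cm c x * y, hfR, ?_⟩
    have hcr : c * r = r * c := mem_centralizer_iff.mp (mem_inf.mp hr).2 c (hXN hc)
    have hcx : cm c x ∈ zl (S : Subgroup G) H := by
      have e1 : cm c x = (c * x * c⁻¹) * x⁻¹ := by rw [cm_def]
      rw [e1]
      exact mul_mem (conj_mem_of_mem (D.HU (hXH hc)) hx) (inv_mem hx)
    have h1 : cm c (x * r) = cm c x := by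
      rw [cm_def, cm_def, mul_inv_rev]
      have h2 : r * c⁻¹ = c⁻¹ * r := by
        calc r * c⁻¹ = c⁻¹ * (c * r) * c⁻¹ := by group
          _ = c⁻¹ * (r * c) * c⁻¹ := by rw [hcr]
          _ = c⁻¹ * r := by group
      calc c * (x * r) * c⁻¹ * (r⁻¹ * x⁻¹) = c * x * (r * c⁻¹) * r⁻¹ * x⁻¹ := by group
        _ = c * x * (c⁻¹ * r) * r⁻¹ * x⁻¹ := by rw [h2]
        _ = c * x * c⁻¹ * x⁻¹ := by group
    have h2 : y * (cm c x * y) = cm c x := by
      rw [D.commU hcx hy, ← mul_assoc, D.sqU hy, one_mul]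
    rw [h2, ← h1]
    change _ ∈ ⁅T.lowerCentralSeries m, T⁆
    have h3 : cm c (x * r) = ⁅x * r, c⁆⁻¹ := by
      rw [commutatorElement_inv]
      rfl
    rw [h3]
    exact inv_mem (commutator_mem_commutator hxr ((le_sup_left : X ≤ T) hc))
  have key : ∀ m : ℕ, (∃ r ∈ Rr (S : Subgroup G) P H, z * r ∈ T.lowerCentralSeries m) ∧
      ∃ r ∈ Rr (S : Subgroup G) P H, w * r ∈ T.lowerCentralSeries m := by
    intro m
    induction m with
    | zero => exact ⟨⟨1, one_mem _, by rw [mul_one]; exact hUT hzU⟩, ⟨1, one_mem _, by rw [mul_one]; exact hUT hwU⟩⟩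
    | succ m ih =>
      exact ⟨step ((le_sup_left : _ ≤ X) ha) hwU hzU ha1 ih.2, step ((le_sup_right : _ ≤ X) hb) hzU hwU hb1 ih.1⟩
  obtain ⟨⟨r, hr, h1⟩, -⟩ := key n
  rw [hn, mem_bot] at h1
  have h2 : z ∈ Rr (S : Subgroup G) P H := by
    rw [mul_eq_one_iff_eq_inv.mp h1]
    exact inv_mem hr
  exact hzY (D.F_le_Y hk (D.R_inf hh h2 hz))

end HypQ

end Cfsg.Agent.Omega.NOThreeL.RA

end

section


/-!
# NO-3L, `R ∩ (A)`, one natural factor, `|Z/E| = q` (#19087): `U` induces the full root group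

`HypQ0 e S P H` : `HypQ` without `up2` : the elements of `U = U_H` act on `V / E` as `up b`, for some `b`.

**`HypQ0.full`** : `HypQ0` implies `HypQ` : with an opposite pair `V^h`, `V^k`,
`q = |V/Z| ≤ |Z/F| = |Z/(Z ∩ Y^k)| ≤ |U/Y^k| = |β(U)| ≤ q`.
-/

set_option autoImplicit false
set_option linter.unusedSectionVars false

namespace Cfsg.Agent.Omega.NOThreeL.RA

open Subgroup Cfsg Cfsg.Agent.Omega.MinPar
open Cfsg.Agent.ZN (zc zl o2)
open Cfsg.Agent.Omega.Frame Cfsg.Agent.Omega.FrameNOFF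
open Cfsg.Agent.Omega.Node.NO3L Cfsg.Agent.Omega.NOThreeL.Basic
open Cfsg.Agent.Omega.NoFF.Basic (conj_conj mem_conj conj_le_iff conj_le_centralizer comm_symm comm_mono)
open Cfsg.Agent.Omega.NOThreeL.Pair (conj_eq_of_mem conj_le_normalizer zl_abel)
open Cfsg.Agent.MinSimple.VModule (zl_le zc_le_zl le_normalizer_zl zc_le o2_isPGroup le_normalizer_o2 le_o2
  normalizer_le_normalizer_zc)
open Cfsg.Agent.Omega.NOThreeL (mem_normalizer_of_conj_eq le_normalizer_of mem_sup_of_comm)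
open Cfsg.Agent.Omega.NOThreeL.RTools (cm cm_def cm_mul NN conj_mem_of_mem conj_le_NN le_NN NN_le le_normalizer_NN
  le_sup_inf isLong)
open Cfsg.Agent.Omega.NOThreeL.AOne (Act ap_up_0)
open Cfsg.Agent.Lib.SL2Mat
open Cfsg.Agent.Omega.NatPair (ap ap_mul ap_one ap_inv_ap)
open Cfsg.Agent.Omega.NOThreeL.RA.HypQ (zcomm C_cent Fc_conj Fc_le cm_eq_one conj_cm conjZ_le_V relIndex_F_conj)
open scoped Pointwise commutatorElement

universe u

variable {G : Type u} [Group G]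

/-- `HypQ` without `up2`. -/
structure HypQ0 [Finite G] {F : Type} [Field F] (e : G → Fin 2 → F) (S : Sylow 2 G) (P H : Subgroup G) : Prop where
  hc : IsCharacteristicTwoType G
  data : Data (S : Subgroup G)
  par : IsParS (S : Subgroup G) P
  long : IsLong (S : Subgroup G) H
  ne : ¬ zl (S : Subgroup G) P ≤ centralizer (zl (S : Subgroup G) H : Set G)
  min : ∀ H₁ : Subgroup G, IsLong (S : Subgroup G) H₁ → H₁ ≤ H → H₁ ≠ H →
    zl (S : Subgroup G) P ≤ centralizer (zl (S : Subgroup G) H₁ : Set G)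
  mul : ∀ v ∈ zl (S : Subgroup G) P, ∀ w ∈ zl (S : Subgroup G) P, e (v * w) = e v + e w
  surj : ∀ x : Fin 2 → F, ∃ v ∈ zl (S : Subgroup G) P, e v = x
  ker : ∀ v ∈ zl (S : Subgroup G) P, e v = 0 ↔ v ∈ zc (S : Subgroup G) ⊓ centralizer (P : Set G)
  line : ∀ v ∈ zl (S : Subgroup G) P, e v 1 = 0 ↔ v ∈ zc (S : Subgroup G)
  lift : ∀ A : Matrix.SpecialLinearGroup (Fin 2) F, ∃ g ∈ P, Act e (zl (S : Subgroup G) P) g A
  up1 : ∀ u ∈ zl (S : Subgroup G) H, ∃ b, Act e (zl (S : Subgroup G) P) u (up b)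
  cent : ∀ g ∈ P, Act e (zl (S : Subgroup G) P) g 1 → g ∈ centralizer (zl (S : Subgroup G) P : Set G)

namespace HypQ0

variable [Finite G] {F : Type} [Field F] {e : G → Fin 2 → F} {S : Sylow 2 G} {P H : Subgroup G} (D : HypQ0 e S P H)
include D

theorem commV {x y : G} (hx : x ∈ zl (S : Subgroup G) P) (hy : y ∈ zl (S : Subgroup G) P) : x * y = y * x :=
  mem_centralizer_iff.mp ((zl_abel D.hc S D.par.isLoc).1 hy) x hx

theorem sqV {x : G} (hx : x ∈ zl (S : Subgroup G) P) : x * x = 1 := by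
  have h := (zl_abel D.hc S D.par.isLoc).2 x hx
  rwa [pow_two] at h

theorem commU {x y : G} (hx : x ∈ zl (S : Subgroup G) H) (hy : y ∈ zl (S : Subgroup G) H) : x * y = y * x :=
  mem_centralizer_iff.mp ((zl_abel D.hc S D.long.loc).1 hy) x hx

theorem sqU {x : G} (hx : x ∈ zl (S : Subgroup G) H) : x * x = 1 := by
  have h := (zl_abel D.hc S D.long.loc).2 x hx
  rwa [pow_two] at h

theorem SH : (S : Subgroup G) ≤ H := D.long.loc.le

theorem SP : (S : Subgroup G) ≤ P := D.par.le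

theorem VS : zl (S : Subgroup G) P ≤ (S : Subgroup G) := IsParS.zl_le_S D.hc D.par

theorem US : zl (S : Subgroup G) H ≤ (S : Subgroup G) := IsLong.zl_le_S D.hc D.long

theorem CH : CZ (S : Subgroup G) ≤ H := D.long.cz

theorem ZU : zc (S : Subgroup G) ≤ zl (S : Subgroup G) H := zc_le_zl _ _

theorem ZV : zc (S : Subgroup G) ≤ zl (S : Subgroup G) P := zc_le_zl _ _

theorem ZS : zc (S : Subgroup G) ≤ (S : Subgroup G) := zc_le _

theorem VH : zl (S : Subgroup G) P ≤ H := D.VS.trans D.SH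

theorem HU : H ≤ normalizer (zl (S : Subgroup G) H : Set G) := le_normalizer_zl _ _

theorem PV : P ≤ normalizer (zl (S : Subgroup G) P : Set G) := le_normalizer_zl _ _

/-- `O₂(H)` centralises `U` -/
theorem o2_cent : o2 H ≤ centralizer (zl (S : Subgroup G) H : Set G) :=
  Cfsg.Agent.MinSimple.VModule.o2_le_centralizer_zl D.long.loc.le S.isPGroup'
    (MinSimple.Basic.not_dvd_relIndex S D.long.loc.le) (D.long.loc.char2 S D.hc)


theorem NN_le_H : NN (S : Subgroup G) P H ≤ H := NN_le fun x hx => by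
  have h1 := conj_le_iff (g := x).2 D.VH
  rwa [conj_eq_of_mem (Subgroup.le_normalizer hx)] at h1

theorem C_norm_NN : CZ (S : Subgroup G) ≤ normalizer (NN (S : Subgroup G) P H : Set G) :=
  D.CH.trans (le_normalizer_NN _ _ _)

/-- **(0)** `H = N C` -/
theorem le_sup : H ≤ NN (S : Subgroup G) P H ⊔ CZ (S : Subgroup G) := by
  by_contra hcon
  set H₁ := NN (S : Subgroup G) P H ⊔ CZ (S : Subgroup G) with hH1
  have hle : H₁ ≤ H := sup_le D.NN_le_H D.CH
  have hne : H₁ ≠ H := fun h => hcon (by rw [h])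
  have hl : IsLong (S : Subgroup G) H₁ :=
    ⟨D.long.loc.of_le S ((le_CZ S).trans le_sup_right) hle, le_sup_right⟩
  have h1 := D.min H₁ hl hle hne
  have h2 : zl (S : Subgroup G) P ≤ o2 H₁ := le_o2_of_comm (D.data.low P D.par) hl h1
  -- `V ≤ O₂(N) ≤ O₂(H)`
  have h3 : zl (S : Subgroup G) P ≤ o2 (NN (S : Subgroup G) P H) := by
    have h4 : o2 H₁ ⊓ NN (S : Subgroup G) P H ≤ o2 (NN (S : Subgroup G) P H) := by
      refine le_o2 inf_le_right ((o2_isPGroup _).to_le inf_le_left) ?_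
      intro g hg
      have h5 := le_normalizer_o2 H₁ ((le_sup_left : NN (S : Subgroup G) P H ≤ H₁) hg)
      rw [mem_normalizer_iff] at h5 ⊢
      intro x
      rw [mem_inf, mem_inf, h5 x, mem_normalizer_iff.mp (Subgroup.le_normalizer hg) x]
    exact (le_inf h2 (le_NN _ _ _)).trans h4
  have h6 : o2 (NN (S : Subgroup G) P H) ≤ o2 H := by
    refine le_o2 ((Cfsg.Agent.MinSimple.VModule.o2_le _).trans D.NN_le_H) (o2_isPGroup _) ?_
    refine (le_normalizer_NN (S : Subgroup G) P H).trans ?_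
    exact Cfsg.Agent.Omega.normalizer_le_normalizer_o2' _
  exact D.ne ((h3.trans h6).trans D.o2_cent)

theorem exists_nc {h : G} (hh : h ∈ H) : ∃ n ∈ NN (S : Subgroup G) P H, ∃ c ∈ CZ (S : Subgroup G), h = n * c := by
  have h1 : h ∈ ((NN (S : Subgroup G) P H ⊔ CZ (S : Subgroup G) : Subgroup G) : Set G) := D.le_sup hh
  rw [coe_mul_of_right_le_normalizer_left _ _ D.C_norm_NN] at h1
  obtain ⟨n, hn, c, hc, rfl⟩ := Set.mem_mul.mp h1
  exact ⟨n, hn, c, hc, rfl⟩

/-- **(0)** : no `1 ≠ z ∈ E` is centralised by `N`. -/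
theorem not_cent {z : G} (hz : z ∈ zc (S : Subgroup G)) (hzP : z ∈ centralizer (P : Set G))
    (hzN : z ∈ centralizer (NN (S : Subgroup G) P H : Set G)) : z = 1 := by
  by_contra hz1
  have hL : IsLong (S : Subgroup G) (centralizer ({z} : Set G)) := isLong S hz hz1
  have hHz : H ≤ centralizer ({z} : Set G) := by
    intro h hh
    obtain ⟨n, hn, c, hc, rfl⟩ := D.exists_nc hh
    refine mul_mem ?_ (hL.cz hc)
    rw [mem_centralizer_iff]
    rintro _ rfl
    exact (mem_centralizer_iff.mp hzN n hn).symm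
  have hPz : P ≤ centralizer ({z} : Set G) := by
    intro p hp
    rw [mem_centralizer_iff]
    rintro _ rfl
    exact (mem_centralizer_iff.mp hzP p hp).symm
  have h1 : zl (S : Subgroup G) P ≤ zl (S : Subgroup G) (centralizer ({z} : Set G)) :=
    zl_le (zc_le_zl _ _) (hPz.trans (le_normalizer_zl _ _))
  have h2 : zl (S : Subgroup G) H ≤ zl (S : Subgroup G) (centralizer ({z} : Set G)) :=
    zl_le (zc_le_zl _ _) (hHz.trans (le_normalizer_zl _ _))
  exact D.ne (comm_mono (zl_abel D.hc S hL.loc).1 h1 h2)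


/-- `R ∩ Z = F` -/
theorem R_inf_Z : Rr (S : Subgroup G) P H ⊓ zc (S : Subgroup G) = Fc (S : Subgroup G) H := by
  apply le_antisymm
  · intro x hx
    obtain ⟨hx1, hx2⟩ := mem_inf.mp hx
    refine mem_inf.mpr ⟨hx2, ?_⟩
    rw [mem_centralizer_iff]
    intro h hh
    obtain ⟨n, hn, c, hc, rfl⟩ := D.exists_nc hh
    have h1 := mem_centralizer_iff.mp (mem_inf.mp hx1).2 n hn
    have h2 : c * x = x * c := (mem_centralizer_iff.mp hc x hx2).symm
    calc n * c * x = n * (c * x) := by group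
      _ = (n * x) * c := by rw [h2]; group
      _ = x * (n * c) := by rw [h1]; group
  · intro x hx
    obtain ⟨hx1, hx2⟩ := mem_inf.mp hx
    exact mem_inf.mpr ⟨mem_inf.mpr ⟨D.ZU hx1, centralizer_le D.NN_le_H hx2⟩, hx1⟩

theorem HR : H ≤ normalizer (Rr (S : Subgroup G) P H : Set G) := by
  refine le_normalizer_of fun h hh x hx => mem_inf.mpr ⟨conj_mem_of_mem (D.HU hh) (mem_inf.mp hx).1, ?_⟩
  rw [mem_centralizer_iff]
  intro y hy
  have hy' : h⁻¹ * y * h ∈ NN (S : Subgroup G) P H := by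
    have h1 := conj_mem_of_mem (le_normalizer_NN (S : Subgroup G) P H (inv_mem hh)) hy
    rwa [inv_inv] at h1
  have h1 := mem_centralizer_iff.mp (mem_inf.mp hx).2 _ hy'
  calc y * (h * x * h⁻¹) = h * ((h⁻¹ * y * h) * x) * h⁻¹ := by group
    _ = h * (x * (h⁻¹ * y * h)) * h⁻¹ := by rw [h1]
    _ = h * x * h⁻¹ * y := by group

theorem RU : Rr (S : Subgroup G) P H ≤ zl (S : Subgroup G) H := inf_le_left

/-- `R ∩ Z^h = F` -/
theorem R_inf {h : G} (hh : h ∈ H) {x : G} (hx : x ∈ Rr (S : Subgroup G) P H)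
    (hz : x ∈ MulAut.conj h • zc (S : Subgroup G)) : x ∈ Fc (S : Subgroup G) H := by
  rw [mem_conj] at hz
  have h1 : h⁻¹ * x * h ∈ Rr (S : Subgroup G) P H := by
    have h2 := conj_mem_of_mem (D.HR (inv_mem hh)) hx
    rwa [inv_inv] at h2
  have h2 : h⁻¹ * x * h ∈ Fc (S : Subgroup G) H := by
    rw [← D.R_inf_Z]
    exact mem_inf.mpr ⟨h1, hz⟩
  have h3 := Fc_conj h2 hh
  have e1 : h * (h⁻¹ * x * h) * h⁻¹ = x := by group
  rw [e1] at h3
  rw [h3]
  exact h2


/-- **(MIN)** `x ∈ Z^h - F` implies `V^h ≤ O₂(C_H(x))`. -/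
theorem min_o2 {h x : G} (hh : h ∈ H) (hx : x ∈ MulAut.conj h • zc (S : Subgroup G)) (hxF : x ∉ Fc (S : Subgroup G) H) :
    MulAut.conj h • zl (S : Subgroup G) P ≤ o2 (H ⊓ centralizer ({x} : Set G)) := by
  rw [mem_conj] at hx
  set y := h⁻¹ * x * h with hy
  have e1 : x = h * y * h⁻¹ := by rw [hy]; group
  have hyF : y ∉ Fc (S : Subgroup G) H := by
    intro h1
    apply hxF
    rw [e1, Fc_conj h1 hh]
    exact h1
  have hy1 : y ≠ 1 := fun h1 => hyF (h1 ▸ one_mem _)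
  have hl0 := isLong S hx hy1
  have hl : IsLong (S : Subgroup G) (H ⊓ centralizer ({y} : Set G)) :=
    ⟨hl0.loc.of_le S (le_inf D.SH hl0.loc.le) inf_le_right, le_inf D.CH hl0.cz⟩
  have hne : H ⊓ centralizer ({y} : Set G) ≠ H := by
    intro h1
    apply hyF
    refine mem_inf.mpr ⟨hx, ?_⟩
    rw [mem_centralizer_iff]
    intro k hk
    exact (mem_centralizer_iff.mp ((inf_eq_left.mp h1) hk) y rfl).symm
  have h2 : zl (S : Subgroup G) P ≤ o2 (H ⊓ centralizer ({y} : Set G)) :=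
    le_o2_of_comm (D.data.low P D.par) hl (D.min _ hl inf_le_left hne)
  have h3 := (conj_le_iff (g := h)).2 h2
  rw [← show o2 (MulAut.conj h • (H ⊓ centralizer ({y} : Set G))) = MulAut.conj h • o2 (H ⊓ centralizer ({y} : Set G)) from o2_map_equiv (MulAut.conj h) _] at h3
  have e2 : MulAut.conj h • (H ⊓ centralizer ({y} : Set G)) = H ⊓ centralizer ({x} : Set G) := by
    rw [Subgroup.smul_inf, conj_eq_of_mem (Subgroup.le_normalizer hh)]
    congr 1
    ext g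
    rw [mem_conj, mem_centralizer_singleton_iff, mem_centralizer_singleton_iff, e1]
    constructor
    · intro h4
      calc g * (h * y * h⁻¹) = h * ((h⁻¹ * g * h) * y) * h⁻¹ := by group
        _ = h * (y * (h⁻¹ * g * h)) * h⁻¹ := by rw [h4]
        _ = (h * y * h⁻¹) * g := by group
    · intro h4
      calc (h⁻¹ * g * h) * y = h⁻¹ * (g * (h * y * h⁻¹)) * h := by group
        _ = h⁻¹ * ((h * y * h⁻¹) * g) * h := by rw [h4]
        _ = y * (h⁻¹ * g * h) := by group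
  rwa [e2] at h3



theorem e_one : e 1 = 0 := by
  have h := D.mul 1 (one_mem _) 1 (one_mem _)
  rw [mul_one] at h
  exact left_eq_add.mp h

theorem e_self {v : G} (hv : v ∈ zl (S : Subgroup G) P) : e v + e v = 0 := by
  rw [← D.mul v hv v hv, D.sqV hv, D.e_one]

theorem inv_V {v : G} (hv : v ∈ zl (S : Subgroup G) P) : v⁻¹ = v := inv_eq_of_mul_eq_one_left (D.sqV hv)

theorem inv_U {v : G} (hv : v ∈ zl (S : Subgroup G) H) : v⁻¹ = v := inv_eq_of_mul_eq_one_left (D.sqU hv)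

theorem two_eq (x : F) : x + x = 0 := by
  obtain ⟨v, hv, h⟩ := D.surj ![x, 0]
  have h1 := congrFun (D.e_self hv) 0
  rw [h] at h1
  exact h1

theorem e_cm {v u : G} {b : F} (hv : v ∈ zl (S : Subgroup G) P) (hu : u ∈ P)
    (h : Act e (zl (S : Subgroup G) P) u (up b)) : e (cm v u) = ![b * e v 1, 0] := by
  have e1 : cm v u = v * (u * v * u⁻¹) := by
    rw [cm_def]
    calc v * u * v⁻¹ * u⁻¹ = v * (u * v⁻¹ * u⁻¹) := by group
      _ = v * (u * v * u⁻¹) := by rw [D.inv_V hv]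
  rw [e1, D.mul v hv _ (conj_mem_of_mem (D.PV hu) hv), h v hv]
  funext i
  fin_cases i
  · change e v 0 + ap (up b) (e v) 0 = b * e v 1
    rw [ap_up_0, ← add_assoc, D.two_eq, zero_add]
  · change e v 1 + ap (up b) (e v) 1 = 0
    rw [ap_up_1, D.two_eq]

theorem cm_VP {v u : G} (hv : v ∈ zl (S : Subgroup G) P) (hu : u ∈ P) : cm v u ∈ zl (S : Subgroup G) P := by
  have e1 : cm v u = v * (u * v⁻¹ * u⁻¹) := by rw [cm_def]; group
  rw [e1]
  exact mul_mem hv (conj_mem_of_mem (D.PV hu) (inv_mem hv))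

theorem UP : zl (S : Subgroup G) H ≤ P := D.US.trans D.SP

/-- `[V, U] ≤ Z` -/
theorem VU_Z {v u : G} (hv : v ∈ zl (S : Subgroup G) P) (hu : u ∈ zl (S : Subgroup G) H) :
    cm v u ∈ zc (S : Subgroup G) := by
  obtain ⟨b, hb⟩ := D.up1 u hu
  rw [← D.line _ (D.cm_VP hv (D.UP hu)), D.e_cm hv (D.UP hu) hb]
  rfl

/-- the root coordinate of `U` -/
theorem exists_beta : ∃ β : G → F, (∀ u ∈ zl (S : Subgroup G) H, Act e (zl (S : Subgroup G) P) u (up (β u))) ∧
    (∀ u ∈ zl (S : Subgroup G) H, ∀ w ∈ zl (S : Subgroup G) H, β (u * w) = β u + β w) ∧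
    ∀ u ∈ zl (S : Subgroup G) H, β u = 0 ↔ u ∈ Yy (S : Subgroup G) P H := by
  classical
  obtain ⟨v1, hv1, he1⟩ := D.surj ![0, 1]
  have he : e v1 1 = 1 := by rw [he1]; rfl
  have huniq : ∀ u ∈ zl (S : Subgroup G) H, ∀ b b', Act e (zl (S : Subgroup G) P) u (up b) →
      Act e (zl (S : Subgroup G) P) u (up b') → b = b' := by
    intro u hu b b' h1 h2
    have h3 := congrFun (D.e_cm hv1 (D.UP hu) h1) 0
    rw [D.e_cm hv1 (D.UP hu) h2, he, mul_one, mul_one] at h3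
    exact h3.symm
  choose! β hβ using D.up1
  refine ⟨β, hβ, ?_, ?_⟩
  · intro u hu w hw
    refine huniq _ (mul_mem hu hw) _ _ (hβ _ (mul_mem hu hw)) ?_
    rw [← up_mul]
    exact (hβ u hu).mul (hβ w hw) (D.PV (D.UP hw))
  · intro u hu
    constructor
    · intro h
      refine mem_inf.mpr ⟨hu, D.cent u (D.UP hu) ?_⟩
      have h1 := hβ u hu
      rwa [h, up_zero] at h1
    · intro h
      refine huniq u hu _ _ (hβ u hu) ?_
      rw [up_zero]
      intro v hv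
      rw [ap_one]
      congr 1
      rw [← mem_centralizer_iff.mp (mem_inf.mp h).2 v hv, mul_inv_cancel_right]

theorem ZV_P {v : G} (hv : v ∈ zc (S : Subgroup G)) : e v 1 = 0 := (D.line v (D.ZV hv)).mpr hv

/-- `[v, u] ∈ E` only if `v ∈ Z` or `u ∈ Y` -/
theorem cm_E {v u : G} (hv : v ∈ zl (S : Subgroup G) P) (hu : u ∈ zl (S : Subgroup G) H)
    (h : cm v u ∈ centralizer (P : Set G)) : v ∈ zc (S : Subgroup G) ∨ u ∈ Yy (S : Subgroup G) P H := by
  obtain ⟨β, h1, h2, h3⟩ := D.exists_beta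
  have h5 : e (cm v u) = 0 := (D.ker _ (D.cm_VP hv (D.UP hu))).mpr (mem_inf.mpr ⟨D.VU_Z hv hu, h⟩)
  rw [D.e_cm hv (D.UP hu) (h1 u hu)] at h5
  have h6 : β u * e v 1 = 0 := congrFun h5 0
  rcases mul_eq_zero.mp h6 with h | h
  · exact Or.inr ((h3 u hu).mp h)
  · exact Or.inl ((D.line v hv).mp h)

theorem cm_one {v u : G} (hv : v ∈ zl (S : Subgroup G) P) (hu : u ∈ zl (S : Subgroup G) H)
    (h : cm v u = 1) : v ∈ zc (S : Subgroup G) ∨ u ∈ Yy (S : Subgroup G) P H :=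
  D.cm_E hv hu (h ▸ one_mem _)


theorem relIndex_ZV : (zc (S : Subgroup G)).relIndex (zl (S : Subgroup G) P) = Nat.card F := by
  refine relIndex_of_map (fun v => e v 1) (fun a ha b hb => congrFun (D.mul a ha b hb) 1) D.line fun x => ?_
  obtain ⟨v, hv, h⟩ := D.surj ![0, x]
  exact ⟨v, hv, by rw [h]; rfl⟩

theorem U_conj {h u : G} (hh : h ∈ H) (hu : u ∈ zl (S : Subgroup G) H) : h⁻¹ * u * h ∈ zl (S : Subgroup G) H := by
  have h1 := conj_mem_of_mem (D.HU (inv_mem hh)) hu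
  rwa [inv_inv] at h1

theorem conjU {h : G} (hh : h ∈ H) : MulAut.conj h • zl (S : Subgroup G) H = zl (S : Subgroup G) H :=
  conj_eq_of_mem (D.HU hh)

/-- `[V^h, U] ≤ Z^h` -/
theorem cm_conj {h a u : G} (hh : h ∈ H) (ha : a ∈ MulAut.conj h • zl (S : Subgroup G) P)
    (hu : u ∈ zl (S : Subgroup G) H) : cm a u ∈ MulAut.conj h • zc (S : Subgroup G) := by
  rw [mem_conj] at ha ⊢
  rw [conj_cm]
  exact D.VU_Z ha (D.U_conj hh hu)

theorem conjZ_le {h : G} (hh : h ∈ H) : MulAut.conj h • zc (S : Subgroup G) ≤ zl (S : Subgroup G) H := by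
  have h1 := (conj_le_iff (g := h)).2 D.ZU
  rwa [D.conjU hh] at h1

theorem conjY_le {h : G} (hh : h ∈ H) : MulAut.conj h • Yy (S : Subgroup G) P H ≤ zl (S : Subgroup G) H := by
  have h1 := (conj_le_iff (g := h)).2 (inf_le_left : Yy (S : Subgroup G) P H ≤ zl (S : Subgroup G) H)
  rwa [D.conjU hh] at h1

theorem conjV_le {h : G} (hh : h ∈ H) : MulAut.conj h • zl (S : Subgroup G) P ≤ H := by
  have h1 := (conj_le_iff (g := h)).2 D.VH
  rwa [conj_eq_of_mem (Subgroup.le_normalizer hh)] at h1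

/-- `C_U(a) = Y^h` for `a ∈ V^h - Z^h` -/
theorem mem_Y_of_comm {h a u : G} (hh : h ∈ H) (ha : a ∈ MulAut.conj h • zl (S : Subgroup G) P)
    (ha' : a ∉ MulAut.conj h • zc (S : Subgroup G)) (hu : u ∈ zl (S : Subgroup G) H) (hc : a * u = u * a) :
    u ∈ MulAut.conj h • Yy (S : Subgroup G) P H := by
  rw [mem_conj] at ha ha' ⊢
  rcases D.cm_one ha (D.U_conj hh hu) (by
    rw [← conj_cm, cm_eq_one.mpr hc, mul_one, inv_mul_cancel]) with h1 | h1
  · exact absurd h1 ha'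
  · exact h1

theorem Y_comm {h a u : G} (ha : a ∈ MulAut.conj h • zl (S : Subgroup G) P)
    (hu : u ∈ MulAut.conj h • Yy (S : Subgroup G) P H) : a * u = u * a := by
  rw [mem_conj] at ha hu
  have h1 := mem_centralizer_iff.mp (mem_inf.mp hu).2 _ ha
  calc a * u = h * ((h⁻¹ * a * h) * (h⁻¹ * u * h)) * h⁻¹ := by group
    _ = h * ((h⁻¹ * u * h) * (h⁻¹ * a * h)) * h⁻¹ := by rw [h1]
    _ = u * a := by group

theorem mem_Y_iff {h u : G} (hh : h ∈ H) : u ∈ MulAut.conj h • Yy (S : Subgroup G) P H ↔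
    u ∈ zl (S : Subgroup G) H ∧ ∀ a ∈ MulAut.conj h • zl (S : Subgroup G) P, a * u = u * a := by
  constructor
  · exact fun hu => ⟨D.conjY_le hh hu, fun a ha => D.Y_comm ha hu⟩
  · rintro ⟨hu, h1⟩
    rw [mem_conj]
    refine mem_inf.mpr ⟨D.U_conj hh hu, ?_⟩
    rw [mem_centralizer_iff]
    intro v hv
    have h2 := h1 (h * v * h⁻¹) (by rw [mem_conj]; have e1 : h⁻¹ * (h * v * h⁻¹) * h = v := by group
                                    rwa [e1])
    calc v * (h⁻¹ * u * h) = h⁻¹ * ((h * v * h⁻¹) * u) * h := by group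
      _ = h⁻¹ * (u * (h * v * h⁻¹)) * h := by rw [h2]
      _ = h⁻¹ * u * h * v := by group

theorem F_le_U : Fc (S : Subgroup G) H ≤ zl (S : Subgroup G) H := inf_le_left.trans D.ZU

theorem F_le_Y {h : G} (hh : h ∈ H) : Fc (S : Subgroup G) H ≤ MulAut.conj h • Yy (S : Subgroup G) P H := by
  intro x hx
  rw [D.mem_Y_iff hh]
  exact ⟨D.F_le_U hx, fun a ha => mem_centralizer_iff.mp (mem_inf.mp hx).2 a (D.conjV_le hh ha)⟩

theorem comm_of_F_one {z x : G} (hz : z ∈ zc (S : Subgroup G)) (hx : x ∈ H)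
    (h : cm x z ∈ Fc (S : Subgroup G) H) : x * z = z * x := by
  have : Fact (Nat.Prime 2) := ⟨Nat.prime_two⟩
  have hmul : ∀ {x y : G}, x ∈ H → cm y z ∈ Fc (S : Subgroup G) H → cm (x * y) z = cm x z * cm y z := by
    intro x y hx hy
    have e1 : cm (x * y) z = (x * cm y z * x⁻¹) * cm x z := by simp only [cm_def]; group
    have h2 := mem_centralizer_iff.mp (mem_inf.mp hy).2
    rw [e1, Fc_conj hy hx]
    by_cases hz' : z ∈ H
    · have h3 : cm x z ∈ H := by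
        rw [cm_def]
        exact mul_mem (mul_mem (mul_mem hx hz') (inv_mem hx)) (inv_mem hz')
      exact (h2 _ h3).symm
    · exact absurd (D.SH (D.ZS hz)) hz'
  let K : Subgroup G :=
    { carrier := {x | x ∈ H ∧ cm x z ∈ Fc (S : Subgroup G) H}
      mul_mem' := by
        rintro x y ⟨hx, h1⟩ ⟨hy, h2⟩
        refine ⟨mul_mem hx hy, ?_⟩
        rw [hmul hx h2]
        exact mul_mem h1 h2
      one_mem' := ⟨one_mem _, by rw [cm_def]; simp⟩
      inv_mem' := by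
        rintro x ⟨hx, h1⟩
        refine ⟨inv_mem hx, ?_⟩
        have e1 : cm x⁻¹ z = x⁻¹ * (cm x z)⁻¹ * x⁻¹⁻¹ := by simp only [cm_def]; group
        rw [e1, Fc_conj (inv_mem h1) (inv_mem hx)]
        exact inv_mem h1 }
  let φ : K →* G := MonoidHom.mk' (fun x => cm (x : G) z) fun x y => hmul x.2.1 y.2.2
  have hSK : (S : Subgroup G) ≤ K := fun s hs => ⟨D.SH hs, by
    rw [cm_eq_one.mpr (zcomm hz hs)]; exact one_mem _⟩
  have hSk : (S : Subgroup G).subgroupOf K ≤ φ.ker := by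
    rintro ⟨s, hs⟩ h1
    rw [MonoidHom.mem_ker]
    exact cm_eq_one.mpr (zcomm hz h1)
  have h1 : ¬ 2 ∣ φ.ker.index := by
    intro h2
    have h3 : φ.ker.index ∣ ((S : Subgroup G).subgroupOf K).index := index_dvd_of_le hSk
    exact MinSimple.Basic.not_dvd_relIndex S hSK (h2.trans h3)
  have h2 : IsPGroup 2 φ.range := by
    have h3 : φ.range ≤ Fc (S : Subgroup G) H := by
      rintro _ ⟨x, rfl⟩
      exact x.2.2
    exact (S.isPGroup'.to_le ((inf_le_left : Fc (S : Subgroup G) H ≤ _).trans D.ZS)).to_le h3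
  have h3 : φ.range = ⊥ := by
    obtain ⟨n, hn⟩ := IsPGroup.iff_card.mp h2
    rw [index_ker, hn] at h1
    have hn0 : n = 0 := by
      by_contra h4
      exact h1 (dvd_pow_self 2 h4)
    rw [hn0, pow_zero] at hn
    exact Subgroup.eq_bot_of_card_eq _ hn
  have h4 : φ ⟨x, hx, h⟩ ∈ φ.range := ⟨_, rfl⟩
  rw [h3, mem_bot] at h4
  exact cm_eq_one.mp h4

/-- **(S)** -/
theorem comm_of_F {h z x : G} (hh : h ∈ H) (hz : z ∈ MulAut.conj h • zc (S : Subgroup G)) (hx : x ∈ H)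
    (hF : cm x z ∈ Fc (S : Subgroup G) H) : x * z = z * x := by
  rw [mem_conj] at hz
  have h1 : cm (h⁻¹ * x * h) (h⁻¹ * z * h) ∈ Fc (S : Subgroup G) H := by
    rw [← conj_cm]
    have h2 := Fc_conj hF (inv_mem hh)
    rw [inv_inv] at h2
    rwa [h2]
  have h2 := D.comm_of_F_one hz (mul_mem (mul_mem (inv_mem hh) hx) hh) h1
  calc x * z = h * ((h⁻¹ * x * h) * (h⁻¹ * z * h)) * h⁻¹ := by group
    _ = h * ((h⁻¹ * z * h) * (h⁻¹ * x * h)) * h⁻¹ := by rw [h2]
    _ = z * x := by group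


/-- Baer–Suzuki -/
theorem exists_opp {h : G} (hh : h ∈ H) : ∃ k ∈ H, Opp (S : Subgroup G) P h k := by
  by_contra hcon
  push Not at hcon
  refine D.ne ((le_o2_of_pairs D.VH fun g hg => ?_).trans D.o2_cent)
  have h1 : IsPGroup 2 (MulAut.conj h • zl (S : Subgroup G) P ⊔ MulAut.conj (h * g) • zl (S : Subgroup G) P : Subgroup G) := by
    have h2 := hcon (h * g) (mul_mem hh hg)
    unfold Opp at h2
    rwa [not_not] at h2
  rw [← conj_conj, ← Subgroup.smul_sup] at h1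
  exact h1.of_equiv (Subgroup.equivSMul (MulAut.conj h) _).symm

/-- `Z^h ∩ Y^k = F` -/
theorem inf_F {h k : G} (hh : h ∈ H) (hk : k ∈ H) (ho : Opp (S : Subgroup G) P h k) {x : G}
    (hx : x ∈ MulAut.conj h • zc (S : Subgroup G)) (hxY : x ∈ MulAut.conj k • Yy (S : Subgroup G) P H) :
    x ∈ Fc (S : Subgroup G) H := by
  by_contra hxF
  apply ho
  have h1 := D.min_o2 hh hx hxF
  set L := H ⊓ centralizer ({x} : Set G) with hL
  have h2 : MulAut.conj k • zl (S : Subgroup G) P ≤ L := by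
    intro a ha
    refine mem_inf.mpr ⟨D.conjV_le hk ha, ?_⟩
    rw [mem_centralizer_iff]
    rintro _ rfl
    exact (D.Y_comm ha hxY).symm
  have h3 : IsPGroup 2 (MulAut.conj k • zl (S : Subgroup G) P ⊔ o2 L : Subgroup G) := by
    have : Fact (Nat.Prime 2) := ⟨Nat.prime_two⟩
    refine IsPGroup.to_sup_of_normal_right' ?_ (o2_isPGroup _) (h2.trans (le_normalizer_o2 _))
    exact (S.isPGroup'.to_le D.VS).map _
  refine h3.to_le (sup_le (h1.trans le_sup_right) le_sup_left)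

theorem inf_eq {h k : G} (hh : h ∈ H) (hk : k ∈ H) (ho : Opp (S : Subgroup G) P h k) :
    MulAut.conj h • zc (S : Subgroup G) ⊓ MulAut.conj k • Yy (S : Subgroup G) P H = Fc (S : Subgroup G) H :=
  le_antisymm (fun _ hx => D.inf_F hh hk ho (mem_inf.mp hx).1 (mem_inf.mp hx).2)
    (le_inf (Fc_le hh) (D.F_le_Y hk))

theorem not_R {h k a z : G} (hh : h ∈ H) (hk : k ∈ H) (ho : Opp (S : Subgroup G) P h k)
    (hz : z ∈ MulAut.conj k • zc (S : Subgroup G)) (hzF : z ∉ Fc (S : Subgroup G) H)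
    (ha : a ∈ MulAut.conj h • zl (S : Subgroup G) P) (haZ : a ∉ MulAut.conj h • zc (S : Subgroup G)) :
    cm a z ∉ Rr (S : Subgroup G) P H := by
  intro h1
  have hzU := D.conjZ_le hk hz
  have h2 := D.R_inf hh h1 (D.cm_conj hh ha hzU)
  have h3 := D.comm_of_F hk hz (D.conjV_le hh ha) h2
  exact hzF (D.inf_F hk hh ho.symm hz (D.mem_Y_of_comm hh ha haZ hzU h3))

theorem Z_not_F {k : G} (hk : k ∈ H) : ∃ z ∈ MulAut.conj k • zc (S : Subgroup G), z ∉ Fc (S : Subgroup G) H := by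
  by_contra hcon
  push Not at hcon
  apply D.ne
  have h1 : zc (S : Subgroup G) ≤ Fc (S : Subgroup G) H := by
    intro z hz
    have h2 := hcon (k * z * k⁻¹) (by
      rw [mem_conj]
      have e1 : k⁻¹ * (k * z * k⁻¹) * k = z := by group
      rwa [e1])
    have h3 := Fc_conj h2 (inv_mem hk)
    have e1 : k⁻¹ * (k * z * k⁻¹) * k⁻¹⁻¹ = z := by group
    rw [e1] at h3
    rw [h3]
    exact h2
  have h2 : zl (S : Subgroup G) H ≤ zc (S : Subgroup G) := by
    refine zl_le le_rfl fun h hh => ?_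
    refine mem_normalizer_of_conj_eq ?_
    refine conj_eq_of_mem (mem_normalizer_iff.mpr fun x => ?_)
    constructor
    · intro hx
      rw [Fc_conj (h1 hx) hh]
      exact hx
    · intro hx
      have h3 := Fc_conj (h1 hx) (inv_mem hh)
      have e1 : h⁻¹ * (h * x * h⁻¹) * h⁻¹⁻¹ = x := by group
      rw [e1] at h3
      rw [h3]
      exact hx
  intro v hv
  rw [mem_centralizer_iff]
  intro u hu
  exact (zcomm (h2 hu) (D.VS hv)).symm

theorem finite_F : Finite F := by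
  have h1 : (Set.range fun v : zl (S : Subgroup G) P => e v 0).Finite := Set.finite_range _
  refine Set.finite_univ_iff.mp (h1.subset fun x _ => ?_)
  obtain ⟨v, hv, h⟩ := D.surj ![x, 0]
  exact ⟨⟨v, hv⟩, by change e v 0 = x; rw [h]; rfl⟩

/-- `|V^h/Z^h| = q` -/
theorem relIndex_ZVh (h : G) :
    (MulAut.conj h • zc (S : Subgroup G)).relIndex (MulAut.conj h • zl (S : Subgroup G) P) = Nat.card F := by
  rw [relIndex_conj, D.relIndex_ZV]

/-- the map `a ↦ [a, z]` -/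
theorem cm_mul_left {h a b z : G} (hh : h ∈ H) (ha : a ∈ MulAut.conj h • zl (S : Subgroup G) P)
    (hb : b ∈ MulAut.conj h • zl (S : Subgroup G) P) (hz : z ∈ zl (S : Subgroup G) H) :
    cm (a * b) z = cm a z * cm b z := by
  have h1 := D.cm_conj hh hb hz
  have h2 : a * cm b z * a⁻¹ = cm b z := by
    have h3 := ha
    have h4 := h1
    rw [mem_conj] at h3 h4
    have h5 := D.commV h3 (D.ZV h4)
    calc a * cm b z * a⁻¹ = h * ((h⁻¹ * a * h) * (h⁻¹ * cm b z * h)) * h⁻¹ * a⁻¹ := by group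
      _ = h * ((h⁻¹ * cm b z * h) * (h⁻¹ * a * h)) * h⁻¹ * a⁻¹ := by rw [h5]
      _ = cm b z := by group
  have e1 : cm (a * b) z = (a * cm b z * a⁻¹) * cm a z := by simp only [cm_def]; group
  rw [e1, h2]
  exact D.commU (D.conjZ_le hh h1) (D.conjZ_le hh (D.cm_conj hh ha hz))

/-- `q = |V^h/Z^h| ≤ |Z^h/F|`, from the map `a ↦ [a, z] F` -/
theorem card_ge {h k z : G} (hh : h ∈ H) (hk : k ∈ H) (ho : Opp (S : Subgroup G) P h k)
    (hz : z ∈ MulAut.conj k • zc (S : Subgroup G)) (hzF : z ∉ Fc (S : Subgroup G) H) :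
    Nat.card F ≤ (Fc (S : Subgroup G) H).relIndex (MulAut.conj h • zc (S : Subgroup G)) := by
  classical
  have := D.finite_F
  have hzU := D.conjZ_le hk hz
  set A := MulAut.conj h • zl (S : Subgroup G) P with hA
  set Zh := MulAut.conj h • zc (S : Subgroup G) with hZh
  have hFZ : Fc (S : Subgroup G) H ≤ Zh := Fc_le hh
  have hcomm : ∀ x ∈ Zh, ∀ y ∈ Zh, x * y = y * x := fun x hx y hy => D.commU (D.conjZ_le hh hx) (D.conjZ_le hh hy)
  have hn : ((Fc (S : Subgroup G) H).subgroupOf Zh).Normal := by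
    refine ⟨fun x hx g => ?_⟩
    have h1 : g * x * g⁻¹ = x := Subtype.ext (by
      change (g : G) * x * (g : G)⁻¹ = x
      rw [hcomm g g.2 x x.2, mul_inv_cancel_right])
    rwa [h1]
  let f₀ : A →* Zh := MonoidHom.mk' (fun a => ⟨cm (a : G) z, D.cm_conj hh a.2 hzU⟩) fun a b =>
    Subtype.ext (D.cm_mul_left hh a.2 b.2 hzU)
  let f : A →* Zh ⧸ ((Fc (S : Subgroup G) H).subgroupOf Zh) := (QuotientGroup.mk' _).comp f₀
  have hker : f.ker = Zh.subgroupOf A := by
    ext ⟨a, ha⟩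
    rw [MonoidHom.mem_ker, mem_subgroupOf]
    have h1 : f ⟨a, ha⟩ = 1 ↔ cm a z ∈ Fc (S : Subgroup G) H := by
      change (QuotientGroup.mk (f₀ ⟨a, ha⟩) : Zh ⧸ ((Fc (S : Subgroup G) H).subgroupOf Zh)) = 1 ↔ _
      rw [QuotientGroup.eq_one_iff, mem_subgroupOf]
      rfl
    rw [h1]
    constructor
    · intro h2
      by_contra h3
      have h4 : cm a z ∈ Rr (S : Subgroup G) P H := by
        have h5 : cm a z ∈ Rr (S : Subgroup G) P H ⊓ zc (S : Subgroup G) := by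
          rw [D.R_inf_Z]; exact h2
        exact (mem_inf.mp h5).1
      exact D.not_R hh hk ho hz hzF ha h3 h4
    · intro h2
      have h3 : a * z = z * a := D.commU (D.conjZ_le hh h2) hzU
      rw [cm_eq_one.mpr h3]
      exact one_mem _
  have h1 : f.ker.index = Nat.card F := by
    rw [hker]
    exact D.relIndex_ZVh h
  have h2 : Nat.card f.range ≤ Nat.card (Zh ⧸ ((Fc (S : Subgroup G) H).subgroupOf Zh)) :=
    Nat.card_le_card_of_injective _ Subtype.val_injective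
  have h3 : Nat.card (Zh ⧸ ((Fc (S : Subgroup G) H).subgroupOf Zh)) = (Fc (S : Subgroup G) H).relIndex Zh := rfl
  rw [← index_ker, h1, h3] at h2
  exact h2

/-- **the root group is full** -/
theorem exists_up (b : F) : ∃ u ∈ zl (S : Subgroup G) H, Act e (zl (S : Subgroup G) P) u (up b) := by
  have := D.finite_F
  obtain ⟨k, hk, ho⟩ := D.exists_opp (one_mem H)
  obtain ⟨z, hz, hzF⟩ := D.Z_not_F hk
  have h0 := D.card_ge (one_mem H) hk ho hz hzF
  rw [map_one, one_smul] at h0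
  obtain ⟨β, h1, h2, h3⟩ := D.exists_beta
  let φ : zc (S : Subgroup G) →* Multiplicative F :=
    MonoidHom.mk' (fun a => Multiplicative.ofAdd (β (k⁻¹ * a * k))) fun a c => by
      rw [← ofAdd_add, ← h2 _ (D.U_conj hk (D.ZU a.2)) _ (D.U_conj hk (D.ZU c.2))]
      congr 2
      change k⁻¹ * ((a : G) * c) * k = _
      group
  have hker : φ.ker = (Fc (S : Subgroup G) H).subgroupOf (zc (S : Subgroup G)) := by
    ext ⟨a, ha⟩
    rw [MonoidHom.mem_ker, mem_subgroupOf]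
    change β (k⁻¹ * a * k) = 0 ↔ a ∈ _
    rw [h3 _ (D.U_conj hk (D.ZU ha)), ← mem_conj (g := k)]
    constructor
    · intro h5
      refine D.inf_F (one_mem H) hk ho ?_ h5
      rw [map_one, one_smul]
      exact ha
    · intro h5
      exact D.F_le_Y hk h5
  have h5 : φ.range = ⊤ := by
    have h6 : Nat.card (Multiplicative F) = Nat.card F := rfl
    refine Subgroup.eq_top_of_card_eq _ (le_antisymm (Subgroup.card_le_card_group _) ?_)
    rw [← index_ker, hker, h6]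
    exact h0
  have h6 : Multiplicative.ofAdd b ∈ φ.range := by rw [h5]; exact mem_top _
  obtain ⟨⟨a, ha⟩, h7⟩ := h6
  have h8 : β (k⁻¹ * a * k) = b := h7
  refine ⟨k⁻¹ * a * k, D.U_conj hk (D.ZU ha), ?_⟩
  have h9 := h1 _ (D.U_conj hk (D.ZU ha))
  rwa [h8] at h9

/-- **`HypQ0` implies `HypQ`.** -/
theorem full : HypQ e S P H where
  hc := D.hc
  data := D.data
  par := D.par
  long := D.long
  ne := D.ne
  min := D.min
  mul := D.mul
  surj := D.surj
  ker := D.ker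
  line := D.line
  lift := D.lift
  up1 := D.up1
  up2 := D.exists_up
  cent := D.cent

end HypQ0

end Cfsg.Agent.Omega.NOThreeL.RA

end

section


/-!
# NO-3L, box R, case (A), `NsF` (#22083, helper618): (a) LEMMA A and (b), group level

`Ov S P S₀ Zp H` : the situation over `S₀`: `V = V_P ≤ S₀ ≤ S ≤ H`, `Zp ≤ V` centralised by `S₀`, `wc` : `V^n ≤ S`
implies `V^n ≤ S₀` (761 (1)), `noff` : no mutual pair of conjugates of `V`. `X` is any subgroup with `S₀ ≤ X ≤ H`,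
`NN S P X = ⟨V^X⟩`.

* `Ov.wc'` : `S₀^h ≤ S^m`, `V^n ≤ S^m` imply `V^n ≤ S₀^h` (weak closure);
* **`Ov.lemA`** (LEMMA A) : `z ∈ Zp^h`, `V^h ≤ O₂(C_X(z))`, `[n, z]` centralised by `⟨V^X⟩` imply `[V^h, V^(nh)] = 1`;
* `Ov.pgroup` : moreover `n² = 1` : `⟨V^h, n⟩` is a 2-group;
* `Mn S P S₀ Zp H X` : `X` is minimal over `S₀` with `V ≰ O₂(X)`; `Mn.sup` : `X = ⟨V^X⟩ S₀`; `Mn.fx` :
  `C_Zp(⟨V^X⟩) = F_X := C_Zp(X)`; `Mn.good` : `z ∈ Zp^h - F_X` implies `V^h ≤ O₂(C_X(z))`;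
* **`Mn.opp`** : `a ∈ V - O₂(X)` : some `x ∈ X` with `[a, z] ∉ C(⟨V^X⟩)` for all `z ∈ Zp^x - F_X`.
-/

set_option autoImplicit false
set_option linter.unusedSectionVars false

namespace Cfsg.Agent.Omega.NOThreeL.NsF

open Subgroup Cfsg Cfsg.Agent.Omega.MinPar
open Cfsg.Agent.ZN (zc zl o2)
open Cfsg.Agent.Omega.Frame Cfsg.Agent.Omega.FrameNOFF
open Cfsg.Agent.Omega.NoFF.Basic (conj_conj mem_conj conj_le_iff conj_le_centralizer comm_symm comm_mono)
open Cfsg.Agent.Omega.NOThreeL.Pair (conj_eq_of_mem conj_le_normalizer zl_abel)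
open Cfsg.Agent.MinSimple.VModule (o2_isPGroup le_normalizer_o2 le_o2 o2_le)
open Cfsg.Agent.Omega.NOThreeL (mem_normalizer_of_conj_eq le_normalizer_of)
open Cfsg.Agent.Omega.NOThreeL.RTools (cm cm_def cm_mul NN conj_mem_of_mem conj_le_NN le_NN NN_le le_normalizer_NN)
open scoped Pointwise

universe u

variable {G : Type u} [Group G]

/-- The situation over `S₀`. -/
structure Ov [Finite G] (S : Sylow 2 G) (P S₀ Zp H : Subgroup G) : Prop where
  SH : (S : Subgroup G) ≤ H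
  S0S : S₀ ≤ (S : Subgroup G)
  VS0 : zl (S : Subgroup G) P ≤ S₀
  ZpV : Zp ≤ zl (S : Subgroup G) P
  cent : ∀ z ∈ Zp, ∀ s ∈ S₀, s * z = z * s
  wc : ∀ n ∈ H, MulAut.conj n • zl (S : Subgroup G) P ≤ (S : Subgroup G) → MulAut.conj n • zl (S : Subgroup G) P ≤ S₀
  noff : ∀ g h : G, MulAut.conj g • zl (S : Subgroup G) P ≤ MulAut.conj h • (S : Subgroup G) →
    MulAut.conj h • zl (S : Subgroup G) P ≤ MulAut.conj g • (S : Subgroup G) →
    MulAut.conj g • zl (S : Subgroup G) P ≤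
      centralizer ((MulAut.conj h • zl (S : Subgroup G) P : Subgroup G) : Set G)

/-- the product of the conjugates of `V` in `S` -/
def NS (S P H : Subgroup G) : Subgroup G :=
  ⨆ n : {n : G // n ∈ H ∧ MulAut.conj n • zl S P ≤ S}, MulAut.conj (n : G) • zl S P

/-- `O₂` of a conjugate -/
theorem conj_le_o2 [Finite G] {A X : Subgroup G} {z h : G} (hh : h ∈ X) (hA : A ≤ o2 (X ⊓ centralizer ({z} : Set G))) :
    MulAut.conj h • A ≤ o2 (X ⊓ centralizer ({h * z * h⁻¹} : Set G)) := by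
  have h1 : MulAut.conj h • (X ⊓ centralizer ({z} : Set G)) = X ⊓ centralizer ({h * z * h⁻¹} : Set G) := by
    ext x
    rw [mem_conj, mem_inf, mem_inf, mem_centralizer_iff, mem_centralizer_iff]
    simp only [Set.mem_singleton_iff, forall_eq]
    constructor
    · rintro ⟨h1, h2⟩
      refine ⟨?_, ?_⟩
      · have h3 := mul_mem (mul_mem hh h1) (inv_mem hh)
        have e1 : h * (h⁻¹ * x * h) * h⁻¹ = x := by group
        rwa [e1] at h3
      · calc h * z * h⁻¹ * x = h * (z * (h⁻¹ * x * h)) * h⁻¹ := by group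
          _ = h * ((h⁻¹ * x * h) * z) * h⁻¹ := by rw [h2]
          _ = x * (h * z * h⁻¹) := by group
    · rintro ⟨h1, h2⟩
      refine ⟨mul_mem (mul_mem (inv_mem hh) h1) hh, ?_⟩
      calc z * (h⁻¹ * x * h) = h⁻¹ * ((h * z * h⁻¹) * x) * h := by group
        _ = h⁻¹ * (x * (h * z * h⁻¹)) * h := by rw [h2]
        _ = h⁻¹ * x * h * z := by group
  have h2 := (conj_le_iff (g := h)).2 hA
  rwa [← Cfsg.Agent.MinSimple.CosetFam.o2_conj, h1] at h2

theorem le_of_conj_le {A B : Subgroup G} {g : G} (h : MulAut.conj g • A ≤ MulAut.conj g • B) : A ≤ B := conj_le_iff.1 h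

namespace Ov

variable [Finite G] {S : Sylow 2 G} {P S₀ Zp H : Subgroup G} (D : Ov S P S₀ Zp H)
include D

theorem NS_le : NS (S : Subgroup G) P H ≤ S₀ := iSup_le fun n => D.wc n n.2.1 n.2.2

theorem S_norm (h : G) : MulAut.conj h • S₀ ≤ MulAut.conj h • (S : Subgroup G) := conj_le_iff.2 D.S0S

/-- **weak closure** -/
theorem wc' {h m n : G} (hh : h ∈ H) (hm : m ∈ H) (hn : n ∈ H)
    (h1 : MulAut.conj h • S₀ ≤ MulAut.conj m • (S : Subgroup G))
    (h2 : MulAut.conj n • zl (S : Subgroup G) P ≤ MulAut.conj m • (S : Subgroup G)) :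
    MulAut.conj n • zl (S : Subgroup G) P ≤ MulAut.conj h • S₀ := by
  -- `N_S^(m⁻¹ h) ≤ N_S`
  have h3 : MulAut.conj (m⁻¹ * h) • NS (S : Subgroup G) P H ≤ NS (S : Subgroup G) P H := by
    rw [← conj_le_iff (g := (m⁻¹ * h)⁻¹), conj_conj, inv_mul_cancel, map_one, one_smul]
    refine iSup_le fun x => ?_
    rw [← conj_le_iff (g := m⁻¹ * h), conj_conj (m⁻¹ * h) (m⁻¹ * h)⁻¹, mul_inv_cancel, map_one, one_smul, conj_conj]
    have hx : m⁻¹ * h * (x : G) ∈ H ∧ MulAut.conj (m⁻¹ * h * (x : G)) • zl (S : Subgroup G) P ≤ (S : Subgroup G) := by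
      refine ⟨mul_mem (mul_mem (inv_mem hm) hh) x.2.1, ?_⟩
      have h4 := (conj_le_iff (g := h)).2 (D.wc x x.2.1 x.2.2)
      have h5 := (conj_le_iff (g := m⁻¹)).2 (h4.trans h1)
      rw [conj_conj, conj_conj, conj_conj, inv_mul_cancel, map_one, one_smul] at h5
      exact h5
    exact le_iSup (fun n : {n : G // n ∈ H ∧ MulAut.conj n • zl (S : Subgroup G) P ≤ S} =>
      MulAut.conj (n : G) • zl (S : Subgroup G) P) ⟨_, hx⟩
  have h4 : MulAut.conj (m⁻¹ * h) • NS (S : Subgroup G) P H = NS (S : Subgroup G) P H := by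
    refine SetLike.coe_injective (Set.eq_of_subset_of_ncard_le h3 ?_ (Set.toFinite _))
    have h5 : Nat.card ↥(MulAut.conj (m⁻¹ * h) • NS (S : Subgroup G) P H) = Nat.card (NS (S : Subgroup G) P H) :=
      (Nat.card_congr (Subgroup.equivSMul (MulAut.conj (m⁻¹ * h)) _).toEquiv).symm
    exact h5.ge
  have h5 : MulAut.conj (m⁻¹ * n) • zl (S : Subgroup G) P ≤ NS (S : Subgroup G) P H := by
    have hx : m⁻¹ * n ∈ H ∧ MulAut.conj (m⁻¹ * n) • zl (S : Subgroup G) P ≤ (S : Subgroup G) := by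
      refine ⟨mul_mem (inv_mem hm) hn, ?_⟩
      have h5 := (conj_le_iff (g := m⁻¹)).2 h2
      rwa [conj_conj, conj_conj, inv_mul_cancel, map_one, one_smul] at h5
    exact le_iSup (fun n : {n : G // n ∈ H ∧ MulAut.conj n • zl (S : Subgroup G) P ≤ S} =>
      MulAut.conj (n : G) • zl (S : Subgroup G) P) ⟨_, hx⟩
  rw [← h4] at h5
  have h6 := (conj_le_iff (g := m)).2 (h5.trans ((conj_le_iff (g := m⁻¹ * h)).2 D.NS_le))
  rw [conj_conj, conj_conj, mul_inv_cancel_left, mul_inv_cancel_left] at h6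
  exact h6

/-- **LEMMA A** (#22083 (a)) -/
theorem lemA {X : Subgroup G} (hSX : S₀ ≤ X) (hXH : X ≤ H) {h n z : G} (hh : h ∈ X) (hn : n ∈ X)
    (hz : z ∈ MulAut.conj h • Zp)
    (hg : MulAut.conj h • zl (S : Subgroup G) P ≤ o2 (X ⊓ centralizer ({z} : Set G)))
    (hc : cm n z ∈ centralizer (NN (S : Subgroup G) P X : Set G)) :
    MulAut.conj (n * h) • zl (S : Subgroup G) P ≤
      centralizer ((MulAut.conj h • zl (S : Subgroup G) P : Subgroup G) : Set G) := by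
  have : Fact (Nat.Prime 2) := ⟨Nat.prime_two⟩
  set N := NN (S : Subgroup G) P X with hN
  have hXN : X ≤ normalizer (N : Set G) := le_normalizer_NN _ _ _
  have hNX : N ≤ X := NN_le fun x hx => by
    have h1 := (conj_le_iff (g := x)).2 (D.VS0.trans hSX)
    rwa [conj_eq_of_mem (Subgroup.le_normalizer hx)] at h1
  -- `K = C_N(z)` is normalised by `n` and by `S₀^h`
  set K := N ⊓ centralizer ({z} : Set G) with hK
  have hmemK : ∀ x, x ∈ K ↔ x ∈ N ∧ z * x = x * z := by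
    intro x
    rw [hK, mem_inf, mem_centralizer_iff]
    simp only [Set.mem_singleton_iff, forall_eq]
  have key : ∀ {m : G}, m ∈ X → cm m z ∈ centralizer (N : Set G) → m ∈ normalizer (K : Set G) := by
    intro m hm hcm
    have h1 : ∀ x ∈ K, m * x * m⁻¹ ∈ K := by
      intro x hx
      obtain ⟨hxN, hxz⟩ := (hmemK x).mp hx
      have hN' : m * x * m⁻¹ ∈ N := conj_mem_of_mem (hXN hm) hxN
      refine (hmemK _).mpr ⟨hN', ?_⟩
      -- `m x m⁻¹` commutes with `m z m⁻¹ = [m,z] z` and with `[m,z]`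
      have h2 := mem_centralizer_iff.mp hcm _ hN'
      have h3 : (m * x * m⁻¹) * (m * z * m⁻¹) = (m * z * m⁻¹) * (m * x * m⁻¹) := by
        calc (m * x * m⁻¹) * (m * z * m⁻¹) = m * (x * z) * m⁻¹ := by group
          _ = m * (z * x) * m⁻¹ := by rw [hxz]
          _ = _ := by group
      have h4 : m * z * m⁻¹ = cm m z * z := by rw [cm_def]; group
      rw [h4] at h3
      have h5 : cm m z * (z * (m * x * m⁻¹)) = cm m z * ((m * x * m⁻¹) * z) := by
        calc cm m z * (z * (m * x * m⁻¹)) = (cm m z * z) * (m * x * m⁻¹) := by group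
          _ = (m * x * m⁻¹) * (cm m z * z) := h3.symm
          _ = ((m * x * m⁻¹) * cm m z) * z := by group
          _ = (cm m z * (m * x * m⁻¹)) * z := by rw [h2]
          _ = _ := by group
      exact mul_left_cancel h5
    refine mem_normalizer_of_conj_eq ?_
    refine SetLike.coe_injective (Set.eq_of_subset_of_ncard_le ?_ ?_ (Set.toFinite _))
    · intro x hx
      have hx' : x ∈ MulAut.conj m • K := hx
      rw [mem_conj] at hx'
      have h2 := h1 _ hx'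
      have e1 : m * (m⁻¹ * x * m) * m⁻¹ = x := by group
      rw [e1] at h2
      exact h2
    · exact (Nat.card_congr (Subgroup.equivSMul (MulAut.conj m) K).toEquiv).le
  have hnK := key hn hc
  have hS0K : MulAut.conj h • S₀ ≤ normalizer (K : Set G) := by
    intro s hs
    have hsX : s ∈ X := by
      have h1 := (conj_le_iff (g := h)).2 hSX
      rw [conj_eq_of_mem (Subgroup.le_normalizer hh)] at h1
      exact h1 hs
    refine key hsX ?_
    rw [mem_conj] at hs hz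
    have h1 := D.cent _ hz _ hs
    have h2 : cm s z = 1 := by
      rw [RA.HypQ.cm_eq_one]
      calc s * z = h * ((h⁻¹ * s * h) * (h⁻¹ * z * h)) * h⁻¹ := by group
        _ = h * ((h⁻¹ * z * h) * (h⁻¹ * s * h)) * h⁻¹ := by rw [h1]
        _ = z * s := by group
    rw [h2]
    exact one_mem _
  -- `O = O₂(K)`
  set O := o2 K with hO
  have hnO : normalizer (K : Set G) ≤ normalizer (O : Set G) := Cfsg.Agent.Omega.normalizer_le_normalizer_o2' _
  have hVO : MulAut.conj h • zl (S : Subgroup G) P ≤ O := by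
    have h1 : MulAut.conj h • zl (S : Subgroup G) P ≤ N := conj_le_NN hh
    have h2 : o2 (X ⊓ centralizer ({z} : Set G)) ⊓ N ≤ O := by
      refine le_o2 ?_ ((o2_isPGroup _).to_le inf_le_left) ?_
      · exact le_inf inf_le_right (inf_le_left.trans ((o2_le _).trans inf_le_right))
      · intro k hk
        obtain ⟨hkN, hkz⟩ := mem_inf.mp hk
        have h3 := le_normalizer_o2 _ (mem_inf.mpr ⟨hNX hkN, hkz⟩ : k ∈ X ⊓ centralizer ({z} : Set G))
        rw [mem_normalizer_iff] at h3 ⊢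
        intro x
        rw [mem_inf, mem_inf, h3 x, mem_normalizer_iff.mp (hXN (hNX hkN)) x]
    exact (le_inf hg h1).trans h2
  have hVn : MulAut.conj (n * h) • zl (S : Subgroup G) P ≤ O := by
    have h1 := (conj_le_iff (g := n)).2 hVO
    rwa [conj_conj, conj_eq_of_mem (hnO hnK)] at h1
  have hVn' : MulAut.conj (n⁻¹ * h) • zl (S : Subgroup G) P ≤ O := by
    have h1 := (conj_le_iff (g := n⁻¹)).2 hVO
    rwa [conj_conj, conj_eq_of_mem (hnO (inv_mem hnK))] at h1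
  -- `O S₀^h` is a 2-group
  have hOX : O ≤ X := (o2_le _).trans (inf_le_left.trans hNX)
  have hS0X : MulAut.conj h • S₀ ≤ X := by
    have h1 := (conj_le_iff (g := h)).2 hSX
    rwa [conj_eq_of_mem (Subgroup.le_normalizer hh)] at h1
  have hp : IsPGroup 2 (MulAut.conj h • S₀ ⊔ O : Subgroup G) := by
    refine IsPGroup.to_sup_of_normal_right' ?_ (o2_isPGroup _) (hS0K.trans hnO)
    exact (S.isPGroup'.to_le D.S0S).map _
  obtain ⟨m, hm, hQ⟩ := NoFF.Main.exists_le_conj S D.SH hp (sup_le (hS0X.trans hXH) (hOX.trans hXH))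
  have hOS : O ≤ MulAut.conj m • (S : Subgroup G) := (le_sup_right : O ≤ _).trans hQ
  have hSS : MulAut.conj h • S₀ ≤ MulAut.conj m • (S : Subgroup G) :=
    (le_sup_left : MulAut.conj h • S₀ ≤ MulAut.conj h • S₀ ⊔ O).trans hQ
  have h1 := D.wc' (hXH hh) hm (mul_mem (hXH hn) (hXH hh)) hSS (hVn.trans hOS)
  have h2 := D.wc' (hXH hh) hm (mul_mem (inv_mem (hXH hn)) (hXH hh)) hSS (hVn'.trans hOS)
  have h3 := h1.trans (D.S_norm h)
  have h4 := h2.trans (D.S_norm h)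
  refine D.noff _ _ h3 ?_
  have h5 := (conj_le_iff (g := n)).2 h4
  rwa [conj_conj, conj_conj, mul_inv_cancel_left] at h5

/-- `⟨V^h, a⟩` is a 2-group -/
theorem pgroup {X : Subgroup G} (hSX : S₀ ≤ X) (hXH : X ≤ H) {h a z : G} (hh : h ∈ X) (ha : a ∈ X) (ha2 : a * a = 1)
    (hz : z ∈ MulAut.conj h • Zp)
    (hg : MulAut.conj h • zl (S : Subgroup G) P ≤ o2 (X ⊓ centralizer ({z} : Set G)))
    (hc : cm a z ∈ centralizer (NN (S : Subgroup G) P X : Set G)) :
    IsPGroup 2 (MulAut.conj h • zl (S : Subgroup G) P ⊔ zpowers a : Subgroup G) := by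
  have : Fact (Nat.Prime 2) := ⟨Nat.prime_two⟩
  have h1 := D.lemA hSX hXH hh ha hz hg hc
  have hV2 : ∀ g : G, IsPGroup 2 (MulAut.conj g • zl (S : Subgroup G) P : Subgroup G) := fun g =>
    (S.isPGroup'.to_le (D.VS0.trans D.S0S)).map _
  have h2 : IsPGroup 2 (MulAut.conj (a * h) • zl (S : Subgroup G) P ⊔ MulAut.conj h • zl (S : Subgroup G) P :
      Subgroup G) :=
    IsPGroup.to_sup_of_normal_right' (hV2 _) (hV2 _) (h1.trans (centralizer_le_normalizer _))
  have h3 : zpowers a ≤ normalizer ((MulAut.conj (a * h) • zl (S : Subgroup G) P ⊔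
      MulAut.conj h • zl (S : Subgroup G) P : Subgroup G) : Set G) := by
    rw [zpowers_le]
    refine mem_normalizer_of_conj_eq ?_
    rw [Subgroup.smul_sup, conj_conj, conj_conj, ← mul_assoc, ha2, one_mul, sup_comm]
  have h4 : IsPGroup 2 (zpowers a) := by
    intro x
    obtain ⟨k, hk⟩ := mem_zpowers_iff.mp x.2
    refine ⟨1, Subtype.ext ?_⟩
    change (x : G) ^ 2 ^ 1 = 1
    rw [← hk, pow_one, ← zpow_natCast, ← zpow_mul, mul_comm, zpow_mul]
    have : a ^ ((2 : ℕ) : ℤ) = 1 := by rw [zpow_natCast, pow_two, ha2]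
    rw [this, one_zpow]
  refine (IsPGroup.to_sup_of_normal_right' h4 h2 h3).to_le ?_
  exact sup_le ((le_sup_right : MulAut.conj h • zl (S : Subgroup G) P ≤ _).trans le_sup_right) le_sup_left

end Ov

/-- `F_X = C_Zp(X)` -/
def FX (Zp X : Subgroup G) : Subgroup G := Zp ⊓ centralizer (X : Set G)

/-- `X` is minimal over `S₀` with `V ≰ O₂(X)`. -/
structure Mn [Finite G] (S : Sylow 2 G) (P S₀ Zp H X : Subgroup G) : Prop where
  ov : Ov S P S₀ Zp H
  le : S₀ ≤ X
  leH : X ≤ H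
  ne : ¬ zl (S : Subgroup G) P ≤ o2 X
  min : ∀ Y, S₀ ≤ Y → Y ≤ X → ¬ zl (S : Subgroup G) P ≤ o2 Y → Y = X

theorem exists_mn [Finite G] {S : Sylow 2 G} {P S₀ Zp H K : Subgroup G} (D : Ov S P S₀ Zp H) (hK : S₀ ≤ K) (hKH : K ≤ H)
    (h : ¬ zl (S : Subgroup G) P ≤ o2 K) : ∃ X ≤ K, Mn S P S₀ Zp H X := by
  have hfin : Set.Finite {X : Subgroup G | S₀ ≤ X ∧ X ≤ K ∧ ¬ zl (S : Subgroup G) P ≤ o2 X} := Set.toFinite _
  obtain ⟨X, hX⟩ := hfin.exists_minimal ⟨K, hK, le_rfl, h⟩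
  refine ⟨X, hX.prop.2.1, D, hX.prop.1, hX.prop.2.1.trans hKH, hX.prop.2.2, fun Y h1 h2 h3 => ?_⟩
  exact le_antisymm h2 (hX.le_of_le ⟨h1, h2.trans hX.prop.2.1, h3⟩ h2)

namespace Mn

variable [Finite G] {S : Sylow 2 G} {P S₀ Zp H X : Subgroup G} (M : Mn S P S₀ Zp H X)
include M

theorem VX : zl (S : Subgroup G) P ≤ X := M.ov.VS0.trans M.le

theorem NX : NN (S : Subgroup G) P X ≤ X := NN_le fun x hx => by
  have h1 := (conj_le_iff (g := x)).2 M.VX
  rwa [conj_eq_of_mem (Subgroup.le_normalizer hx)] at h1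

/-- `X = ⟨V^X⟩ S₀` -/
theorem sup : NN (S : Subgroup G) P X ⊔ S₀ = X := by
  set Y := NN (S : Subgroup G) P X ⊔ S₀ with hY
  have hYX : Y ≤ X := sup_le M.NX M.le
  refine M.min Y le_sup_right hYX fun h => M.ne ?_
  have h3 : zl (S : Subgroup G) P ≤ o2 (NN (S : Subgroup G) P X) := by
    have h4 : o2 Y ⊓ NN (S : Subgroup G) P X ≤ o2 (NN (S : Subgroup G) P X) := by
      refine le_o2 inf_le_right ((o2_isPGroup _).to_le inf_le_left) ?_
      intro g hg
      have h5 := le_normalizer_o2 Y ((le_sup_left : NN (S : Subgroup G) P X ≤ Y) hg)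
      rw [mem_normalizer_iff] at h5 ⊢
      intro x
      rw [mem_inf, mem_inf, h5 x, mem_normalizer_iff.mp (Subgroup.le_normalizer hg) x]
    exact (le_inf h (le_NN _ _ _)).trans h4
  refine h3.trans (le_o2 ((o2_le _).trans M.NX) (o2_isPGroup _) ?_)
  exact (le_normalizer_NN (S : Subgroup G) P X).trans (Cfsg.Agent.Omega.normalizer_le_normalizer_o2' _)

/-- `C_Zp(⟨V^X⟩) = F_X` -/
theorem fx {z : G} (hz : z ∈ Zp) (h : z ∈ centralizer (NN (S : Subgroup G) P X : Set G)) : z ∈ FX Zp X := by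
  refine mem_inf.mpr ⟨hz, ?_⟩
  have h1 : X ≤ centralizer ({z} : Set G) := by
    rw [← M.sup]
    refine sup_le ?_ ?_
    · intro n hn
      rw [mem_centralizer_iff]
      rintro _ rfl
      exact (mem_centralizer_iff.mp h n hn).symm
    · intro s hs
      rw [mem_centralizer_iff]
      rintro _ rfl
      exact (M.ov.cent _ hz s hs).symm
  rw [mem_centralizer_iff]
  intro x hx
  exact (mem_centralizer_iff.mp (h1 hx) z rfl).symm

theorem FX_conj {x f : G} (hx : x ∈ X) (hf : f ∈ FX Zp X) : x * f * x⁻¹ = f := by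
  rw [mem_centralizer_iff.mp (mem_inf.mp hf).2 x hx, mul_inv_cancel_right]

/-- all elements of `Zp^h - F_X` are good -/
theorem good {h z : G} (hh : h ∈ X) (hz : z ∈ MulAut.conj h • Zp) (hzF : z ∉ FX Zp X) :
    MulAut.conj h • zl (S : Subgroup G) P ≤ o2 (X ⊓ centralizer ({z} : Set G)) := by
  rw [mem_conj] at hz
  set w := h⁻¹ * z * h with hw
  have e1 : h * w * h⁻¹ = z := by rw [hw]; group
  have hwF : w ∉ FX Zp X := fun h1 => hzF (by
    have h2 := M.FX_conj hh h1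
    rw [e1] at h2
    rw [h2]; exact h1)
  have h1 : S₀ ≤ X ⊓ centralizer ({w} : Set G) := by
    intro s hs
    refine mem_inf.mpr ⟨M.le hs, ?_⟩
    rw [mem_centralizer_iff]
    rintro _ rfl
    exact (M.ov.cent _ hz s hs).symm
  have h2 : zl (S : Subgroup G) P ≤ o2 (X ⊓ centralizer ({w} : Set G)) := by
    by_contra hcon
    have h3 := M.min _ h1 inf_le_left hcon
    refine hwF (mem_inf.mpr ⟨hz, ?_⟩)
    rw [mem_centralizer_iff]
    intro x hx
    have h4 : x ∈ X ⊓ centralizer ({w} : Set G) := by rw [h3]; exact hx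
    exact (mem_centralizer_iff.mp (mem_inf.mp h4).2 w rfl).symm
  have h3 := conj_le_o2 hh h2
  rwa [e1] at h3

/-- `a ∈ V`, `a² = 1`, `a ∉ O₂(X)`: an opposite conjugate -/
theorem exists_opp {a : G} (ha : a ∈ zl (S : Subgroup G) P) (hO : a ∉ o2 X) :
    ∃ x ∈ X, ¬ IsPGroup 2 (MulAut.conj x • zl (S : Subgroup G) P ⊔ zpowers a : Subgroup G) := by
  by_contra hcon
  push Not at hcon
  have haX : a ∈ X := M.VX ha
  refine hO ?_
  have h1 : zpowers a ≤ o2 X := by
    refine RA.le_o2_of_pairs (by rwa [zpowers_le]) fun g hg => ?_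
    refine (hcon g hg).to_le (sup_le le_sup_right ?_)
    refine le_trans ?_ le_sup_left
    exact conj_le_iff.2 (by rwa [zpowers_le])
  exact h1 (mem_zpowers a)

/-- **(b)** (#22083): for `a ∈ V - O₂(X)` some `V^x` with `[a, z] ∉ C(⟨V^X⟩)` for all `z ∈ Zp^x - F_X` -/
theorem opp {a : G} (ha : a ∈ zl (S : Subgroup G) P) (ha2 : a * a = 1) (hO : a ∉ o2 X) :
    ∃ x ∈ X, ∀ z ∈ MulAut.conj x • Zp, cm a z ∈ centralizer (NN (S : Subgroup G) P X : Set G) → z ∈ FX Zp X := by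
  obtain ⟨x, hx, h⟩ := M.exists_opp ha hO
  refine ⟨x, hx, fun z hz hc => ?_⟩
  by_contra hzF
  exact h (M.ov.pgroup M.le M.leH hx (M.VX ha) ha2 hz (M.good hx hz hzF) hc)

end Mn

end Cfsg.Agent.Omega.NOThreeL.NsF

end

section


/-!
# NO-3L, NsF, (f) END: (1), the pairs

The same as `RA/Pair.lean` for `D : HypF e S P H Zp Rp Dp B`, `q = |F|`, with `Z := Zp`, `F := Rp`, `E := Dp`:

* `e_cm`, `VU_Z` : `[V, U] ≤ Zp`; `exists_beta`; `cm_conj`; `relIndex_YU`, `relIndex_ZV`, `relIndex_EZ`;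
* **`comm_of_I`** (F') : `z ∈ Zp^h`, `x ∈ N`, `[x, z] ∈ I` implies `[x, z] = 1`;
* `exists_opp`; `inf_eq` : `Zp^h ∩ Y^k = Rp` if `Opp h k`; `not_R`, **`not_R'`**; **`card_F`** : `|Zp/Rp| = q`;
  **`U_eq`** : `U = Zp^h Y^k` if `Opp h k`; `exists_cm` : `[V^h, u] Rp = Zp^h`;
* `mem_R` : `C_{U/I}(N) = 1`; `pair` : if `⟨V^h, V^k⟩` is a 2-group, then `Zp^h ≤ Y^k` or `Zp^k ≤ Y^h`.
-/

set_option autoImplicit false
set_option linter.unusedSectionVars false

namespace Cfsg.Agent.Omega.NOThreeL.RFEnd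

open Subgroup Cfsg Cfsg.Agent.Omega.MinPar
open Cfsg.Agent.ZN (zc zl o2)
open Cfsg.Agent.Omega.Frame Cfsg.Agent.Omega.FrameNOFF
open Cfsg.Agent.Omega.Node.NO3L Cfsg.Agent.Omega.NOThreeL.Basic
open Cfsg.Agent.Omega.NoFF.Basic (conj_conj mem_conj conj_le_iff conj_le_centralizer comm_symm comm_mono)
open Cfsg.Agent.Omega.NOThreeL.Pair (conj_eq_of_mem conj_le_normalizer zl_abel)
open Cfsg.Agent.MinSimple.VModule (zl_le zc_le_zl le_normalizer_zl zc_le o2_isPGroup le_normalizer_o2 le_o2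
  normalizer_le_normalizer_zc)
open Cfsg.Agent.Omega.NOThreeL (mem_normalizer_of_conj_eq le_normalizer_of mem_sup_of_comm)
open Cfsg.Agent.Omega.NOThreeL.RTools (cm cm_def cm_mul NN conj_mem_of_mem conj_le_NN le_NN NN_le le_normalizer_NN
  le_sup_inf isLong)
open Cfsg.Agent.Omega.NOThreeL.AOne (Act ap_up_0)
open Cfsg.Agent.Omega.NOThreeL.RA (Yy Rr le_o2_of_pairs Opp Opp.symm ap_up_1 relIndex_of_map relIndex_conj)
open Cfsg.Agent.Lib.SL2Mat
open Cfsg.Agent.Omega.NatPair (ap ap_mul ap_one ap_inv_ap)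
open scoped Pointwise commutatorElement

universe u

namespace HypF

variable {G : Type u} [Group G] [Finite G] {F : Type} [Field F] {e : G → Fin 2 → F} {S : Sylow 2 G}
  {P H Zp Rp Dp B : Subgroup G} (D : HypF e S P H Zp Rp Dp B)
include D

/-! ### coordinates -/

theorem e_one : e 1 = 0 := by
  have h := D.mul 1 (one_mem _) 1 (one_mem _)
  rw [mul_one] at h
  exact left_eq_add.mp h

theorem e_self {v : G} (hv : v ∈ zl (S : Subgroup G) P) : e v + e v = 0 := by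
  rw [← D.mul v hv v hv, D.sqV hv, D.e_one]

theorem inv_V {v : G} (hv : v ∈ zl (S : Subgroup G) P) : v⁻¹ = v := inv_eq_of_mul_eq_one_left (D.sqV hv)

theorem inv_U {v : G} (hv : v ∈ zl (S : Subgroup G) H) : v⁻¹ = v := inv_eq_of_mul_eq_one_left (D.sqU hv)

theorem two_eq (x : F) : x + x = 0 := by
  obtain ⟨v, hv, h⟩ := D.surj ![x, 0]
  have h1 := congrFun (D.e_self hv) 0
  rw [h] at h1
  exact h1

theorem e_cm {v u : G} {b : F} (hv : v ∈ zl (S : Subgroup G) P) (hu : u ∈ P)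
    (h : Act e (zl (S : Subgroup G) P) u (up b)) : e (cm v u) = ![b * e v 1, 0] := by
  have e1 : cm v u = v * (u * v * u⁻¹) := by
    rw [cm_def]
    calc v * u * v⁻¹ * u⁻¹ = v * (u * v⁻¹ * u⁻¹) := by group
      _ = v * (u * v * u⁻¹) := by rw [D.inv_V hv]
  rw [e1, D.mul v hv _ (conj_mem_of_mem (D.PV hu) hv), h v hv]
  funext i
  fin_cases i
  · change e v 0 + ap (up b) (e v) 0 = b * e v 1
    rw [ap_up_0, ← add_assoc, D.two_eq, zero_add]
  · change e v 1 + ap (up b) (e v) 1 = 0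
    rw [ap_up_1, D.two_eq]

theorem cm_VP {v u : G} (hv : v ∈ zl (S : Subgroup G) P) (hu : u ∈ P) : cm v u ∈ zl (S : Subgroup G) P := by
  have e1 : cm v u = v * (u * v⁻¹ * u⁻¹) := by rw [cm_def]; group
  rw [e1]
  exact mul_mem hv (conj_mem_of_mem (D.PV hu) (inv_mem hv))

theorem UP : zl (S : Subgroup G) H ≤ P := D.US.trans D.SP

/-- `[V, U] ≤ Z` -/
theorem VU_Z {v u : G} (hv : v ∈ zl (S : Subgroup G) P) (hu : u ∈ zl (S : Subgroup G) H) :
    cm v u ∈ Zp := by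
  obtain ⟨b, hb⟩ := D.up1 u hu
  rw [← D.line _ (D.cm_VP hv (D.UP hu)), D.e_cm hv (D.UP hu) hb]
  rfl

/-- the root coordinate of `U` -/
theorem exists_beta : ∃ β : G → F, (∀ u ∈ zl (S : Subgroup G) H, Act e (zl (S : Subgroup G) P) u (up (β u))) ∧
    (∀ u ∈ zl (S : Subgroup G) H, ∀ w ∈ zl (S : Subgroup G) H, β (u * w) = β u + β w) ∧
    (∀ u ∈ zl (S : Subgroup G) H, β u = 0 ↔ u ∈ Yy (S : Subgroup G) P H) ∧
    ∀ x, ∃ u ∈ zl (S : Subgroup G) H, β u = x := by
  classical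
  obtain ⟨v1, hv1, he1⟩ := D.surj ![0, 1]
  have he : e v1 1 = 1 := by rw [he1]; rfl
  have huniq : ∀ u ∈ zl (S : Subgroup G) H, ∀ b b', Act e (zl (S : Subgroup G) P) u (up b) →
      Act e (zl (S : Subgroup G) P) u (up b') → b = b' := by
    intro u hu b b' h1 h2
    have h3 := congrFun (D.e_cm hv1 (D.UP hu) h1) 0
    rw [D.e_cm hv1 (D.UP hu) h2, he, mul_one, mul_one] at h3
    exact h3.symm
  choose! β hβ using D.up1
  refine ⟨β, hβ, ?_, ?_, ?_⟩
  · intro u hu w hw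
    refine huniq _ (mul_mem hu hw) _ _ (hβ _ (mul_mem hu hw)) ?_
    rw [← up_mul]
    exact (hβ u hu).mul (hβ w hw) (D.PV (D.UP hw))
  · intro u hu
    constructor
    · intro h
      refine mem_inf.mpr ⟨hu, D.cent u hu ?_⟩
      have h1 := hβ u hu
      rwa [h, up_zero] at h1
    · intro h
      refine huniq u hu _ _ (hβ u hu) ?_
      rw [up_zero]
      intro v hv
      rw [ap_one]
      congr 1
      rw [← mem_centralizer_iff.mp (mem_inf.mp h).2 v hv, mul_inv_cancel_right]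
  · intro x
    obtain ⟨u, hu, h⟩ := D.up2 x
    exact ⟨u, hu, huniq u hu _ _ (hβ u hu) h⟩

theorem ZV_P {v : G} (hv : v ∈ Zp) : e v 1 = 0 := (D.line v (D.ZV hv)).mpr hv

/-- `[v, u] ∈ E` only if `v ∈ Z` or `u ∈ Y` -/
theorem cm_E {v u : G} (hv : v ∈ zl (S : Subgroup G) P) (hu : u ∈ zl (S : Subgroup G) H)
    (h : cm v u ∈ Dp) : v ∈ Zp ∨ u ∈ Yy (S : Subgroup G) P H := by
  obtain ⟨β, h1, h2, h3, h4⟩ := D.exists_beta
  have h5 : e (cm v u) = 0 := (D.ker _ (D.cm_VP hv (D.UP hu))).mpr h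
  rw [D.e_cm hv (D.UP hu) (h1 u hu)] at h5
  have h6 : β u * e v 1 = 0 := congrFun h5 0
  rcases mul_eq_zero.mp h6 with h | h
  · exact Or.inr ((h3 u hu).mp h)
  · exact Or.inl ((D.line v hv).mp h)

theorem cm_one {v u : G} (hv : v ∈ zl (S : Subgroup G) P) (hu : u ∈ zl (S : Subgroup G) H)
    (h : cm v u = 1) : v ∈ Zp ∨ u ∈ Yy (S : Subgroup G) P H :=
  D.cm_E hv hu (h ▸ one_mem _)

/-! ### indices -/

theorem relIndex_YU : (Yy (S : Subgroup G) P H).relIndex (zl (S : Subgroup G) H) = Nat.card F := by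
  obtain ⟨β, _, h2, h3, h4⟩ := D.exists_beta
  exact relIndex_of_map β h2 h3 h4

theorem relIndex_ZV : Zp.relIndex (zl (S : Subgroup G) P) = Nat.card F := by
  refine relIndex_of_map (fun v => e v 1) (fun a ha b hb => congrFun (D.mul a ha b hb) 1) D.line fun x => ?_
  obtain ⟨v, hv, h⟩ := D.surj ![0, x]
  exact ⟨v, hv, by rw [h]; rfl⟩

theorem relIndex_EZ : Dp.relIndex Zp = Nat.card F := by
  refine relIndex_of_map (fun v => e v 0) (fun a ha b hb => congrFun (D.mul a (D.ZV ha) b (D.ZV hb)) 0)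
    (fun a ha => ?_) fun x => ?_
  · rw [← D.ker a (D.ZV ha)]
    constructor
    · intro h
      funext i
      fin_cases i
      · exact h
      · exact D.ZV_P ha
    · intro h
      exact congrFun h 0
  · obtain ⟨v, hv, h⟩ := D.surj ![x, 0]
    refine ⟨v, (D.line v hv).mp (by rw [h]; rfl), by rw [h]; rfl⟩

/-! ### conjugates -/

omit D in
theorem conj_cm (h x y : G) : h⁻¹ * cm x y * h = cm (h⁻¹ * x * h) (h⁻¹ * y * h) := by
  simp only [cm_def]; group

theorem U_conj {h u : G} (hh : h ∈ H) (hu : u ∈ zl (S : Subgroup G) H) : h⁻¹ * u * h ∈ zl (S : Subgroup G) H := by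
  have h1 := conj_mem_of_mem (D.HU (inv_mem hh)) hu
  rwa [inv_inv] at h1

theorem conjU {h : G} (hh : h ∈ H) : MulAut.conj h • zl (S : Subgroup G) H = zl (S : Subgroup G) H :=
  conj_eq_of_mem (D.HU hh)

/-- `[V^h, U] ≤ Z^h` -/
theorem cm_conj {h a u : G} (hh : h ∈ H) (ha : a ∈ MulAut.conj h • zl (S : Subgroup G) P)
    (hu : u ∈ zl (S : Subgroup G) H) : cm a u ∈ MulAut.conj h • Zp := by
  rw [mem_conj] at ha ⊢
  rw [conj_cm]
  exact D.VU_Z ha (D.U_conj hh hu)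

theorem conjZ_le {h : G} (hh : h ∈ H) : MulAut.conj h • Zp ≤ zl (S : Subgroup G) H := by
  have h1 := (conj_le_iff (g := h)).2 D.ZU
  rwa [D.conjU hh] at h1

theorem conjY_le {h : G} (hh : h ∈ H) : MulAut.conj h • Yy (S : Subgroup G) P H ≤ zl (S : Subgroup G) H := by
  have h1 := (conj_le_iff (g := h)).2 (inf_le_left : Yy (S : Subgroup G) P H ≤ zl (S : Subgroup G) H)
  rwa [D.conjU hh] at h1

theorem conjZ_le_V (h : G) : MulAut.conj h • Zp ≤ MulAut.conj h • zl (S : Subgroup G) P :=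
  conj_le_iff.2 D.ZV

theorem conjV_le {h : G} (hh : h ∈ H) : MulAut.conj h • zl (S : Subgroup G) P ≤ H := by
  have h1 := (conj_le_iff (g := h)).2 D.VH
  rwa [conj_eq_of_mem (Subgroup.le_normalizer hh)] at h1

/-- `C_U(a) = Y^h` for `a ∈ V^h - Z^h` -/
theorem mem_Y_of_comm {h a u : G} (hh : h ∈ H) (ha : a ∈ MulAut.conj h • zl (S : Subgroup G) P)
    (ha' : a ∉ MulAut.conj h • Zp) (hu : u ∈ zl (S : Subgroup G) H) (hc : a * u = u * a) :
    u ∈ MulAut.conj h • Yy (S : Subgroup G) P H := by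
  rw [mem_conj] at ha ha' ⊢
  rcases D.cm_one ha (D.U_conj hh hu) (by
    rw [← conj_cm, cm_eq_one.mpr hc, mul_one, inv_mul_cancel]) with h1 | h1
  · exact absurd h1 ha'
  · exact h1

theorem Y_comm {h a u : G} (ha : a ∈ MulAut.conj h • zl (S : Subgroup G) P)
    (hu : u ∈ MulAut.conj h • Yy (S : Subgroup G) P H) : a * u = u * a := by
  rw [mem_conj] at ha hu
  have h1 := mem_centralizer_iff.mp (mem_inf.mp hu).2 _ ha
  calc a * u = h * ((h⁻¹ * a * h) * (h⁻¹ * u * h)) * h⁻¹ := by group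
    _ = h * ((h⁻¹ * u * h) * (h⁻¹ * a * h)) * h⁻¹ := by rw [h1]
    _ = u * a := by group

theorem mem_Y_iff {h u : G} (hh : h ∈ H) : u ∈ MulAut.conj h • Yy (S : Subgroup G) P H ↔
    u ∈ zl (S : Subgroup G) H ∧ ∀ a ∈ MulAut.conj h • zl (S : Subgroup G) P, a * u = u * a := by
  constructor
  · exact fun hu => ⟨D.conjY_le hh hu, fun a ha => D.Y_comm ha hu⟩
  · rintro ⟨hu, h1⟩
    rw [mem_conj]
    refine mem_inf.mpr ⟨D.U_conj hh hu, ?_⟩
    rw [mem_centralizer_iff]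
    intro v hv
    have h2 := h1 (h * v * h⁻¹) (by rw [mem_conj]; have e1 : h⁻¹ * (h * v * h⁻¹) * h = v := by group
                                    rwa [e1])
    calc v * (h⁻¹ * u * h) = h⁻¹ * ((h * v * h⁻¹) * u) * h := by group
      _ = h⁻¹ * (u * (h * v * h⁻¹)) * h := by rw [h2]
      _ = h⁻¹ * u * h * v := by group

theorem F_le_U : Rp ≤ zl (S : Subgroup G) H := D.RpU

theorem F_le_Y {h : G} (hh : h ∈ H) : Rp ≤ MulAut.conj h • Yy (S : Subgroup G) P H := by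
  intro x hx
  rw [D.mem_Y_iff hh]
  exact ⟨D.F_le_U hx, fun a ha => D.Rp_fix hx (conj_le_NN hh ha)⟩

theorem R_le_Y {h : G} (hh : h ∈ H) : Rr (S : Subgroup G) P H ≤ MulAut.conj h • Yy (S : Subgroup G) P H := by
  intro x hx
  rw [D.mem_Y_iff hh]
  exact ⟨D.RU hx, fun a ha => mem_centralizer_iff.mp (mem_inf.mp hx).2 a (conj_le_NN hh ha)⟩

/-! ### (S) -/

omit D in
theorem card_mul_relIndex' {A C : Subgroup G} (h : A ≤ C) : Nat.card A * A.relIndex C = Nat.card C := by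
  rw [Subgroup.relIndex, ← Nat.card_congr (Subgroup.subgroupOfEquivOfLe h).toEquiv]
  exact Subgroup.card_mul_index _

omit D in
/-- `2 ∤ |N : S ∩ N|` for `N ⊴ H`, `S ≤ H` -/
theorem not_dvd_inf (S : Sylow 2 G) {X : Subgroup G} (h : (S : Subgroup G) ≤ normalizer (X : Set G)) :
    ¬ 2 ∣ ((S : Subgroup G) ⊓ X).relIndex X := by
  have hKn : (X.subgroupOf (X ⊔ S)).Normal := normal_subgroupOf_of_le_normalizer (sup_le le_normalizer h)
  have h1 := relIndex_sup_left ((S : Subgroup G).subgroupOf (X ⊔ S)) (X.subgroupOf (X ⊔ S))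
  rw [← Subgroup.subgroupOf_sup le_sup_left le_sup_right, Subgroup.subgroupOf_self,
    Subgroup.relIndex_subgroupOf le_sup_right, relIndex_top_right] at h1
  have h2 : Nat.card X * X.relIndex S = Nat.card (X ⊔ S : Subgroup G) := by
    rw [← h1]
    exact card_mul_relIndex' le_sup_left
  have h3 : Nat.card ((S : Subgroup G) ⊓ X : Subgroup G) * X.relIndex S = Nat.card S := by
    rw [← inf_relIndex_right, inf_comm]
    exact card_mul_relIndex' inf_le_right
  have h4 := card_mul_relIndex' (le_sup_right : (S : Subgroup G) ≤ X ⊔ S)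
  have h5 := card_mul_relIndex' (inf_le_right : (S : Subgroup G) ⊓ X ≤ X)
  have h6 := MinSimple.Basic.not_dvd_relIndex S (le_sup_right : (S : Subgroup G) ≤ X ⊔ S)
  have h7 : (S : Subgroup G).relIndex (X ⊔ S) = ((S : Subgroup G) ⊓ X).relIndex X := by
    apply Nat.eq_of_mul_eq_mul_left (Nat.card_pos (α := S))
    rw [h4, ← h2, ← h5, ← h3]
    ring
  rwa [h7] at h6

theorem SN_dvd {K : Subgroup G} (h1 : (S : Subgroup G) ⊓ NN (S : Subgroup G) P H ≤ K)
    (h2 : K ≤ NN (S : Subgroup G) P H) : ¬ 2 ∣ ((S : Subgroup G) ⊓ NN (S : Subgroup G) P H).relIndex K := by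
  have hSN : (S : Subgroup G) ≤ normalizer (NN (S : Subgroup G) P H : Set G) :=
    D.SH.trans (le_normalizer_NN _ _ _)
  have h4 : ((S : Subgroup G) ⊓ NN (S : Subgroup G) P H).relIndex K ∣
      ((S : Subgroup G) ⊓ NN (S : Subgroup G) P H).relIndex (NN (S : Subgroup G) P H) :=
    ⟨_, (relIndex_mul_relIndex _ _ _ h1 h2).symm⟩
  exact fun h5 => not_dvd_inf S hSN (h5.trans h4)

/-- **(F')** -/
theorem comm_of_I_one {z x : G} (hz : z ∈ Zp) (hx : x ∈ NN (S : Subgroup G) P H)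
    (h : cm x z ∈ Rr (S : Subgroup G) P H) : x * z = z * x := by
  have : Fact (Nat.Prime 2) := ⟨Nat.prime_two⟩
  have hfix : ∀ {x y : G}, x ∈ Rr (S : Subgroup G) P H → y ∈ NN (S : Subgroup G) P H → y * x * y⁻¹ = x :=
    fun hx hy => by rw [mem_centralizer_iff.mp (mem_inf.mp hx).2 _ hy, mul_inv_cancel_right]
  have hmul : ∀ {x y : G}, x ∈ NN (S : Subgroup G) P H → cm x z ∈ Rr (S : Subgroup G) P H →
      cm y z ∈ Rr (S : Subgroup G) P H → cm (x * y) z = cm x z * cm y z := by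
    intro x y hx hy' hy
    have e1 : cm (x * y) z = (x * cm y z * x⁻¹) * cm x z := by simp only [cm_def]; group
    rw [e1, hfix hy hx]
    exact D.commU (D.RU hy) (D.RU hy')
  let K : Subgroup G :=
    { carrier := {x | x ∈ NN (S : Subgroup G) P H ∧ cm x z ∈ Rr (S : Subgroup G) P H}
      mul_mem' := by
        rintro x y ⟨hx, h1⟩ ⟨hy, h2⟩
        refine ⟨mul_mem hx hy, ?_⟩
        rw [hmul hx h1 h2]
        exact mul_mem h1 h2
      one_mem' := ⟨one_mem _, by rw [cm_def]; simp⟩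
      inv_mem' := by
        rintro x ⟨hx, h1⟩
        refine ⟨inv_mem hx, ?_⟩
        have e1 : cm x⁻¹ z = x⁻¹ * (cm x z)⁻¹ * x⁻¹⁻¹ := by simp only [cm_def]; group
        rw [e1, hfix (inv_mem h1) (inv_mem hx)]
        exact inv_mem h1 }
  let φ : K →* G := MonoidHom.mk' (fun x => cm (x : G) z) fun x y => hmul x.2.1 x.2.2 y.2.2
  have hs : ∀ s ∈ (S : Subgroup G) ⊓ NN (S : Subgroup G) P H, cm s z = 1 := fun s hs => by
    rw [cm_eq_one]
    exact (mem_centralizer_iff.mp (D.SN hs) z hz).symm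
  have hSK : (S : Subgroup G) ⊓ NN (S : Subgroup G) P H ≤ K := fun s h1 => ⟨(mem_inf.1 h1).2, by
    rw [hs s h1]; exact one_mem _⟩
  have hSk : ((S : Subgroup G) ⊓ NN (S : Subgroup G) P H).subgroupOf K ≤ φ.ker := by
    rintro ⟨s, hs'⟩ h1
    rw [MonoidHom.mem_ker]
    exact hs s h1
  have h1 : ¬ 2 ∣ φ.ker.index := by
    intro h2
    have h3 : φ.ker.index ∣ (((S : Subgroup G) ⊓ NN (S : Subgroup G) P H).subgroupOf K).index :=
      index_dvd_of_le hSk
    exact D.SN_dvd hSK (fun x hx => hx.1) (h2.trans h3)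
  have h2 : IsPGroup 2 φ.range := by
    have h3 : φ.range ≤ Rr (S : Subgroup G) P H := by
      rintro _ ⟨x, rfl⟩
      exact x.2.2
    exact (S.isPGroup'.to_le (D.RU.trans D.US)).to_le h3
  have h3 : φ.range = ⊥ := by
    obtain ⟨n, hn⟩ := IsPGroup.iff_card.mp h2
    rw [index_ker, hn] at h1
    have hn0 : n = 0 := by
      by_contra h4
      exact h1 (dvd_pow_self 2 h4)
    rw [hn0, pow_zero] at hn
    exact Subgroup.eq_bot_of_card_eq _ hn
  have h4 : φ ⟨x, hx, h⟩ ∈ φ.range := ⟨_, rfl⟩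
  rw [h3, mem_bot] at h4
  exact cm_eq_one.mp h4

/-- **(F')** for `Zp^h` -/
theorem comm_of_I {h z x : G} (hh : h ∈ H) (hz : z ∈ MulAut.conj h • Zp) (hx : x ∈ NN (S : Subgroup G) P H)
    (hF : cm x z ∈ Rr (S : Subgroup G) P H) : x * z = z * x := by
  rw [mem_conj] at hz
  have h1 : cm (h⁻¹ * x * h) (h⁻¹ * z * h) ∈ Rr (S : Subgroup G) P H := by
    rw [← conj_cm]
    have h2 := conj_mem_of_mem (D.HR (inv_mem hh)) hF
    rwa [inv_inv] at h2
  have h3 : h⁻¹ * x * h ∈ NN (S : Subgroup G) P H := by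
    have h2 := conj_mem_of_mem (le_normalizer_NN (S : Subgroup G) P H (inv_mem hh)) hx
    rwa [inv_inv] at h2
  have h2 := D.comm_of_I_one hz h3 h1
  calc x * z = h * ((h⁻¹ * x * h) * (h⁻¹ * z * h)) * h⁻¹ := by group
    _ = h * ((h⁻¹ * z * h) * (h⁻¹ * x * h)) * h⁻¹ := by rw [h2]
    _ = z * x := by group

/-! ### opposite pairs -/

/-- Baer–Suzuki -/
theorem exists_opp {h : G} (hh : h ∈ H) : ∃ k ∈ H, Opp (S : Subgroup G) P h k := by
  by_contra hcon
  push Not at hcon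
  refine D.ne ((le_o2_of_pairs D.VH fun g hg => ?_).trans D.o2_cent)
  have h1 : IsPGroup 2 (MulAut.conj h • zl (S : Subgroup G) P ⊔ MulAut.conj (h * g) • zl (S : Subgroup G) P : Subgroup G) := by
    have h2 := hcon (h * g) (mul_mem hh hg)
    unfold Opp at h2
    rwa [not_not] at h2
  rw [← conj_conj, ← Subgroup.smul_sup] at h1
  exact h1.of_equiv (Subgroup.equivSMul (MulAut.conj h) _).symm

/-- `Z^h ∩ Y^k = F` -/
theorem inf_F {h k : G} (hh : h ∈ H) (hk : k ∈ H) (ho : Opp (S : Subgroup G) P h k) {x : G}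
    (hx : x ∈ MulAut.conj h • Zp) (hxY : x ∈ MulAut.conj k • Yy (S : Subgroup G) P H) :
    x ∈ Rp := by
  by_contra hxF
  apply ho
  have h1 := D.V_le_o2N hh hx hxF
  set L := NN (S : Subgroup G) P H ⊓ centralizer ({x} : Set G) with hL
  have h2 : MulAut.conj k • zl (S : Subgroup G) P ≤ L := by
    intro a ha
    refine mem_inf.mpr ⟨conj_le_NN hk ha, ?_⟩
    rw [mem_centralizer_iff]
    rintro _ rfl
    exact (D.Y_comm ha hxY).symm
  have h3 : IsPGroup 2 (MulAut.conj k • zl (S : Subgroup G) P ⊔ o2 L : Subgroup G) := by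
    have : Fact (Nat.Prime 2) := ⟨Nat.prime_two⟩
    refine IsPGroup.to_sup_of_normal_right' ?_ (o2_isPGroup _) (h2.trans (le_normalizer_o2 _))
    exact (S.isPGroup'.to_le D.VS).map _
  refine h3.to_le (sup_le (h1.trans le_sup_right) le_sup_left)

theorem inf_eq {h k : G} (hh : h ∈ H) (hk : k ∈ H) (ho : Opp (S : Subgroup G) P h k) :
    MulAut.conj h • Zp ⊓ MulAut.conj k • Yy (S : Subgroup G) P H = Rp :=
  le_antisymm (fun _ hx => D.inf_F hh hk ho (mem_inf.mp hx).1 (mem_inf.mp hx).2)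
    (le_inf (D.Rp_le hh) (D.F_le_Y hk))

theorem not_R {h k a z : G} (hh : h ∈ H) (hk : k ∈ H) (ho : Opp (S : Subgroup G) P h k)
    (hz : z ∈ MulAut.conj k • Zp) (hzF : z ∉ Rp)
    (ha : a ∈ MulAut.conj h • zl (S : Subgroup G) P) (haZ : a ∉ MulAut.conj h • Zp) :
    cm a z ∉ Rr (S : Subgroup G) P H := by
  intro h1
  have hzU := D.conjZ_le hk hz
  have h3 := D.comm_of_I hk hz (conj_le_NN hh ha) h1
  exact hzF (D.inf_F hk hh ho.symm hz (D.mem_Y_of_comm hh ha haZ hzU h3))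

theorem Z_not_F {k : G} (hk : k ∈ H) : ∃ z ∈ MulAut.conj k • Zp, z ∉ Rp := by
  obtain ⟨x, hx, hx1⟩ := D.eps
  refine ⟨k * x * k⁻¹, ?_, fun h => ?_⟩
  · rw [mem_conj]
    have e1 : k⁻¹ * (k * x * k⁻¹) * k = x := by group
    rw [e1]
    exact D.DZ (mem_inf.1 hx).2
  · have h1 := D.Rp_conj' h hk
    have e1 : k⁻¹ * (k * x * k⁻¹) * k = x := by group
    rw [e1] at h1
    have h2 : x ∈ Rp ⊓ Dp := mem_inf.2 ⟨h1, (mem_inf.1 hx).2⟩
    rw [D.RD, mem_bot] at h2
    exact hx1 h2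

/-- `β`-coordinate of `h⁻¹ u h` -/
theorem exists_beta_conj {h : G} (hh : h ∈ H) : ∃ β : G → F,
    (∀ u ∈ zl (S : Subgroup G) H, ∀ w ∈ zl (S : Subgroup G) H, β (u * w) = β u + β w) ∧
    (∀ u ∈ zl (S : Subgroup G) H, β u = 0 ↔ u ∈ MulAut.conj h • Yy (S : Subgroup G) P H) ∧
    ∀ x, ∃ u ∈ zl (S : Subgroup G) H, β u = x := by
  obtain ⟨β, h1, h2, h3, h4⟩ := D.exists_beta
  refine ⟨fun u => β (h⁻¹ * u * h), ?_, ?_, ?_⟩
  · intro u hu w hw
    have e1 : h⁻¹ * (u * w) * h = (h⁻¹ * u * h) * (h⁻¹ * w * h) := by group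
    change β _ = _
    rw [e1, h2 _ (D.U_conj hh hu) _ (D.U_conj hh hw)]
  · intro u hu
    rw [mem_conj]
    exact h3 _ (D.U_conj hh hu)
  · intro x
    obtain ⟨u, hu, h5⟩ := h4 x
    refine ⟨h * u * h⁻¹, conj_mem_of_mem (D.HU hh) hu, ?_⟩
    have e1 : h⁻¹ * (h * u * h⁻¹) * h = u := by group
    change β _ = x
    rw [e1, h5]

theorem finite_F : Finite F := by
  have h1 : (Set.range fun v : zl (S : Subgroup G) P => e v 0).Finite := Set.finite_range _
  refine Set.finite_univ_iff.mp (h1.subset fun x _ => ?_)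
  obtain ⟨v, hv, h⟩ := D.surj ![x, 0]
  exact ⟨⟨v, hv⟩, by change e v 0 = x; rw [h]; rfl⟩

/-- `|V^h/Z^h| = q` -/
theorem relIndex_ZVh (h : G) :
    (MulAut.conj h • Zp).relIndex (MulAut.conj h • zl (S : Subgroup G) P) = Nat.card F := by
  rw [relIndex_conj, D.relIndex_ZV]

theorem relIndex_YUh {h : G} (hh : h ∈ H) :
    (MulAut.conj h • Yy (S : Subgroup G) P H).relIndex (zl (S : Subgroup G) H) = Nat.card F := by
  have h1 := relIndex_conj h (Yy (S : Subgroup G) P H) (zl (S : Subgroup G) H)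
  rw [D.conjU hh, D.relIndex_YU] at h1
  exact h1

theorem relIndex_F_conj {h : G} (hh : h ∈ H) : Rp.relIndex (MulAut.conj h • Zp) = Rp.relIndex Zp := by
  have h1 := relIndex_conj h Rp Zp
  rwa [conj_eq_of_mem (D.HRp hh)] at h1

/-- `|Z/F| ≤ q` -/
theorem card_le : (Rp).relIndex Zp ≤ Nat.card F := by
  have := D.finite_F
  obtain ⟨k, hk, ho⟩ := D.exists_opp (one_mem H)
  have h1 : (Rp).relIndex Zp =
      (MulAut.conj k • Yy (S : Subgroup G) P H).relIndex Zp := by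
    have h2 := D.inf_eq (one_mem H) hk ho
    rw [map_one, one_smul] at h2
    rw [← h2, inf_relIndex_left]
  rw [h1, ← D.relIndex_YUh hk]
  refine relIndex_le_of_le_right D.ZU ?_
  rw [D.relIndex_YUh hk]
  exact Nat.card_pos.ne'

/-- the map `a ↦ [a, z]` -/
theorem cm_mul_left {h a b z : G} (hh : h ∈ H) (ha : a ∈ MulAut.conj h • zl (S : Subgroup G) P)
    (hb : b ∈ MulAut.conj h • zl (S : Subgroup G) P) (hz : z ∈ zl (S : Subgroup G) H) :
    cm (a * b) z = cm a z * cm b z := by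
  have h1 := D.cm_conj hh hb hz
  have h2 : a * cm b z * a⁻¹ = cm b z := by
    have h3 := ha
    have h4 := h1
    rw [mem_conj] at h3 h4
    have h5 := D.commV h3 (D.ZV h4)
    calc a * cm b z * a⁻¹ = h * ((h⁻¹ * a * h) * (h⁻¹ * cm b z * h)) * h⁻¹ * a⁻¹ := by group
      _ = h * ((h⁻¹ * cm b z * h) * (h⁻¹ * a * h)) * h⁻¹ * a⁻¹ := by rw [h5]
      _ = cm b z := by group
  have e1 : cm (a * b) z = (a * cm b z * a⁻¹) * cm a z := by simp only [cm_def]; group
  rw [e1, h2]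
  exact D.commU (D.conjZ_le hh h1) (D.conjZ_le hh (D.cm_conj hh ha hz))

/-- the elements `[a, z]`, `a ∈ V^h` -/
theorem exists_cm_card {h k z : G} (hh : h ∈ H) (hk : k ∈ H) (ho : Opp (S : Subgroup G) P h k)
    (hz : z ∈ MulAut.conj k • Zp) (hzF : z ∉ Rp) :
    Nat.card F = (Rp).relIndex (MulAut.conj h • Zp) ∧
    ∀ w ∈ MulAut.conj h • Zp, ∃ a ∈ MulAut.conj h • zl (S : Subgroup G) P,
      cm a z * w ∈ Rp := by
  classical
  have := D.finite_F
  have hzU := D.conjZ_le hk hz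
  set A := MulAut.conj h • zl (S : Subgroup G) P with hA
  set Zh := MulAut.conj h • Zp with hZh
  have hFZ : Rp ≤ Zh := D.Rp_le hh
  have hcomm : ∀ x ∈ Zh, ∀ y ∈ Zh, x * y = y * x := fun x hx y hy => D.commU (D.conjZ_le hh hx) (D.conjZ_le hh hy)
  have hn : ((Rp).subgroupOf Zh).Normal := by
    refine ⟨fun x hx g => ?_⟩
    have h1 : g * x * g⁻¹ = x := Subtype.ext (by
      change (g : G) * x * (g : G)⁻¹ = x
      rw [hcomm g g.2 x x.2, mul_inv_cancel_right])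
    rwa [h1]
  let f₀ : A →* Zh := MonoidHom.mk' (fun a => ⟨cm (a : G) z, D.cm_conj hh a.2 hzU⟩) fun a b =>
    Subtype.ext (D.cm_mul_left hh a.2 b.2 hzU)
  let f : A →* Zh ⧸ ((Rp).subgroupOf Zh) := (QuotientGroup.mk' _).comp f₀
  have hker : f.ker = Zh.subgroupOf A := by
    ext ⟨a, ha⟩
    rw [MonoidHom.mem_ker, mem_subgroupOf]
    have h1 : f ⟨a, ha⟩ = 1 ↔ cm a z ∈ Rp := by
      change (QuotientGroup.mk (f₀ ⟨a, ha⟩) : Zh ⧸ ((Rp).subgroupOf Zh)) = 1 ↔ _
      rw [QuotientGroup.eq_one_iff, mem_subgroupOf]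
      rfl
    rw [h1]
    constructor
    · intro h2
      by_contra h3
      have h4 : cm a z ∈ Rr (S : Subgroup G) P H := by
        have h5 : cm a z ∈ Rr (S : Subgroup G) P H ⊓ Zp := by
          rw [D.R_inf_Z]; exact h2
        exact (mem_inf.mp h5).1
      exact D.not_R hh hk ho hz hzF ha h3 h4
    · intro h2
      have h3 : a * z = z * a := D.commU (D.conjZ_le hh h2) hzU
      rw [cm_eq_one.mpr h3]
      exact one_mem _
  have h1 : f.ker.index = Nat.card F := by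
    rw [hker]
    exact D.relIndex_ZVh h
  have h2 : Nat.card f.range ≤ Nat.card (Zh ⧸ ((Rp).subgroupOf Zh)) :=
    Nat.card_le_card_of_injective _ Subtype.val_injective
  have h3 : Nat.card (Zh ⧸ ((Rp).subgroupOf Zh)) = (Rp).relIndex Zh := rfl
  have h4 : (Rp).relIndex Zh ≤ Nat.card F := by
    rw [hZh, D.relIndex_F_conj hh]
    exact D.card_le
  rw [← index_ker, h1, h3] at h2
  have h5 : Nat.card F = (Rp).relIndex Zh := le_antisymm h2 h4
  refine ⟨h5, fun w hw => ?_⟩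
  have h6 : f.range = ⊤ := by
    refine Subgroup.eq_top_of_card_eq _ ?_
    rw [← index_ker, h1, h3, h5]
  have h7 : (QuotientGroup.mk (⟨w, hw⟩ : Zh) : Zh ⧸ ((Rp).subgroupOf Zh))⁻¹ ∈ f.range := by
    rw [h6]; exact mem_top _
  obtain ⟨⟨a, ha⟩, h8⟩ := h7
  refine ⟨a, ha, ?_⟩
  have h9 : (QuotientGroup.mk (f₀ ⟨a, ha⟩ * ⟨w, hw⟩) : Zh ⧸ ((Rp).subgroupOf Zh)) = 1 := by
    rw [QuotientGroup.mk_mul]
    change f ⟨a, ha⟩ * _ = 1
    rw [h8, inv_mul_cancel]
  rw [QuotientGroup.eq_one_iff, mem_subgroupOf] at h9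
  exact h9

/-- **`|Z/F| = q`** -/
theorem card_F : (Rp).relIndex Zp = Nat.card F := by
  obtain ⟨k, hk, ho⟩ := D.exists_opp (one_mem H)
  obtain ⟨z, hz, hzF⟩ := D.Z_not_F hk
  have h1 := (D.exists_cm_card (one_mem H) hk ho hz hzF).1
  rw [map_one, one_smul] at h1
  exact h1.symm

/-- **`U = Z^h Y^k`** for an opposite pair -/
theorem U_eq {h k : G} (hh : h ∈ H) (hk : k ∈ H) (ho : Opp (S : Subgroup G) P h k) {u : G}
    (hu : u ∈ zl (S : Subgroup G) H) : ∃ z ∈ MulAut.conj h • Zp,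
      ∃ y ∈ MulAut.conj k • Yy (S : Subgroup G) P H, u = z * y := by
  have := D.finite_F
  obtain ⟨β, h2, h3, h4⟩ := D.exists_beta_conj hk
  set Zh := MulAut.conj h • Zp with hZh
  let φ : Zh →* Multiplicative F := MonoidHom.mk' (fun a => Multiplicative.ofAdd (β a)) fun a b => by
    rw [← ofAdd_add, ← h2 a (D.conjZ_le hh a.2) b (D.conjZ_le hh b.2)]
    rfl
  have hker : φ.ker = (Rp).subgroupOf Zh := by
    ext ⟨a, ha⟩
    rw [MonoidHom.mem_ker, mem_subgroupOf]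
    change β a = 0 ↔ a ∈ _
    rw [h3 a (D.conjZ_le hh ha)]
    exact ⟨fun h5 => D.inf_F hh hk ho ha h5, fun h5 => D.F_le_Y hk h5⟩
  have h5 : φ.range = ⊤ := by
    refine Subgroup.eq_top_of_card_eq _ ?_
    rw [← index_ker, hker]
    change (Rp).relIndex Zh = _
    rw [hZh, D.relIndex_F_conj hh, D.card_F]
    exact Nat.card_congr Multiplicative.ofAdd
  have h6 : Multiplicative.ofAdd (β u) ∈ φ.range := by rw [h5]; exact mem_top _
  obtain ⟨⟨z, hz⟩, h7⟩ := h6
  have h8 : β z = β u := h7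
  have hzU := D.conjZ_le hh hz
  refine ⟨z, hz, z⁻¹ * u, ?_, by group⟩
  rw [← h3 _ (mul_mem (inv_mem hzU) hu), h2 _ (inv_mem hzU) _ hu, D.inv_U hzU, h8, D.two_eq]

/-- **`[a, u] ∉ R`** for `a ∈ V^h - Z^h`, `u ∈ U - Y^h` -/
theorem not_R' {h a u : G} (hh : h ∈ H) (ha : a ∈ MulAut.conj h • zl (S : Subgroup G) P)
    (haZ : a ∉ MulAut.conj h • Zp) (hu : u ∈ zl (S : Subgroup G) H)
    (huY : u ∉ MulAut.conj h • Yy (S : Subgroup G) P H) : cm a u ∉ Rr (S : Subgroup G) P H := by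
  obtain ⟨k, hk, ho⟩ := D.exists_opp hh
  obtain ⟨z, hz, y, hy, rfl⟩ := D.U_eq hk hh ho.symm hu
  have h1 : a * y = y * a := D.Y_comm ha hy
  have e1 : cm a (z * y) = cm a z := by
    rw [cm_def, cm_def, mul_inv_rev]
    calc a * (z * y) * a⁻¹ * (y⁻¹ * z⁻¹) = a * z * (y * a⁻¹) * y⁻¹ * z⁻¹ := by group
      _ = a * z * (a⁻¹ * y) * y⁻¹ * z⁻¹ := by
          have h2 : y * a⁻¹ = a⁻¹ * y := by
            calc y * a⁻¹ = a⁻¹ * (a * y) * a⁻¹ := by group
              _ = a⁻¹ * (y * a) * a⁻¹ := by rw [h1]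
              _ = a⁻¹ * y := by group
          rw [h2]
      _ = a * z * a⁻¹ * z⁻¹ := by group
  rw [e1]
  refine D.not_R hh hk ho hz (fun h2 => huY ?_) ha haZ
  exact mul_mem (D.F_le_Y hh h2) hy

/-- **`[V^h, u] F = Z^h`** for `u ∈ U - Y^h` -/
theorem exists_cm {h u : G} (hh : h ∈ H) (hu : u ∈ zl (S : Subgroup G) H)
    (huY : u ∉ MulAut.conj h • Yy (S : Subgroup G) P H) {w : G} (hw : w ∈ MulAut.conj h • Zp) :
    ∃ a ∈ MulAut.conj h • zl (S : Subgroup G) P, cm a u * w ∈ Rp := by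
  obtain ⟨k, hk, ho⟩ := D.exists_opp hh
  obtain ⟨z, hz, y, hy, rfl⟩ := D.U_eq hk hh ho.symm hu
  have hzF : z ∉ Rp := fun h2 => huY (mul_mem (D.F_le_Y hh h2) hy)
  obtain ⟨a, ha, h1⟩ := (D.exists_cm_card hh hk ho hz hzF).2 w hw
  refine ⟨a, ha, ?_⟩
  have h2 : a * y = y * a := D.Y_comm ha hy
  have e1 : cm a (z * y) = cm a z := by
    rw [cm_def, cm_def, mul_inv_rev]
    have h3 : y * a⁻¹ = a⁻¹ * y := by
      calc y * a⁻¹ = a⁻¹ * (a * y) * a⁻¹ := by group
        _ = a⁻¹ * (y * a) * a⁻¹ := by rw [h2]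
        _ = a⁻¹ * y := by group
    calc a * (z * y) * a⁻¹ * (y⁻¹ * z⁻¹) = a * z * (y * a⁻¹) * y⁻¹ * z⁻¹ := by group
      _ = a * z * (a⁻¹ * y) * y⁻¹ * z⁻¹ := by rw [h3]
      _ = a * z * a⁻¹ * z⁻¹ := by group
  rwa [e1]

/-- **`C_{U/R}(N) = 1`** -/
theorem mem_R {u : G} (hu : u ∈ zl (S : Subgroup G) H)
    (h : ∀ n ∈ NN (S : Subgroup G) P H, cm n u ∈ Rr (S : Subgroup G) P H) : u ∈ Rr (S : Subgroup G) P H := by
  have h1 : ∀ k ∈ H, u ∈ MulAut.conj k • Yy (S : Subgroup G) P H := by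
    intro k hk
    by_contra h2
    -- an element of `V^k - Z^k`
    have h3 : ∃ a ∈ MulAut.conj k • zl (S : Subgroup G) P, a ∉ MulAut.conj k • Zp := by
      obtain ⟨v, hv, hev⟩ := D.surj ![0, 1]
      refine ⟨k * v * k⁻¹, ?_, ?_⟩
      · rw [mem_conj]
        have e1 : k⁻¹ * (k * v * k⁻¹) * k = v := by group
        rwa [e1]
      · rw [mem_conj]
        have e1 : k⁻¹ * (k * v * k⁻¹) * k = v := by group
        rw [e1]
        intro h4
        have h5 := D.ZV_P h4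
        rw [hev] at h5
        exact one_ne_zero h5
    obtain ⟨a, ha, haZ⟩ := h3
    exact D.not_R' hk ha haZ hu h2 (h a (conj_le_NN hk ha))
  refine mem_inf.mpr ⟨hu, ?_⟩
  have h2 : NN (S : Subgroup G) P H ≤ centralizer ({u} : Set G) := by
    refine NN_le fun k hk a ha => ?_
    rw [mem_centralizer_iff]
    rintro _ rfl
    exact (D.Y_comm ha (h1 k hk)).symm
  rw [mem_centralizer_iff]
  intro n hn
  exact (mem_centralizer_iff.mp (h2 hn) u rfl).symm

/-- `|R| = |D|` -/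
theorem card_F_eq : Nat.card Rp = Nat.card Dp := by
  have := D.finite_F
  have h1 := card_mul_index (Rp.subgroupOf Zp)
  have h2 := card_mul_index (Dp.subgroupOf Zp)
  have h3 : (Rp.subgroupOf Zp).index = Nat.card F := D.card_F
  have h4 : (Dp.subgroupOf Zp).index = Nat.card F := D.relIndex_EZ
  rw [h3, Nat.card_congr (subgroupOfEquivOfLe D.RZ).toEquiv] at h1
  rw [h4, Nat.card_congr (subgroupOfEquivOfLe D.DZ).toEquiv, ← h1] at h2
  exact (Nat.eq_of_mul_eq_mul_right Nat.card_pos h2).symm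

/-- **pairs generating a 2-group** -/
theorem pair {h k : G} (hh : h ∈ H) (hk : k ∈ H) (ho : ¬ Opp (S : Subgroup G) P h k) :
    MulAut.conj h • Zp ≤ MulAut.conj k • Yy (S : Subgroup G) P H ∨
      MulAut.conj k • Zp ≤ MulAut.conj h • Yy (S : Subgroup G) P H := by
  have : Fact (Nat.Prime 2) := ⟨Nat.prime_two⟩
  unfold Opp at ho
  rw [not_not] at ho
  by_contra hcon
  push Not at hcon
  obtain ⟨hc1, hc2⟩ := hcon
  obtain ⟨z, hz, hzY⟩ := SetLike.not_le_iff_exists.mp hc1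
  obtain ⟨w, hw, hwY⟩ := SetLike.not_le_iff_exists.mp hc2
  have hzU := D.conjZ_le hh hz
  have hwU := D.conjZ_le hk hw
  obtain ⟨b, hb, hb1⟩ := D.exists_cm hk hzU hzY hw
  obtain ⟨a, ha, ha1⟩ := D.exists_cm hh hwU hwY hz
  set X : Subgroup G := MulAut.conj h • zl (S : Subgroup G) P ⊔ MulAut.conj k • zl (S : Subgroup G) P with hX
  have hXH : X ≤ H := sup_le (D.conjV_le hh) (D.conjV_le hk)
  have hXN : X ≤ NN (S : Subgroup G) P H := sup_le (conj_le_NN hh) (conj_le_NN hk)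
  set T : Subgroup G := X ⊔ zl (S : Subgroup G) H with hT
  have hTp : IsPGroup 2 T :=
    IsPGroup.to_sup_of_normal_right' ho (S.isPGroup'.to_le D.US) (hXH.trans D.HU)
  have hnil : Group.IsNilpotent T := IsPGroup.isNilpotent hTp
  obtain ⟨n, hn⟩ := (Subgroup.isNilpotent_iff_lowerCentralSeries T).mp hnil
  have haT : a ∈ T := (le_sup_left : X ≤ T) ((le_sup_left : _ ≤ X) ha)
  have hbT : b ∈ T := (le_sup_left : X ≤ T) ((le_sup_right : _ ≤ X) hb)
  have hUT : zl (S : Subgroup G) H ≤ T := le_sup_right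
  -- the step
  have step : ∀ {m : ℕ} {x y c : G}, c ∈ X → x ∈ zl (S : Subgroup G) H → y ∈ zl (S : Subgroup G) H →
      cm c x * y ∈ Rp → (∃ r ∈ Rr (S : Subgroup G) P H, x * r ∈ T.lowerCentralSeries m) →
      ∃ r ∈ Rr (S : Subgroup G) P H, y * r ∈ T.lowerCentralSeries (m + 1) := by
    rintro m x y c hc hx hy hf ⟨r, hr, hxr⟩
    have hfR : cm c x * y ∈ Rr (S : Subgroup G) P H := by
      rw [← D.R_inf_Z] at hf
      exact (mem_inf.mp hf).1
    refine ⟨cm c x * y, hfR, ?_⟩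
    have hcr : c * r = r * c := mem_centralizer_iff.mp (mem_inf.mp hr).2 c (hXN hc)
    have hcx : cm c x ∈ zl (S : Subgroup G) H := by
      have e1 : cm c x = (c * x * c⁻¹) * x⁻¹ := by rw [cm_def]
      rw [e1]
      exact mul_mem (conj_mem_of_mem (D.HU (hXH hc)) hx) (inv_mem hx)
    have h1 : cm c (x * r) = cm c x := by
      rw [cm_def, cm_def, mul_inv_rev]
      have h2 : r * c⁻¹ = c⁻¹ * r := by
        calc r * c⁻¹ = c⁻¹ * (c * r) * c⁻¹ := by group
          _ = c⁻¹ * (r * c) * c⁻¹ := by rw [hcr]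
          _ = c⁻¹ * r := by group
      calc c * (x * r) * c⁻¹ * (r⁻¹ * x⁻¹) = c * x * (r * c⁻¹) * r⁻¹ * x⁻¹ := by group
        _ = c * x * (c⁻¹ * r) * r⁻¹ * x⁻¹ := by rw [h2]
        _ = c * x * c⁻¹ * x⁻¹ := by group
    have h2 : y * (cm c x * y) = cm c x := by
      rw [D.commU hcx hy, ← mul_assoc, D.sqU hy, one_mul]
    rw [h2, ← h1]
    change _ ∈ ⁅T.lowerCentralSeries m, T⁆
    have h3 : cm c (x * r) = ⁅x * r, c⁆⁻¹ := by
      rw [commutatorElement_inv]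
      rfl
    rw [h3]
    exact inv_mem (commutator_mem_commutator hxr ((le_sup_left : X ≤ T) hc))
  have key : ∀ m : ℕ, (∃ r ∈ Rr (S : Subgroup G) P H, z * r ∈ T.lowerCentralSeries m) ∧
      ∃ r ∈ Rr (S : Subgroup G) P H, w * r ∈ T.lowerCentralSeries m := by
    intro m
    induction m with
    | zero => exact ⟨⟨1, one_mem _, by rw [mul_one]; exact hUT hzU⟩, ⟨1, one_mem _, by rw [mul_one]; exact hUT hwU⟩⟩
    | succ m ih =>
      exact ⟨step ((le_sup_left : _ ≤ X) ha) hwU hzU ha1 ih.2, step ((le_sup_right : _ ≤ X) hb) hzU hwU hb1 ih.1⟩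
  obtain ⟨⟨r, hr, h1⟩, -⟩ := key n
  rw [hn, mem_bot] at h1
  have h2 : z ∈ Rr (S : Subgroup G) P H := by
    rw [mul_eq_one_iff_eq_inv.mp h1]
    exact inv_mem hr
  exact hzY (D.F_le_Y hk (D.R_inf hh h2 hz))

end HypF

end Cfsg.Agent.Omega.NOThreeL.RFEnd

end
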