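import Cfsg.Agent.Mrg.Omega.NOThreeL.RA.Pair
import Cfsg.Agent.Mrg.Omega.NOThreeL.RFourFrame


/-!
# NO-3L, `R ∩ (A)`, one natural factor, `|Z/E| = q` (#19087): `HypQ` from the FF theorem

`M : NatK F S P V_P (cv S P) 1` and `hl : ∀ x, ∃ z ∈ Z, M.e z 0 = (x, 0)` (`|Z/E| = |F|`, no field automorphisms).

* `exists_up_of_norm` : an additive map of `F²` which fixes the line `{(x, 0)}` pointwise, normalises `SL₂(F)` and has
  2-power order is an `up b`;
* `act_S` : every `s ∈ S` acts as `up b` on `V / C_V(O²(P))`; `cv_eq` : `C_V(O²(P)) = C_Z(P)`; `line_iff`;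
* **`hypQ`**, **`exists_hypQ`** : `V`, `U_H` not commuting implies `HypQ (fun g => M.e g 0) S P H₁` for some long `H₁ ≤ H`;
* `hl_of_card` : the condition on `Z` from `|F| ≤ |Z : C_Z(P)|`.
-/

set_option autoImplicit false
set_option linter.unusedSectionVars false

namespace Cfsg.Agent.Omega.NOThreeL.RA

open Subgroup Cfsg Cfsg.Agent.Omega.MinPar
open Cfsg.Agent.ZN (zc zl o2)
open Cfsg.Agent.Omega.Frame Cfsg.Agent.Omega.FrameNOFF
open Cfsg.Agent.Omega.Node.NO3L Cfsg.Agent.Omega.NOThreeL.Basic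
open Cfsg.Agent.Omega.NoFF.Basic (conj_conj mem_conj conj_le_iff conj_le_centralizer comm_symm comm_mono)
open Cfsg.Agent.Omega.NOThreeL.Pair (conj_eq_of_mem conj_le_normalizer zl_abel)
open Cfsg.Agent.MinSimple.VModule (zl_le zc_le_zl le_normalizer_zl zc_le o2_isPGroup le_normalizer_o2 le_o2
  normalizer_le_normalizer_zc mem_zc le_normalizer_oddGen oddGen oddGen_le)
open Cfsg.Agent.Omega.NOThreeL (mem_normalizer_of_conj_eq le_normalizer_of mem_sup_of_comm)
open Cfsg.Agent.Omega.NOThreeL.RTools (conj_mem_of_mem isLong)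
open Cfsg.Agent.Omega.NOThreeL.AOne (Act ap_up_0 ap_lo_1)
open Cfsg.Agent.Omega.NOThreeL.RFour (mem_centralizer_of_act co)
open Cfsg.Agent.Omega.FFThm (NatK ActsSL Off)
open Cfsg.Agent.Omega.FrameFF (cv)
open Cfsg.Agent.Lib.SL2Mat
open Cfsg.Agent.Omega.NatPair (ap ap_mul ap_one ap_inv_ap)
open scoped Pointwise commutatorElement

universe u

section lin

variable {F : Type} [Field F]

theorem ap_zero' (B : Matrix.SpecialLinearGroup (Fin 2) F) (x : Fin 2 → F) :
    ap B x 0 = ent B 0 0 * x 0 + ent B 0 1 * x 1 := by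
  rw [NatPair.ap_eq_mulVec, Matrix.mulVec, dotProduct, Fin.sum_univ_two]
  rfl

theorem ap_one' (B : Matrix.SpecialLinearGroup (Fin 2) F) (x : Fin 2 → F) :
    ap B x 1 = ent B 1 0 * x 0 + ent B 1 1 * x 1 := by
  rw [NatPair.ap_eq_mulVec, Matrix.mulVec, dotProduct, Fin.sum_univ_two]
  rfl

/-- An additive map of `F²` which fixes the line `{(x, 0)}` pointwise, normalises `SL₂(F)` and has 2-power order. -/
theorem exists_up_of_norm [CharP F 2] (φ : (Fin 2 → F) → Fin 2 → F) (hadd : ∀ x y, φ (x + y) = φ x + φ y)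
    (hfix : ∀ x : F, φ ![x, 0] = ![x, 0])
    (hnorm : ∀ A : Matrix.SpecialLinearGroup (Fin 2) F, ∃ B : Matrix.SpecialLinearGroup (Fin 2) F,
      ∀ x, φ (ap A x) = ap B (φ x))
    (h2 : ∃ n : ℕ, ∀ x, φ^[2 ^ n] x = x) : ∃ b, ∀ x, φ x = ap (up b) x := by
  -- the second coordinate
  obtain ⟨B, hB⟩ := hnorm (up 1)
  have hB1 : ap B ![1, 0] = ![1, 0] := by
    have h := hB ![1, 0]
    rw [hfix] at h
    rw [← h]
    have h3 : ap (up (1 : F)) ![1, 0] = ![1, 0] := by
      funext i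
      fin_cases i
      · change ap (up (1 : F)) ![1, 0] 0 = 1
        rw [ap_up_0]
        simp
      · change ap (up (1 : F)) ![1, 0] 1 = 0
        rw [ap_up_1]
        simp
    rw [h3, hfix]
  have hB00 : ent B 0 0 = 1 := by
    have h := congrFun hB1 0
    rw [ap_zero'] at h
    simpa using h
  have h1 : ∀ x, x 1 = ent B 0 1 * φ x 1 := by
    intro x
    have h := congrFun (hB x) 0
    have h3 : ap (up (1 : F)) x = x + ![x 1, 0] := by
      funext i
      fin_cases i
      · change ap (up (1 : F)) x 0 = x 0 + x 1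
        rw [ap_up_0, one_mul]
      · change ap (up (1 : F)) x 1 = x 1 + 0
        rw [ap_up_1, add_zero]
    rw [h3, hadd, hfix, ap_zero', hB00, one_mul] at h
    change φ x 0 + x 1 = _ at h
    exact add_left_cancel h
  have hne : ent B 0 1 ≠ 0 := by
    intro h
    have h3 := h1 ![0, 1]
    rw [h, zero_mul] at h3
    exact one_ne_zero h3
  set d := (ent B 0 1)⁻¹ with hd
  have h3 : ∀ x, φ x 1 = d * x 1 := by
    intro x
    rw [h1 x, hd, inv_mul_cancel_left₀ hne]
  have h4 : ∀ n : ℕ, ∀ x, φ^[n] x 1 = d ^ n * x 1 := by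
    intro n
    induction n with
    | zero => intro x; simp
    | succ n ih =>
      intro x
      rw [Function.iterate_succ_apply', h3, ih x, pow_succ]
      ring
  have hd1 : d = 1 := by
    obtain ⟨n, hn⟩ := h2
    have h5 := h4 (2 ^ n) ![0, 1]
    rw [hn] at h5
    have h6 : d ^ 2 ^ n = 1 := by simpa using h5.symm
    have h7 : (d - 1) ^ 2 ^ n = 0 := by
      rw [sub_pow_char_pow, one_pow, h6, sub_self]
    have h8 := eq_zero_of_pow_eq_zero h7
    exact sub_eq_zero.mp h8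
  have h5 : ∀ x, φ x 1 = x 1 := fun x => by rw [h3, hd1, one_mul]
  -- the first coordinate
  obtain ⟨C, hC⟩ := hnorm (lo 1)
  have h6 : ∀ x : F, φ ![0, x] 0 = (ent C 0 0 - 1) * x := by
    intro x
    have h := congrFun (hC ![x, 0]) 0
    have h7 : ap (lo (1 : F)) ![x, 0] = ![x, 0] + ![0, x] := by
      funext i
      fin_cases i
      · change ap (lo (1 : F)) ![x, 0] 0 = x + 0
        rw [ap_zero', lo_00, lo_01]
        simp
      · change ap (lo (1 : F)) ![x, 0] 1 = 0 + x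
        rw [ap_lo_1]
        simp
    rw [h7, hadd, hfix, ap_zero'] at h
    change x + φ ![0, x] 0 = ent C 0 0 * x + ent C 0 1 * 0 at h
    rw [mul_zero, add_zero] at h
    rw [sub_mul, one_mul, ← h, add_sub_cancel_left]
  refine ⟨ent C 0 0 - 1, fun x => ?_⟩
  have h7 : x = ![x 0, 0] + ![0, x 1] := by
    funext i
    fin_cases i
    · change x 0 = x 0 + 0
      rw [add_zero]
    · change x 1 = 0 + x 1
      rw [zero_add]
  funext i
  fin_cases i
  · change φ x 0 = ap (up (ent C 0 0 - 1)) x 0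
    rw [ap_up_0]
    conv_lhs => rw [h7]
    rw [hadd, hfix]
    change x 0 + φ ![0, x 1] 0 = _
    rw [h6]
  · change φ x 1 = ap (up (ent C 0 0 - 1)) x 1
    rw [ap_up_1, h5]

end lin

section nat

variable {G : Type u} [Group G] [Finite G] {F : Type} [Field F] [Finite F] [CharP F 2]
variable (hc : IsCharacteristicTwoType G) {S : Sylow 2 G} {P H : Subgroup G}
variable (hP : IsParS (S : Subgroup G) P)
variable (M : NatK F (S : Subgroup G) P (zl (S : Subgroup G) P) (cv (S : Subgroup G) P) 1)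

omit [Finite G] [Finite F] [CharP F 2] in
theorem P_cv : P ≤ normalizer (cv (S : Subgroup G) P : Set G) := by
  refine le_normalizer_of fun g hg x hx => mem_inf.mpr ⟨conj_mem_of_mem (le_normalizer_zl _ _ hg) (mem_inf.mp hx).1, ?_⟩
  rw [mem_centralizer_iff]
  intro y hy
  have hy' : g⁻¹ * y * g ∈ oddGen P := by
    have h1 := conj_mem_of_mem (le_normalizer_oddGen P (inv_mem hg)) hy
    rwa [inv_inv] at h1
  have h1 := mem_centralizer_iff.mp (mem_inf.mp hx).2 _ hy'
  calc y * (g * x * g⁻¹) = g * ((g⁻¹ * y * g) * x) * g⁻¹ := by group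
    _ = g * (x * (g⁻¹ * y * g)) * g⁻¹ := by rw [h1]
    _ = g * x * g⁻¹ * y := by group

include M

omit [Finite G] [Finite F] [CharP F 2] in
theorem mulM {v w : G} (hv : v ∈ zl (S : Subgroup G) P) (hw : w ∈ zl (S : Subgroup G) P) :
    M.e (v * w) 0 = M.e v 0 + M.e w 0 := congrFun (M.mul v hv w hw) 0

omit [Finite G] [Finite F] [CharP F 2] in
theorem kerM {v : G} (hv : v ∈ zl (S : Subgroup G) P) : M.e v 0 = 0 ↔ v ∈ cv (S : Subgroup G) P := by
  rw [← M.ker v hv]
  constructor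
  · intro h
    funext i
    rw [Subsingleton.elim i 0]
    exact h
  · intro h
    rw [h]
    rfl

omit [Finite G] [Finite F] [CharP F 2] in
theorem surjM (x : Fin 2 → F) : ∃ v ∈ zl (S : Subgroup G) P, M.e v 0 = x := by
  obtain ⟨v, hv, h⟩ := M.surj fun _ => x
  exact ⟨v, hv, by rw [h]⟩

omit [Finite G] [Finite F] [CharP F 2] in
/-- elements with the same coordinates differ by an element of `C_V(O²(P))` -/
theorem eqM {v w : G} (hv : v ∈ zl (S : Subgroup G) P) (hw : w ∈ zl (S : Subgroup G) P)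
    (h : M.e v 0 = M.e w 0) : v * w⁻¹ ∈ cv (S : Subgroup G) P := by
  rw [← kerM M (mul_mem hv (inv_mem hw))]
  have h1 := mulM M (mul_mem hv (inv_mem hw)) hw
  rw [inv_mul_cancel_right, h] at h1
  exact right_eq_add.mp h1

omit [Finite G] [Finite F] [CharP F 2] in
/-- the action of `g ∈ P` on `V / C_V(O²(P))` -/
theorem exists_phi {g : G} (hg : g ∈ P) : ∃ φ : (Fin 2 → F) → Fin 2 → F,
    (∀ v ∈ zl (S : Subgroup G) P, M.e (g * v * g⁻¹) 0 = φ (M.e v 0)) ∧ (∀ x y, φ (x + y) = φ x + φ y) ∧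
    ∀ A : Matrix.SpecialLinearGroup (Fin 2) F, ∃ B : Matrix.SpecialLinearGroup (Fin 2) F,
      ∀ x, φ (ap A x) = ap B (φ x) := by
  classical
  choose r hr hrx using surjM M
  have hgV : ∀ {v}, v ∈ zl (S : Subgroup G) P → g * v * g⁻¹ ∈ zl (S : Subgroup G) P :=
    fun hv => conj_mem_of_mem (le_normalizer_zl _ _ hg) hv
  have h1 : ∀ v ∈ zl (S : Subgroup G) P, M.e (g * v * g⁻¹) 0 = M.e (g * r (M.e v 0) * g⁻¹) 0 := by
    intro v hv
    have h2 := eqM M hv (hr (M.e v 0)) (hrx (M.e v 0)).symm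
    have h3 := conj_mem_of_mem (P_cv hg) h2
    have e1 : g * v * g⁻¹ = (g * (v * (r (M.e v 0))⁻¹) * g⁻¹) * (g * r (M.e v 0) * g⁻¹) := by group
    have h4 : g * (v * (r (M.e v 0))⁻¹) * g⁻¹ ∈ zl (S : Subgroup G) P := hgV (mul_mem hv (inv_mem (hr _)))
    rw [e1, mulM M h4 (hgV (hr _)), (kerM M h4).mpr h3, zero_add]
  refine ⟨fun x => M.e (g * r x * g⁻¹) 0, h1, ?_, ?_⟩
  · intro x y
    have h2 : M.e (r x * r y) 0 = x + y := by rw [mulM M (hr x) (hr y), hrx, hrx]
    have h3 := h1 _ (mul_mem (hr x) (hr y))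
    rw [h2] at h3
    change M.e (g * r (x + y) * g⁻¹) 0 = _
    rw [← h3]
    have e1 : g * (r x * r y) * g⁻¹ = (g * r x * g⁻¹) * (g * r y * g⁻¹) := by group
    rw [e1, mulM M (hgV (hr x)) (hgV (hr y))]
  · intro A
    obtain ⟨k, hk, hkA⟩ := M.lift fun _ => A
    obtain ⟨B, hB⟩ := M.norm g hg k hk (fun _ => A) hkA.1
    refine ⟨B 0, fun x => ?_⟩
    have h2 := hkA.1 (r x) (hr x) 0
    rw [hrx] at h2
    have hkr : k * r x * k⁻¹ ∈ zl (S : Subgroup G) P := conj_mem_of_mem (le_normalizer_zl _ _ hk) (hr x)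
    have h3 := h1 _ hkr
    rw [h2] at h3
    change M.e (g * r (ap A x) * g⁻¹) 0 = ap (B 0) (M.e (g * r x * g⁻¹) 0)
    have e1 : g * (k * r x * k⁻¹) * g⁻¹ = g * k * g⁻¹ * (g * r x * g⁻¹) * (g * k * g⁻¹)⁻¹ := by group
    rw [← h3, ← hB _ (hgV (hr x)) 0, e1]

omit [Finite F] in
/-- **every `s ∈ S` acts as `up b`**, if `Z` covers the line -/
theorem act_S (hPS : (S : Subgroup G) ≤ P) (hl : ∀ x, ∃ z ∈ zc (S : Subgroup G), M.e z 0 = ![x, 0]) {s : G}
    (hs : s ∈ (S : Subgroup G)) : ∃ b, Act (co M) (zl (S : Subgroup G) P) s (up b) := by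
  obtain ⟨φ, h1, h2, h3⟩ := exists_phi M (hPS hs)
  obtain ⟨b, hb⟩ := exists_up_of_norm φ h2 (fun x => by
    obtain ⟨z, hz, h⟩ := hl x
    have h4 := h1 z (zc_le_zl _ _ hz)
    rw [h, (mem_zc.mp hz).2.1 s hs, mul_inv_cancel_right, h] at h4
    exact h4.symm) h3 (by
    obtain ⟨n, hn⟩ := S.isPGroup' ⟨s, hs⟩
    refine ⟨n, ?_⟩
    have h4 : ∀ m : ℕ, ∀ v ∈ zl (S : Subgroup G) P, φ^[m] (M.e v 0) = M.e (s ^ m * v * (s ^ m)⁻¹) 0 := by
      intro m
      induction m with
      | zero => intro v _; simp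
      | succ m ih =>
        intro v hv
        have h5 : s ^ m * v * (s ^ m)⁻¹ ∈ zl (S : Subgroup G) P :=
          conj_mem_of_mem (le_normalizer_zl _ _ (pow_mem (hPS hs) m)) hv
        have e1 : s * (s ^ m * v * (s ^ m)⁻¹) * s⁻¹ = s ^ (m + 1) * v * (s ^ (m + 1))⁻¹ := by
          rw [pow_succ']
          group
        rw [Function.iterate_succ_apply', ih v hv, ← h1 _ h5, e1]
    intro x
    obtain ⟨v, hv, rfl⟩ := surjM M x
    have hn' : s ^ 2 ^ n = 1 := congrArg Subtype.val hn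
    rw [h4 _ v hv, hn']
    simp)
  exact ⟨b, fun v hv => (h1 v hv).trans (hb _)⟩

include hc hP

/-- `S` centralises `C_V(O²(P))` -/
theorem S_cv (hl : ∀ x, ∃ z ∈ zc (S : Subgroup G), M.e z 0 = ![x, 0]) {s d : G}
    (hs : s ∈ (S : Subgroup G)) (hd : d ∈ cv (S : Subgroup G) P) : s * d = d * s := by
  obtain ⟨b, hb⟩ := act_S M hP.le hl hs
  obtain ⟨t, ht, htb⟩ := M.unip fun _ => b
  have htP := hP.le ht
  have htV : t ∈ normalizer (zl (S : Subgroup G) P : Set G) := le_normalizer_zl _ _ htP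
  have ht1 : Act (co M) (zl (S : Subgroup G) P) t (up b) := fun v hv => htb.1 v hv 0
  have h1 : Act M.natOver.e (zl (S : Subgroup G) P) (s * t⁻¹) 1 := by
    have h2 := hb.mul (ht1.inv htV) (inv_mem htV)
    rwa [mul_inv_cancel] at h2
  have h2 := mem_centralizer_of_act hc S hP M.natOver (mul_mem (hP.le hs) (inv_mem htP)) h1
  have h3 := mem_centralizer_iff.mp h2 d (mem_inf.mp hd).1
  have h4 := htb.2 d hd
  calc s * d = (s * t⁻¹) * (t * d) := by group
    _ = (s * t⁻¹) * (d * t) := by rw [h4]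
    _ = ((s * t⁻¹) * d) * t := by group
    _ = (d * (s * t⁻¹)) * t := by rw [h3]
    _ = d * s := by group

/-- **`C_V(O²(P)) = C_Z(P)`** -/
theorem cv_eq (hl : ∀ x, ∃ z ∈ zc (S : Subgroup G), M.e z 0 = ![x, 0]) :
    cv (S : Subgroup G) P = zc (S : Subgroup G) ⊓ centralizer (P : Set G) := by
  apply le_antisymm
  · intro d hd
    have hdV := (mem_inf.mp hd).1
    refine mem_inf.mpr ⟨mem_zc.mpr ⟨IsParS.zl_le_S hc hP hdV, fun s hs => S_cv hc hP M hl hs hd, ?_⟩, ?_⟩
    · exact (zl_abel hc S hP.isLoc).2 d hdV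
    · have h1 : oddGen P ⊔ (S : Subgroup G) = P :=
        NoFF.LinesPlug.oddGen_sup hP.le (MinSimple.Basic.not_dvd_relIndex S hP.le)
      have h2 : oddGen P ⊔ (S : Subgroup G) ≤ centralizer ({d} : Set G) := by
        refine sup_le (fun y hy => ?_) fun s hs => ?_
        · rw [mem_centralizer_iff]
          rintro _ rfl
          exact (mem_centralizer_iff.mp (mem_inf.mp hd).2 y hy).symm
        · rw [mem_centralizer_iff]
          rintro _ rfl
          exact (S_cv hc hP M hl hs hd).symm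
      rw [h1] at h2
      rw [mem_centralizer_iff]
      intro p hp
      exact (mem_centralizer_iff.mp (h2 hp) d rfl).symm
  · refine le_inf (inf_le_left.trans (zc_le_zl _ _)) (inf_le_right.trans (centralizer_le (oddGen_le P)))

/-- the line is `Z` -/
theorem line_iff (hl : ∀ x, ∃ z ∈ zc (S : Subgroup G), M.e z 0 = ![x, 0]) {v : G}
    (hv : v ∈ zl (S : Subgroup G) P) : M.e v 0 1 = 0 ↔ v ∈ zc (S : Subgroup G) := by
  constructor
  · intro h
    obtain ⟨z, hz, hzx⟩ := hl (M.e v 0 0)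
    have h1 : M.e v 0 = M.e z 0 := by
      rw [hzx]
      funext i
      fin_cases i
      · rfl
      · exact h
    have h2 := eqM M hv (zc_le_zl _ _ hz) h1
    rw [cv_eq hc hP M hl] at h2
    have h3 := mul_mem (mem_inf.mp h2).1 hz
    rwa [inv_mul_cancel_right] at h3
  · intro h
    obtain ⟨t, ht, htb⟩ := M.unip fun _ => (1 : F)
    have h1 := congrFun (htb.1 v hv 0) 0
    rw [(mem_zc.mp h).2.1 t ht, mul_inv_cancel_right, ap_up_0, one_mul] at h1
    exact left_eq_add.mp h1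

/-- **`HypQ`** -/
theorem hypQ (D : Data (S : Subgroup G)) (hl : ∀ x, ∃ z ∈ zc (S : Subgroup G), M.e z 0 = ![x, 0])
    (hH : IsLong (S : Subgroup G) H) (hne : ¬ zl (S : Subgroup G) P ≤ centralizer (zl (S : Subgroup G) H : Set G))
    (hmin : ∀ H₁ : Subgroup G, IsLong (S : Subgroup G) H₁ → H₁ ≤ H → H₁ ≠ H →
      zl (S : Subgroup G) P ≤ centralizer (zl (S : Subgroup G) H₁ : Set G)) : HypQ (co M) S P H := by
  have h0 : HypQ0 (co M) S P H :=
    { hc := hc
      data := D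
      par := hP
      long := hH
      ne := hne
      min := hmin
      mul := fun v hv w hw => mulM M hv hw
      surj := surjM M
      ker := fun v hv => by rw [← cv_eq hc hP M hl]; exact kerM M hv
      line := fun v hv => line_iff hc hP M hl hv
      lift := fun A => by
        obtain ⟨g, hg, h⟩ := M.lift fun _ => A
        exact ⟨g, hg, fun v hv => h.1 v hv 0⟩
      up1 := fun u hu => act_S M hP.le hl (IsLong.zl_le_S hc hH hu)
      cent := fun g hg h => mem_centralizer_of_act hc S hP M.natOver hg h }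
  exact h0.full

/-- **`HypQ` for some long `H₁ ≤ H`** -/
theorem exists_hypQ (D : Data (S : Subgroup G)) (hl : ∀ x, ∃ z ∈ zc (S : Subgroup G), M.e z 0 = ![x, 0])
    (hH : IsLong (S : Subgroup G) H) (hne : ¬ zl (S : Subgroup G) P ≤ centralizer (zl (S : Subgroup G) H : Set G)) :
    ∃ H₁ ≤ H, HypQ (co M) S P H₁ := by
  classical
  have h1 : ∃ n, ∃ K : Subgroup G, IsLong (S : Subgroup G) K ∧ K ≤ H ∧
      ¬ zl (S : Subgroup G) P ≤ centralizer (zl (S : Subgroup G) K : Set G) ∧ Nat.card K = n :=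
    ⟨_, H, hH, le_rfl, hne, rfl⟩
  obtain ⟨K, hK, hKH, hKne, hn⟩ := Nat.find_spec h1
  refine ⟨K, hKH, hypQ hc hP M D hl hK hKne fun H₁ h2 h3 h4 => ?_⟩
  by_contra hcon
  have h5 : Nat.card H₁ < Nat.card K := by
    refine lt_of_le_of_ne (Nat.card_le_card_of_injective _ (Subgroup.inclusion_injective h3)) fun h6 => h4 ?_
    exact Subgroup.eq_of_le_of_card_ge h3 h6.ge
  rw [hn] at h5
  exact Nat.find_min h1 h5 ⟨H₁, h2, h3.trans hKH, hcon, rfl⟩

omit hc in
/-- the condition on `Z` from `|F| ≤ |Z : C_Z(P)|` -/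
theorem hl_of_card (h : Nat.card F ≤ (zc (S : Subgroup G) ⊓ centralizer (P : Set G)).relIndex (zc (S : Subgroup G))) :
    ∀ x, ∃ z ∈ zc (S : Subgroup G), M.e z 0 = ![x, 0] := by
  have hz1 : ∀ z ∈ zc (S : Subgroup G), M.e z 0 1 = 0 := by
    intro z hz
    obtain ⟨t, ht, htb⟩ := M.unip fun _ => (1 : F)
    have h1 := congrFun (htb.1 z (zc_le_zl _ _ hz) 0) 0
    rw [(mem_zc.mp hz).2.1 t ht, mul_inv_cancel_right, ap_up_0, one_mul] at h1
    exact left_eq_add.mp h1
  let φ : zc (S : Subgroup G) →* Multiplicative F :=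
    MonoidHom.mk' (fun a => Multiplicative.ofAdd (M.e a 0 0)) fun a c => by
      rw [← ofAdd_add]
      exact congrArg Multiplicative.ofAdd (congrFun (mulM M (zc_le_zl _ _ a.2) (zc_le_zl _ _ c.2)) 0)
  have hker : φ.ker ≤ (zc (S : Subgroup G) ⊓ centralizer (P : Set G)).subgroupOf (zc (S : Subgroup G)) := by
    rintro ⟨a, ha⟩ h1
    rw [MonoidHom.mem_ker] at h1
    have h2 : M.e a 0 0 = 0 := h1
    rw [mem_subgroupOf]
    have h3 : a ∈ cv (S : Subgroup G) P := by
      rw [← kerM M (zc_le_zl _ _ ha)]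
      funext i
      fin_cases i
      · exact h2
      · exact hz1 a ha
    refine mem_inf.mpr ⟨ha, ?_⟩
    have h4 : oddGen P ⊔ (S : Subgroup G) = P :=
      NoFF.LinesPlug.oddGen_sup hP.le (MinSimple.Basic.not_dvd_relIndex S hP.le)
    have h5 : oddGen P ⊔ (S : Subgroup G) ≤ centralizer ({a} : Set G) := by
      refine sup_le (fun y hy => ?_) fun s hs => ?_
      · rw [mem_centralizer_iff]
        rintro _ rfl
        exact (mem_centralizer_iff.mp (mem_inf.mp h3).2 y hy).symm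
      · rw [mem_centralizer_iff]
        rintro _ rfl
        exact ((mem_zc.mp ha).2.1 s hs).symm
    rw [h4] at h5
    change a ∈ centralizer (P : Set G)
    rw [mem_centralizer_iff]
    intro p hp
    exact (mem_centralizer_iff.mp (h5 hp) a rfl).symm
  have h5 : φ.range = ⊤ := by
    have h6 : Nat.card (Multiplicative F) = Nat.card F := rfl
    refine Subgroup.eq_top_of_card_eq _ (le_antisymm (Subgroup.card_le_card_group _) ?_)
    rw [← index_ker, h6]
    refine h.trans ?_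
    refine Nat.le_of_dvd (Nat.pos_of_ne_zero FiniteIndex.index_ne_zero) ?_
    exact index_dvd_of_le hker
  intro x
  have h6 : Multiplicative.ofAdd x ∈ φ.range := by rw [h5]; exact mem_top _
  obtain ⟨⟨a, ha⟩, h7⟩ := h6
  refine ⟨a, ha, ?_⟩
  funext i
  fin_cases i
  · exact h7
  · exact hz1 a ha

end nat

end Cfsg.Agent.Omega.NOThreeL.RA
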