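import Cfsg.Agent.Mrg.Omega.NOThreeL.RA.Pair
import Cfsg.Agent.Omega.NOThreeL.RA.OddNorm


/-!
# NO-3L, `R ∩ (A)`, one natural factor, `|Z/E| = q > 2` (#19087, helper162 / helper761): (2), the shape

`D : HypQ e S P H`, `2 < q = |F|`, `E = C_Z(P) ≠ 1`.

* `Eps ε` : `ε` is the projection of `Z` onto `E` with `N_P(Z)`-invariant kernel `Z_t = [Z, N_P(Z)]`;
* `Eps.exists_g` : `ε [v, u] = g (v₁² β(u))` for an additive `g : F → E`;
* `Eps.false_of_split` : `g = 0` is impossible (fusion, coprime action);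
* **`shape`** : `|E| = q`, `Z = F × E`.
-/

set_option autoImplicit false
set_option linter.unusedSectionVars false

namespace Cfsg.Agent.Omega.NOThreeL.RA

open Subgroup Cfsg Cfsg.Agent.Omega.MinPar
open Cfsg.Agent.ZN (zc zl o2)
open Cfsg.Agent.Omega.Frame Cfsg.Agent.Omega.FrameNOFF
open Cfsg.Agent.Omega.Node.NO3L Cfsg.Agent.Omega.NOThreeL.Basic
open Cfsg.Agent.Omega.NoFF.Basic (conj_conj mem_conj conj_le_iff conj_le_centralizer comm_symm comm_mono)
open Cfsg.Agent.Omega.NOThreeL.Pair (conj_eq_of_mem conj_le_normalizer zl_abel)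
open Cfsg.Agent.MinSimple.VModule (zl_le zc_le_zl le_normalizer_zl zc_le o2_isPGroup le_normalizer_o2 le_o2
  normalizer_le_normalizer_zc)
open Cfsg.Agent.Omega.NOThreeL (mem_normalizer_of_conj_eq le_normalizer_of mem_sup_of_comm)
open Cfsg.Agent.Omega.NOThreeL.RTools (cm cm_def cm_mul NN conj_mem_of_mem conj_le_NN le_NN NN_le le_normalizer_NN
  le_sup_inf isLong)
open Cfsg.Agent.Omega.NOThreeL.AOne (Act ap_up_0)
open Cfsg.Agent.Lib.SL2Mat
open Cfsg.Agent.Omega.NatPair (ap ap_mul ap_one ap_inv_ap)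
open scoped Pointwise commutatorElement

universe u

theorem ap_dg_0 {F : Type} [Field F] (b : F) (hb : b ≠ 0) (x : Fin 2 → F) : ap (dg b hb) x 0 = b * x 0 := by
  rw [NatPair.ap_eq_mulVec, Matrix.mulVec, dotProduct, Fin.sum_univ_two]
  change ent (dg b hb) 0 0 * x 0 + ent (dg b hb) 0 1 * x 1 = _
  rw [dg_00, dg_01, zero_mul, add_zero]

theorem ap_dg_1 {F : Type} [Field F] (b : F) (hb : b ≠ 0) (x : Fin 2 → F) : ap (dg b hb) x 1 = b⁻¹ * x 1 := by
  rw [NatPair.ap_eq_mulVec, Matrix.mulVec, dotProduct, Fin.sum_univ_two]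
  change ent (dg b hb) 1 0 * x 0 + ent (dg b hb) 1 1 * x 1 = _
  rw [dg_10, dg_11, zero_mul, zero_add]

theorem exists_ne_zero_one {F : Type} [Field F] (hq : 2 < Nat.card F) : ∃ l : F, l ≠ 0 ∧ l ≠ 1 := by
  classical
  by_contra hcon
  push Not at hcon
  have h1 : Function.Injective (fun x : F => decide (x = 0)) := by
    intro x y hxy
    have hxy' : (x = 0) = (y = 0) := by
      have h2 : decide (x = 0) = decide (y = 0) := hxy
      simpa using h2
    by_cases hx : x = 0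
    · have hy : y = 0 := hxy' ▸ hx
      rw [hx, hy]
    · have hy : y ≠ 0 := fun h => hx (hxy' ▸ h)
      rw [hcon x hx, hcon y hy]
  have h2 := Nat.card_le_card_of_injective _ h1
  rw [Nat.card_eq_fintype_card (α := Bool), Fintype.card_bool] at h2
  omega

/-- `E = C_Z(P)` -/
def Ec {G : Type u} [Group G] (S P : Subgroup G) : Subgroup G := zc S ⊓ centralizer (P : Set G)

/-- `ε` is the projection of `Z` onto `E`, invariant under `N_P(Z)`. -/
structure Eps {G : Type u} [Group G] (S P : Subgroup G) (ε : G → G) : Prop where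
  mem : ∀ z ∈ zc S, ε z ∈ Ec S P
  mul : ∀ z ∈ zc S, ∀ w ∈ zc S, ε (z * w) = ε z * ε w
  inv : ∀ x ∈ P ⊓ normalizer (zc S : Set G), ∀ z ∈ zc S, ε (x * z * x⁻¹) = ε z
  fix : ∀ z ∈ Ec S P, ε z = z

namespace HypQ

variable {G : Type u} [Group G] [Finite G] {F : Type} [Field F] {e : G → Fin 2 → F} {S : Sylow 2 G}
  {P H : Subgroup G} (D : HypQ e S P H)
include D

theorem EZ : Ec (S : Subgroup G) P ≤ zc (S : Subgroup G) := inf_le_left

theorem sqZ {z : G} (hz : z ∈ zc (S : Subgroup G)) : z * z = 1 := D.sqV (D.ZV hz)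

theorem commZ {z w : G} (hz : z ∈ zc (S : Subgroup G)) (hw : w ∈ zc (S : Subgroup G)) : z * w = w * z :=
  D.commV (D.ZV hz) (D.ZV hw)

/-- torus elements -/
theorem exists_tau {l : F} (hl : l ≠ 0) : ∃ t ∈ P ⊓ normalizer (zc (S : Subgroup G) : Set G),
    Act e (zl (S : Subgroup G) P) t (dg l hl) := by
  obtain ⟨t, ht, h⟩ := D.lift (dg l hl)
  refine ⟨t, mem_inf.mpr ⟨ht, ?_⟩, h⟩
  rw [mem_normalizer_iff]
  intro z
  constructor
  · intro hz
    have hzV := D.ZV hz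
    rw [← D.line _ (conj_mem_of_mem (D.PV ht) hzV), h z hzV, ap_dg_1, D.ZV_P hz, mul_zero]
  · intro hz
    have hzV : z ∈ zl (S : Subgroup G) P := (mem_normalizer_iff.mp (D.PV ht) z).mpr (D.ZV hz)
    have h1 := D.ZV_P hz
    rw [h z hzV, ap_dg_1] at h1
    rw [← D.line _ hzV]
    exact (mul_eq_zero.mp h1).resolve_left (inv_ne_zero hl)

theorem odd_cent {X : Subgroup G} (hX : (S : Subgroup G) ≤ X) :
    ¬ 2 ∣ (centralizer (zc (S : Subgroup G) : Set G)).relIndex X := by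
  intro h
  exact MinSimple.Basic.not_dvd_relIndex S hX (h.trans (relIndex_dvd_of_le_left X (le_CZ S)))

/-- `C_Z(N_P(Z)) = E` -/
theorem mem_E_of_fixed (hq : 2 < Nat.card F) {z : G} (hz : z ∈ zc (S : Subgroup G))
    (h : ∀ x ∈ P ⊓ normalizer (zc (S : Subgroup G) : Set G), x * z * x⁻¹ = z) : z ∈ Ec (S : Subgroup G) P := by
  obtain ⟨l, hl0, hl1⟩ := exists_ne_zero_one hq
  obtain ⟨t, ht, hta⟩ := D.exists_tau hl0
  have h7 := congrArg (fun x => e x 0) (h t ht)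
  change e (t * z * t⁻¹) 0 = e z 0 at h7
  rw [hta _ (D.ZV hz), ap_dg_0] at h7
  have h8 : (l - 1) * e z 0 = 0 := by rw [sub_mul, one_mul, h7, sub_self]
  have h9 : e z 0 = 0 := (mul_eq_zero.mp h8).resolve_left (sub_ne_zero.mpr hl1)
  rw [Ec, ← D.ker _ (D.ZV hz)]
  funext i
  fin_cases i
  · exact h9
  · exact D.ZV_P hz

theorem exists_eps (hq : 2 < Nat.card F) : ∃ ε : G → G, Eps (S : Subgroup G) P ε := by
  have hSX : (S : Subgroup G) ≤ P ⊓ normalizer (zc (S : Subgroup G) : Set G) :=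
    le_inf D.SP ((le_CZ S).trans (centralizer_le_normalizer _))
  obtain ⟨N, h1, h2, h3, h4, h5, -⟩ := odd_norm (Z := zc (S : Subgroup G))
    (X := P ⊓ normalizer (zc (S : Subgroup G) : Set G)) (fun x hx y hy => D.commZ hx hy) (fun x hx => D.sqZ hx)
    inf_le_right (D.odd_cent hSX)
  refine ⟨N, ⟨?_, h2, h3, ?_⟩⟩
  · exact fun z hz => D.mem_E_of_fixed hq (h1 z hz) fun x hx => h4 x hx z hz
  · intro z hz
    refine h5 z (D.EZ hz) fun x hx => ?_
    rw [mem_centralizer_iff.mp (mem_inf.mp hz).2 x (mem_inf.mp hx).1, mul_inv_cancel_right]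

variable {ε : G → G} (he : Eps (S : Subgroup G) P ε)
include he

/-- elements of `Z` are determined by `e z 0` and `ε z` -/
theorem eq_of_coord {z w : G} (hz : z ∈ zc (S : Subgroup G)) (hw : w ∈ zc (S : Subgroup G)) (h0 : e z 0 = e w 0)
    (h1 : ε z = ε w) : z = w := by
  have h2 : z * w ∈ Ec (S : Subgroup G) P := by
    rw [Ec, ← D.ker _ (D.ZV (mul_mem hz hw)), D.mul z (D.ZV hz) w (D.ZV hw)]
    funext i
    fin_cases i
    · change e z 0 + e w 0 = 0
      rw [h0, D.two_eq]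
    · change e z 1 + e w 1 = 0
      rw [D.ZV_P hz, D.ZV_P hw, add_zero]
  have h3 := he.fix _ h2
  rw [he.mul z hz w hw, h1, D.sqZ (D.EZ (he.mem w hw))] at h3
  have h4 : w⁻¹ = w := inv_eq_of_mul_eq_one_left (D.sqZ hw)
  rw [← h4]
  exact mul_eq_one_iff_eq_inv.mp h3.symm

theorem ε_one : ε 1 = 1 := he.fix 1 (one_mem _)

/-- `ε [v, u] = g (v₁² β(u))` -/
theorem exists_g {β : G → F} (hβ : ∀ u ∈ zl (S : Subgroup G) H, Act e (zl (S : Subgroup G) P) u (up (β u)))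
    (hβm : ∀ u ∈ zl (S : Subgroup G) H, ∀ w ∈ zl (S : Subgroup G) H, β (u * w) = β u + β w)
    (hβs : ∀ x, ∃ u ∈ zl (S : Subgroup G) H, β u = x) :
    ∃ g : F → G, (∀ x, g x ∈ Ec (S : Subgroup G) P) ∧ (∀ x y, g (x + y) = g x * g y) ∧
      ∀ v ∈ zl (S : Subgroup G) P, ∀ u ∈ zl (S : Subgroup G) H, e v 1 ≠ 0 → ε (cm v u) = g ((e v 1) ^ 2 * β u) := by
  classical
  obtain ⟨v1, hv1, he1⟩ := D.surj ![0, 1]
  have he1' : e v1 1 = 1 := by rw [he1]; rfl
  choose s hs hsβ using hβs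
  -- `cm w u'` depends only on `e w 1` and `β u'`
  have hdep : ∀ {w w' x x' : G}, w ∈ zl (S : Subgroup G) P → w' ∈ zl (S : Subgroup G) P → x ∈ P → x' ∈ P →
      e w 1 = e w' 1 → (∃ b, Act e (zl (S : Subgroup G) P) x (up b) ∧ Act e (zl (S : Subgroup G) P) x' (up b)) →
      (∀ z ∈ zc (S : Subgroup G), x * z = z * x) → cm w x = cm w' x' := by
    rintro w w' x x' hw hw' hx hx' h1 ⟨b, hb, hb'⟩ hZ
    -- `x` and `x'` agree on `V`
    have h2 : x'⁻¹ * x ∈ centralizer (zl (S : Subgroup G) P : Set G) := by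
      refine D.cent _ (mul_mem (inv_mem hx') hx) ?_
      have h3 := (hb'.inv (D.PV hx')).mul hb (D.PV hx)
      rwa [inv_mul_cancel] at h3
    have h3 : ∀ y ∈ zl (S : Subgroup G) P, x * y * x⁻¹ = x' * y * x'⁻¹ := by
      intro y hy
      have h4 := mem_centralizer_iff.mp h2 y hy
      calc x * y * x⁻¹ = x' * ((x'⁻¹ * x) * y) * x⁻¹ := by group
        _ = x' * (y * (x'⁻¹ * x)) * x⁻¹ := by rw [h4]
        _ = x' * y * x'⁻¹ := by group
    -- `w = w' z`
    have h4 : w'⁻¹ * w ∈ zc (S : Subgroup G) := by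
      rw [← D.line _ (mul_mem (inv_mem hw') hw), D.mul _ (inv_mem hw') _ hw, D.inv_V hw']
      change e w' 1 + e w 1 = 0
      rw [h1, D.two_eq]
    set z := w'⁻¹ * w with hz
    have h5 : w = w' * z := by rw [hz]; group
    have h6 : cm w x = cm w' x := by
      rw [h5, cm_def, cm_def, mul_inv_rev]
      have h7 := hZ z h4
      have h8 := hZ z⁻¹ (inv_mem h4)
      calc w' * z * x * (z⁻¹ * w'⁻¹) * x⁻¹ = w' * (z * x) * z⁻¹ * w'⁻¹ * x⁻¹ := by group
        _ = w' * (x * z) * z⁻¹ * w'⁻¹ * x⁻¹ := by rw [h7]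
        _ = w' * x * w'⁻¹ * x⁻¹ := by group
    rw [h6]
    have h7 : cm w' x = w' * (x * w'⁻¹ * x⁻¹) := by rw [cm_def]; group
    have h8 : cm w' x' = w' * (x' * w'⁻¹ * x'⁻¹) := by rw [cm_def]; group
    rw [h7, h8, h3 _ (inv_mem hw')]
  have hUZ : ∀ u ∈ zl (S : Subgroup G) H, ∀ z ∈ zc (S : Subgroup G), u * z = z * u := fun u hu z hz =>
    zcomm hz (D.US hu)
  refine ⟨fun x => ε (cm v1 (s x)), fun x => he.mem _ (D.VU_Z hv1 (hs x)), ?_, ?_⟩
  · intro x y
    have h1 : cm v1 (s (x + y)) = cm v1 (s x * s y) := by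
      refine hdep hv1 hv1 (D.UP (hs _)) (D.UP (mul_mem (hs x) (hs y))) rfl ⟨x + y, ?_, ?_⟩ (hUZ _ (hs _))
      · have := hβ _ (hs (x + y))
        rwa [hsβ] at this
      · have := hβ _ (mul_mem (hs x) (hs y))
        rwa [hβm _ (hs x) _ (hs y), hsβ, hsβ] at this
    have h2 : cm v1 (s x * s y) = cm v1 (s x) * cm v1 (s y) := by
      have h3 := D.VU_Z hv1 (hs y)
      have h4 : s x * cm v1 (s y) = cm v1 (s y) * s x := hUZ _ (hs x) _ h3
      have e1 : cm v1 (s x * s y) = cm v1 (s x) * (s x * cm v1 (s y) * (s x)⁻¹) := by simp only [cm_def]; group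
      rw [e1, h4, mul_inv_cancel_right]
    change ε (cm v1 (s (x + y))) = ε (cm v1 (s x)) * ε (cm v1 (s y))
    rw [h1, h2, he.mul _ (D.VU_Z hv1 (hs x)) _ (D.VU_Z hv1 (hs y))]
  · intro v hv u hu hne
    set c := e v 1 with hc
    obtain ⟨t, ht, hta⟩ := D.exists_tau hne
    obtain ⟨htP, htN⟩ := mem_inf.mp ht
    have h1 := D.VU_Z hv hu
    have h2 : t * cm v u * t⁻¹ = cm (t * v * t⁻¹) (t * u * t⁻¹) := by simp only [cm_def]; group
    have hvt : t * v * t⁻¹ ∈ zl (S : Subgroup G) P := conj_mem_of_mem (D.PV htP) hv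
    have h3 : cm (t * v * t⁻¹) (t * u * t⁻¹) = cm v1 (s (c ^ 2 * β u)) := by
      refine hdep hvt hv1 (mul_mem (mul_mem htP (D.UP hu)) (inv_mem htP)) (D.UP (hs _)) ?_
        ⟨c ^ 2 * β u, ?_, ?_⟩ ?_
      · rw [hta v hv, ap_dg_1, he1', ← hc, inv_mul_cancel₀ hne]
      · have h4 := (hta.mul (hβ u hu) (D.PV (D.UP hu))).mul (hta.inv (D.PV htP)) (inv_mem (D.PV htP))
        rw [dg_up, mul_inv_cancel_right] at h4
        exact h4
      · have := hβ _ (hs (c ^ 2 * β u))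
        rwa [hsβ] at this
      · intro z hz
        have hz' : t⁻¹ * z * t ∈ zc (S : Subgroup G) := by
          have := conj_mem_of_mem (inv_mem htN) hz
          rwa [inv_inv] at this
        calc t * u * t⁻¹ * z = t * (u * (t⁻¹ * z * t)) * t⁻¹ := by group
          _ = t * ((t⁻¹ * z * t) * u) * t⁻¹ := by rw [hUZ u hu _ hz']
          _ = z * (t * u * t⁻¹) := by group
    change ε (cm v u) = ε (cm v1 (s (c ^ 2 * β u)))
    rw [← h3, ← h2, he.inv t ht _ h1]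

omit D in
/-- `Z_t = ker ε` -/
def Zt (S : Sylow 2 G) (D : HypQ e S P H) (he : Eps (S : Subgroup G) P ε) : Subgroup G where
  carrier := {z | z ∈ zc (S : Subgroup G) ∧ ε z = 1}
  mul_mem' := by
    rintro a b ⟨ha, h1⟩ ⟨hb, h2⟩
    exact ⟨mul_mem ha hb, by rw [he.mul a ha b hb, h1, h2, one_mul]⟩
  one_mem' := ⟨one_mem _, D.ε_one he⟩
  inv_mem' := by
    rintro a ⟨ha, h1⟩
    have h2 : a⁻¹ = a := inv_eq_of_mul_eq_one_left (D.sqZ ha)
    rw [h2]
    exact ⟨ha, h1⟩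

theorem exists_Zt (c : F) : ∃ z ∈ zc (S : Subgroup G), ε z = 1 ∧ e z 0 = c := by
  obtain ⟨x, hx, hxe⟩ := D.surj ![c, 0]
  have hxZ : x ∈ zc (S : Subgroup G) := (D.line x hx).mp (by rw [hxe]; rfl)
  have hE := he.mem x hxZ
  have hEZ := D.EZ hE
  refine ⟨x * ε x, mul_mem hxZ hEZ, ?_, ?_⟩
  · rw [he.mul x hxZ _ hEZ, he.fix _ hE, D.sqZ hEZ]
  · rw [D.mul x hx _ (D.ZV hEZ), (D.ker _ (D.ZV hEZ)).mpr hE, add_zero, hxe]
    rfl

/-- `e z 0 = 0` on `F` only for `z = 1` -/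
theorem F_eq_one {f : G} (hf : f ∈ Fc (S : Subgroup G) H) (h0 : e f 0 = 0) : f = 1 := by
  have hfZ : f ∈ zc (S : Subgroup G) := (mem_inf.mp hf).1
  have h1 : f ∈ Ec (S : Subgroup G) P := by
    rw [Ec, ← D.ker _ (D.ZV hfZ)]
    funext i
    fin_cases i
    · exact h0
    · exact D.ZV_P hfZ
  have h2 : f ∈ Fc (S : Subgroup G) H ⊓ centralizer (P : Set G) := mem_inf.mpr ⟨hf, (mem_inf.mp h1).2⟩
  rw [D.inf_E] at h2
  exact mem_bot.mp h2

theorem F_R : Fc (S : Subgroup G) H ≤ Rr (S : Subgroup G) P H := by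
  rw [← D.R_inf_Z]
  exact inf_le_left

/-! ### the split case -/

section split

variable (hs : ∀ v ∈ zl (S : Subgroup G) P, ∀ u ∈ zl (S : Subgroup G) H, ε (cm v u) = 1)
include hs

theorem split_one {u z : G} (hu : u ∈ zl (S : Subgroup G) H) (huY : u ∉ Yy (S : Subgroup G) P H)
    (hz : z ∈ zc (S : Subgroup G)) (hz1 : ε z = 1) : ∃ v ∈ zl (S : Subgroup G) P, cm v u = z := by
  obtain ⟨β, h1, h2, h3, h4⟩ := D.exists_beta
  have hb : β u ≠ 0 := fun h => huY ((h3 u hu).mp h)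
  obtain ⟨v, hv, hve⟩ := D.surj ![0, (β u)⁻¹ * e z 0]
  refine ⟨v, hv, D.eq_of_coord he (D.VU_Z hv hu) hz ?_ (by rw [hs v hv u hu, hz1])⟩
  rw [D.e_cm hv (D.UP hu) (h1 u hu), hve]
  change β u * ((β u)⁻¹ * e z 0) = e z 0
  rw [mul_inv_cancel_left₀ hb]

theorem split_F {f : G} (hf : f ∈ Fc (S : Subgroup G) H) (h1 : ε f = 1) : f = 1 := by
  by_contra hne
  obtain ⟨β, -, -, h3, h4⟩ := D.exists_beta
  obtain ⟨u, hu, hu1⟩ := h4 1
  have huY : u ∉ Yy (S : Subgroup G) P H := fun h => one_ne_zero (hu1.symm.trans ((h3 u hu).mpr h))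
  obtain ⟨v, hv, h5⟩ := D.split_one he hs hu huY (mem_inf.mp hf).1 h1
  have hvZ : v ∉ zc (S : Subgroup G) := by
    intro h6
    apply hne
    rw [← h5]
    exact cm_eq_one.mpr (zcomm h6 (D.US hu)).symm
  refine D.not_R' (one_mem H) (a := v) (u := u) ?_ ?_ hu ?_ (h5 ▸ D.F_R he hf)
  · rwa [map_one, one_smul]
  · rwa [map_one, one_smul]
  · rwa [map_one, one_smul]

theorem split_conj {h u z : G} (hh : h ∈ H) (hu : u ∈ zl (S : Subgroup G) H)
    (huY : u ∉ MulAut.conj h • Yy (S : Subgroup G) P H) (hz : z ∈ MulAut.conj h • zc (S : Subgroup G))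
    (hz1 : ε (h⁻¹ * z * h) = 1) : ∃ a ∈ MulAut.conj h • zl (S : Subgroup G) P, cm a u = z := by
  rw [mem_conj] at huY hz
  obtain ⟨v, hv, h1⟩ := D.split_one he hs (D.U_conj hh hu) huY hz hz1
  refine ⟨h * v * h⁻¹, ?_, ?_⟩
  · rw [mem_conj]
    have e1 : h⁻¹ * (h * v * h⁻¹) * h = v := by group
    rwa [e1]
  · have e1 : cm (h * v * h⁻¹) u = h * cm v (h⁻¹ * u * h) * h⁻¹ := by simp only [cm_def]; group
    rw [e1, h1]
    group

/-- fusion -/
theorem split_fuse {z1 z2 : G} (h1 : z1 ∈ zc (S : Subgroup G)) (h1' : ε z1 = 1) (h1n : z1 ≠ 1)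
    (h2 : z2 ∈ zc (S : Subgroup G)) (h2' : ε z2 = 1) (h2n : z2 ≠ 1) : ∃ h ∈ H, h * z1 * h⁻¹ = z2 := by
  obtain ⟨k, hk, ho⟩ := D.exists_opp (one_mem H)
  have hY : ∀ {z : G}, z ∈ zc (S : Subgroup G) → ε z = 1 → z ≠ 1 →
      z ∉ MulAut.conj k • Yy (S : Subgroup G) P H := by
    intro z hz hz1 hzn h
    refine hzn (D.split_F he hs (D.inf_F (one_mem H) hk ho ?_ h) hz1)
    rwa [map_one, one_smul]
  have hzU1 := D.ZU h1
  have hzU2 := D.ZU h2
  -- `b ∈ V^k - Z^k`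
  obtain ⟨v0, hv0, hev0⟩ := D.surj ![0, 1]
  have hv0Z : v0 ∉ zc (S : Subgroup G) := by
    intro h4
    have h5 := D.ZV_P h4
    rw [hev0] at h5
    exact one_ne_zero h5
  have e0 : k⁻¹ * (k * v0 * k⁻¹) * k = v0 := by group
  have hb : k * v0 * k⁻¹ ∈ MulAut.conj k • zl (S : Subgroup G) P := by rw [mem_conj, e0]; exact hv0
  have hbZ : k * v0 * k⁻¹ ∉ MulAut.conj k • zc (S : Subgroup G) := by rw [mem_conj, e0]; exact hv0Z
  set b := k * v0 * k⁻¹ with hbdef
  set w := cm b z1 with hw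
  have hwZ : w ∈ MulAut.conj k • zc (S : Subgroup G) := D.cm_conj hk hb hzU1
  have hwU := D.conjZ_le hk hwZ
  have hwR : w ∉ Rr (S : Subgroup G) P H := D.not_R' hk hb hbZ hzU1 (hY h1 h1' h1n)
  have hwY : w ∉ Yy (S : Subgroup G) P H := by
    intro h3
    refine hwR (D.F_R he (D.inf_F hk (one_mem H) ho.symm hwZ ?_))
    rwa [map_one, one_smul]
  have hwε : ε (k⁻¹ * w * k) = 1 := by
    rw [hw, conj_cm]
    rw [mem_conj] at hb
    exact hs _ hb _ (D.U_conj hk hzU1)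
  obtain ⟨v, hv, hv1⟩ := D.split_one he hs hwU hwY (mul_mem h1 h2) (by rw [he.mul _ h1 _ h2, h1', h2', one_mul])
  obtain ⟨b', hb', hb1⟩ := D.split_conj he hs hk hzU2 (hY h2 h2' h2n) hwZ hwε
  refine ⟨b'⁻¹ * v * b, mul_mem (mul_mem (inv_mem (D.conjV_le hk hb')) (D.VH hv)) (D.conjV_le hk hb), ?_⟩
  have f1 : b * z1 * b⁻¹ = w * z1 := by rw [hw, cm_def]; group
  have f2 : v * (w * z1) * v⁻¹ = w * z2 := by
    have h3 : v * z1 = z1 * v := zcomm h1 (D.VS hv)
    have h4 : v * w * v⁻¹ = cm v w * w := by rw [cm_def]; group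
    calc v * (w * z1) * v⁻¹ = (v * w * v⁻¹) * (v * z1 * v⁻¹) := by group
      _ = (v * w * v⁻¹) * z1 := by rw [h3, mul_inv_cancel_right]
      _ = z1 * z2 * w * z1 := by rw [h4, hv1]
      _ = z1 * (z2 * w) * z1 := by group
      _ = z1 * (z1 * (z2 * w)) := by
          have h5 : (z2 * w) * z1 = z1 * (z2 * w) := D.commU (mul_mem hzU2 hwU) hzU1
          rw [mul_assoc z1, h5]
      _ = z2 * w := by rw [← mul_assoc, D.sqZ h1, one_mul]
      _ = w * z2 := D.commU hzU2 hwU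
  have f3 : b'⁻¹ * (w * z2) * b' = z2 := by
    have h3 : b' * z2 * b'⁻¹ = w * z2 := by
      rw [← hb1, cm_def]; group
    rw [← h3]
    group
  calc b'⁻¹ * v * b * z1 * (b'⁻¹ * v * b)⁻¹ = b'⁻¹ * (v * (b * z1 * b⁻¹) * v⁻¹) * b' := by group
    _ = z2 := by rw [f1, f2, f3]

omit hs he in
/-- Burnside in `H` -/
theorem burnside_H {z1 z2 h : G} (h1 : z1 ∈ zc (S : Subgroup G)) (h2 : z2 ∈ zc (S : Subgroup G)) (hh : h ∈ H)
    (h3 : h * z1 * h⁻¹ = z2) : ∃ n ∈ H ⊓ normalizer (zc (S : Subgroup G) : Set G), n * z1 * n⁻¹ = z2 := by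
  have hf : Fact (Nat.Prime 2) := ⟨Nat.prime_two⟩
  have hSH := D.SH
  let T : Sylow 2 H := S.subtype hSH
  have hz1H : z1 ∈ H := hSH (D.ZS h1)
  have hT : ∀ {x : H}, (x : G) ∈ zc (S : Subgroup G) → x ∈ centralizer (T : Set H) := by
    intro x hx
    rw [mem_centralizer_iff]
    intro s hs'
    have h4 : (s : G) ∈ (S : Subgroup G) := hs'
    exact Subtype.ext (zcomm hx h4)
  obtain ⟨n, hn, h4⟩ := T.conj_eq_normalizer_conj_of_mem_centralizer ⟨z1, hz1H⟩ ⟨h, hh⟩⁻¹ (hT h1) (by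
    apply hT
    change (h⁻¹)⁻¹ * z1 * h⁻¹ ∈ _
    rw [inv_inv, h3]
    exact h2)
  have h5 : (h⁻¹)⁻¹ * z1 * h⁻¹ = (n : G)⁻¹ * z1 * n := congrArg Subtype.val h4
  rw [inv_inv, h3] at h5
  refine ⟨(n : G)⁻¹, mem_inf.mpr ⟨inv_mem n.2, ?_⟩, by rw [inv_inv, h5]⟩
  refine inv_mem (normalizer_le_normalizer_zc _ ?_)
  rw [mem_normalizer_iff]
  intro x
  constructor
  · intro hx
    have h6 := (mem_normalizer_iff.mp hn ⟨x, hSH hx⟩).mp hx
    exact h6
  · intro hx
    have h6 : (n : G) * x * (n : G)⁻¹ ∈ H := hSH hx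
    have h7 : x ∈ H := by
      have := H.mul_mem (H.mul_mem (inv_mem n.2) h6) n.2
      have e1 : (n : G)⁻¹ * ((n : G) * x * (n : G)⁻¹) * n = x := by group
      rwa [e1] at this
    have h8 := (mem_normalizer_iff.mp hn ⟨x, h7⟩).mpr hx
    exact h8

/-- `Z = Z_t F` -/
theorem split_dec {z : G} (hz : z ∈ zc (S : Subgroup G)) : ∃ f ∈ Fc (S : Subgroup G) H, ε (z * f) = 1 := by
  have hFZ : Fc (S : Subgroup G) H ≤ zc (S : Subgroup G) := inf_le_left
  let φ : Fc (S : Subgroup G) H → Ec (S : Subgroup G) P := fun f => ⟨ε f, he.mem f (hFZ f.2)⟩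
  have hinj : Function.Injective φ := by
    intro f f' h
    have h1 : ε f = ε f' := congrArg Subtype.val h
    have h2 : ε ((f : G) * f') = 1 := by
      rw [he.mul _ (hFZ f.2) _ (hFZ f'.2), h1, D.sqZ (D.EZ (he.mem _ (hFZ f'.2)))]
    have h3 := D.split_F he hs (mul_mem f.2 f'.2) h2
    have h4 : (f' : G)⁻¹ = f' := inv_eq_of_mul_eq_one_left (D.sqZ (hFZ f'.2))
    apply Subtype.ext
    rw [← h4]
    exact mul_eq_one_iff_eq_inv.mp h3
  have hbij := hinj.bijective_of_nat_card_le D.card_F_eq.ge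
  obtain ⟨f, hf⟩ := hbij.2 ⟨ε z, he.mem z hz⟩
  have h1 : ε f = ε z := congrArg Subtype.val hf
  refine ⟨f, f.2, ?_⟩
  rw [he.mul z hz _ (hFZ f.2), h1, D.sqZ (D.EZ (he.mem z hz))]

/-- **the split case is impossible** -/
theorem false_of_split (hq : 2 < Nat.card F) : Ec (S : Subgroup G) P = ⊥ := by
  have hFZ : Fc (S : Subgroup G) H ≤ zc (S : Subgroup G) := inf_le_left
  have hSN : (S : Subgroup G) ≤ normalizer (zc (S : Subgroup G) : Set G) :=
    (le_CZ S).trans (centralizer_le_normalizer _)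
  obtain ⟨N, n1, n2, n3, n4, n5, -⟩ := odd_norm (Z := zc (S : Subgroup G))
    (X := H ⊓ normalizer (zc (S : Subgroup G) : Set G)) (fun x hx y hy => D.commZ hx hy) (fun x hx => D.sqZ hx)
    inf_le_right (D.odd_cent (le_inf D.SH hSN))
  have nF : ∀ f ∈ Fc (S : Subgroup G) H, N f = f := fun f hf =>
    n5 f (hFZ hf) fun x hx => Fc_conj hf (mem_inf.mp hx).1
  -- `N = 1` on `Z_t`
  have nT : ∀ z ∈ zc (S : Subgroup G), ε z = 1 → N z = 1 := by
    intro z hz hz1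
    by_cases hzn : z = 1
    · rw [hzn]
      exact nF 1 (one_mem _)
    obtain ⟨l, hl0, hl1⟩ := exists_ne_zero_one hq
    obtain ⟨z1, h1, h1', h1e⟩ := D.exists_Zt he (l * e z 0)
    have hez : e z 0 ≠ 0 := by
      intro h
      apply hzn
      refine D.eq_of_coord he hz (one_mem _) ?_ (by rw [hz1, D.ε_one he])
      rw [h, D.e_one]
      rfl
    have h1n : z1 ≠ 1 := by
      rintro rfl
      rw [D.e_one] at h1e
      exact mul_ne_zero hl0 hez h1e.symm
    have h2 : z1 * z ∈ zc (S : Subgroup G) := mul_mem h1 hz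
    have h2' : ε (z1 * z) = 1 := by rw [he.mul _ h1 _ hz, h1', hz1, one_mul]
    have h2n : z1 * z ≠ 1 := by
      intro h
      have h3 : e (z1 * z) 0 = 0 := by rw [h, D.e_one]; rfl
      rw [D.mul _ (D.ZV h1) _ (D.ZV hz)] at h3
      change e z1 0 + e z 0 = 0 at h3
      rw [h1e] at h3
      have h4 : (l - 1) * e z 0 = 0 := by
        have h5 := D.two_eq (e z 0)
        linear_combination h3 - h5
      exact (mul_ne_zero (sub_ne_zero.mpr hl1) hez) h4
    obtain ⟨h, hh, h3⟩ := D.split_fuse he hs h1 h1' h1n h2 h2' h2n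
    obtain ⟨n, hn, h4⟩ := D.burnside_H h1 h2 hh h3
    have h5 : N (z1 * z) = N z1 := by rw [← h4, n3 n hn z1 h1]
    rw [n2 _ h1 _ hz] at h5
    exact mul_eq_left.mp h5
  have nK : ∀ z ∈ zc (S : Subgroup G), N z = 1 → ε z = 1 := by
    intro z hz h
    obtain ⟨f, hf, h1⟩ := D.split_dec he hs hz
    have h2 := nT _ (mul_mem hz (hFZ hf)) h1
    rw [n2 _ hz _ (hFZ hf), h, one_mul, nF f hf] at h2
    rw [h2, mul_one] at h1
    exact h1
  -- `X = ⟨N_P(Z), N_H(Z)⟩`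
  set X : Subgroup G := (P ⊓ normalizer (zc (S : Subgroup G) : Set G)) ⊔ (H ⊓ normalizer (zc (S : Subgroup G) : Set G))
    with hX
  have hXN : X ≤ normalizer (zc (S : Subgroup G) : Set G) := sup_le inf_le_right inf_le_right
  obtain ⟨M, m1, m2, m3, m4, m5, m6⟩ := odd_norm (Z := zc (S : Subgroup G)) (X := X)
    (fun x hx y hy => D.commZ hx hy) (fun x hx => D.sqZ hx) hXN
    (D.odd_cent ((le_inf D.SH hSN).trans le_sup_right))
  have hinvZ : ∀ {z : G}, z ∈ zc (S : Subgroup G) → z⁻¹ = z := fun hz => inv_eq_of_mul_eq_one_left (D.sqZ hz)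
  have hconj : ∀ {x z : G}, x ∈ normalizer (zc (S : Subgroup G) : Set G) → z ∈ zc (S : Subgroup G) →
      x * z * x⁻¹ ∈ zc (S : Subgroup G) := fun hx hz => conj_mem_of_mem hx hz
  let K : Subgroup G :=
    { carrier := {x | x ∈ normalizer (zc (S : Subgroup G) : Set G) ∧
        ∀ z ∈ zc (S : Subgroup G), x * z * x⁻¹ * z⁻¹ ∈ Zt S D he}
      mul_mem' := by
        rintro x y ⟨hx, h1⟩ ⟨hy, h2⟩
        refine ⟨mul_mem hx hy, fun z hz => ?_⟩
        have e1 : x * y * z * (x * y)⁻¹ * z⁻¹ =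
            (x * (y * z * y⁻¹) * x⁻¹ * (y * z * y⁻¹)⁻¹) * (y * z * y⁻¹ * z⁻¹) := by group
        rw [e1]
        exact mul_mem (h1 _ (hconj hy hz)) (h2 z hz)
      one_mem' := ⟨one_mem _, fun z _ => by
        have e1 : 1 * z * (1 : G)⁻¹ * z⁻¹ = 1 := by group
        rw [e1]; exact one_mem _⟩
      inv_mem' := by
        rintro x ⟨hx, h1⟩
        refine ⟨inv_mem hx, fun z hz => ?_⟩
        have h2 : x⁻¹ * z * x ∈ zc (S : Subgroup G) := by
          have := hconj (inv_mem hx) hz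
          rwa [inv_inv] at this
        have h3 := inv_mem (h1 _ h2)
        have e1 : (x * (x⁻¹ * z * x) * x⁻¹ * (x⁻¹ * z * x)⁻¹)⁻¹ = x⁻¹ * z * x⁻¹⁻¹ * z⁻¹ := by group
        rwa [e1] at h3 }
  have hXK : X ≤ K := by
    refine sup_le ?_ ?_
    · intro x hx
      refine ⟨(mem_inf.mp hx).2, fun z hz => ?_⟩
      have h1 := hconj (mem_inf.mp hx).2 hz
      refine ⟨mul_mem h1 (inv_mem hz), ?_⟩
      rw [hinvZ hz, he.mul _ h1 _ hz, he.inv x hx z hz, D.sqZ (D.EZ (he.mem z hz))]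
    · intro x hx
      refine ⟨(mem_inf.mp hx).2, fun z hz => ?_⟩
      have h1 := hconj (mem_inf.mp hx).2 hz
      refine ⟨mul_mem h1 (inv_mem hz), nK _ (mul_mem h1 (inv_mem hz)) ?_⟩
      rw [hinvZ hz, n2 _ h1 _ hz, n3 x hx z hz, D.sqZ (n1 z hz)]
  have hW := m6 (Zt S D he) fun x hx z hz => (hXK hx).2 z hz
  rw [eq_bot_iff]
  intro x hx
  rw [mem_bot]
  have hxZ := D.EZ hx
  have h1 := m1 x hxZ
  have h2 : M x ∈ Ec (S : Subgroup G) P := D.mem_E_of_fixed hq h1 fun y hy =>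
    m4 y ((le_sup_left : _ ≤ X) hy) x hxZ
  have h3 : N (M x) = M x := n5 _ h1 fun y hy => m4 y ((le_sup_right : _ ≤ X) hy) x hxZ
  obtain ⟨f, hf, h4⟩ := D.split_dec he hs h1
  have h5 := nT _ (mul_mem h1 (hFZ hf)) h4
  rw [n2 _ h1 _ (hFZ hf), h3, nF f hf] at h5
  have h6 : M x = f := by
    rw [mul_eq_one_iff_eq_inv.mp h5, hinvZ (hFZ hf)]
  have h7 : M x = 1 := by
    have h8 : M x ∈ Fc (S : Subgroup G) H ⊓ centralizer (P : Set G) :=
      mem_inf.mpr ⟨by rw [h6]; exact hf, (mem_inf.mp h2).2⟩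
    rw [D.inf_E] at h8
    exact mem_bot.mp h8
  have h8 := (hW x hxZ).2
  rw [h7, one_mul, he.fix x hx] at h8
  exact h8

end split

/-! ### the theorem -/

omit he in
/-- **(2): `|E| = q`, `Z = F E`** -/
theorem shape (hq : 2 < Nat.card F) (hE : Ec (S : Subgroup G) P ≠ ⊥) :
    Nat.card (Ec (S : Subgroup G) P) = Nat.card F ∧
      zc (S : Subgroup G) ≤ Fc (S : Subgroup G) H ⊔ Ec (S : Subgroup G) P := by
  have := D.finite_F
  obtain ⟨ε, he⟩ := D.exists_eps hq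
  have hFZ : Fc (S : Subgroup G) H ≤ zc (S : Subgroup G) := inf_le_left
  obtain ⟨β, hβ, hβm, hβk, hβs⟩ := D.exists_beta
  obtain ⟨g, hgE, hgm, hg⟩ := D.exists_g he hβ hβm hβs
  have hg0 : g 0 = 1 := by
    have h := hgm 0 0
    rw [add_zero] at h
    exact left_eq_mul.mp h
  have key : ∀ f ∈ Fc (S : Subgroup G) H, f ≠ 1 → ∀ y : F, y ≠ 0 → ε f ≠ g y := by
    intro f hf hfn y hy h
    have hs : e f 0 ≠ 0 := fun h0 => hfn (D.F_eq_one he hf h0)
    set s := e f 0 with hsdef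
    obtain ⟨v, hv, hve⟩ := D.surj ![0, y / s]
    have hc : e v 1 = y / s := by rw [hve]; rfl
    have hc0 : e v 1 ≠ 0 := by rw [hc]; exact div_ne_zero hy hs
    obtain ⟨u, hu, hub⟩ := hβs (s / (y / s))
    have h1 : cm v u = f := by
      refine D.eq_of_coord he (D.VU_Z hv hu) (hFZ hf) ?_ ?_
      · rw [D.e_cm hv (D.UP hu) (hβ u hu), hub, hc]
        change s / (y / s) * (y / s) = s
        rw [div_mul_cancel₀ _ (div_ne_zero hy hs)]
      · rw [hg v hv u hu hc0, h, hc, hub]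
        congr 1
        field_simp
    refine D.not_R' (one_mem H) (a := v) (u := u) ?_ ?_ hu ?_ (h1 ▸ D.F_R he hf)
    · rwa [map_one, one_smul]
    · rw [map_one, one_smul]
      exact fun h2 => hc0 (D.ZV_P h2)
    · rw [map_one, one_smul, ← hβk u hu, hub]
      exact div_ne_zero hs (div_ne_zero hy hs)
  by_cases hinj : ∃ x0 : F, x0 ≠ 0 ∧ g x0 = 1
  · exfalso
    obtain ⟨x0, hx0, hgx0⟩ := hinj
    apply hE
    -- `ε` is bijective on `F`
    let φ : Fc (S : Subgroup G) H → Ec (S : Subgroup G) P := fun f => ⟨ε f, he.mem f (hFZ f.2)⟩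
    have hφ : Function.Injective φ := by
      intro f f' h
      have h1 : ε f = ε f' := congrArg Subtype.val h
      have h2 : ε ((f : G) * f') = 1 := by
        rw [he.mul _ (hFZ f.2) _ (hFZ f'.2), h1, D.sqZ (D.EZ (he.mem _ (hFZ f'.2)))]
      have h3 : (f : G) * f' = 1 := by
        by_contra h4
        exact key _ (mul_mem f.2 f'.2) h4 x0 hx0 (by rw [h2, hgx0])
      have h4 : (f' : G)⁻¹ = f' := inv_eq_of_mul_eq_one_left (D.sqZ (hFZ f'.2))
      apply Subtype.ext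
      rw [← h4]
      exact mul_eq_one_iff_eq_inv.mp h3
    have hbij := hφ.bijective_of_nat_card_le D.card_F_eq.ge
    have hg1 : ∀ y, g y = 1 := by
      intro y
      by_contra hy
      obtain ⟨f, hf⟩ := hbij.2 ⟨g y, hgE y⟩
      have h1 : ε f = g y := congrArg Subtype.val hf
      refine key f f.2 ?_ y ?_ h1
      · intro h2
        apply hy
        rw [← h1, h2, D.ε_one he]
      · rintro rfl
        exact hy hg0
    refine D.false_of_split he (fun v hv u hu => ?_) hq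
    by_cases hv1 : e v 1 = 0
    · have h1 : cm v u = 1 := cm_eq_one.mpr (zcomm ((D.line v hv).mp hv1) (D.US hu)).symm
      rw [h1, D.ε_one he]
    · rw [hg v hv u hu hv1, hg1]
  · push Not at hinj
    have hginj : Function.Injective (fun x : F => (⟨g x, hgE x⟩ : Ec (S : Subgroup G) P)) := by
      intro x y h
      have h1 : g x = g y := congrArg Subtype.val h
      have h2 : g (x + y) = 1 := by rw [hgm, h1, D.sqZ (D.EZ (hgE y))]
      have h3 : x + y = 0 := by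
        by_contra h4
        exact hinj _ h4 h2
      have h4 := D.two_eq y
      linear_combination h3 - h4
    have h1 : Nat.card F ≤ Nat.card (Ec (S : Subgroup G) P) := Nat.card_le_card_of_injective _ hginj
    -- `F → F'`
    have hfinj : Function.Injective (fun f : Fc (S : Subgroup G) H => e (f : G) 0) := by
      intro f f' h
      have h2 : e ((f : G) * f') 0 = 0 := by
        rw [D.mul _ (D.ZV (hFZ f.2)) _ (D.ZV (hFZ f'.2))]
        change e (f : G) 0 + e (f' : G) 0 = 0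
        rw [show e (f : G) 0 = e (f' : G) 0 from h, D.two_eq]
      have h3 := D.F_eq_one he (mul_mem f.2 f'.2) h2
      have h4 : (f' : G)⁻¹ = f' := inv_eq_of_mul_eq_one_left (D.sqZ (hFZ f'.2))
      apply Subtype.ext
      rw [← h4]
      exact mul_eq_one_iff_eq_inv.mp h3
    have h2 : Nat.card (Fc (S : Subgroup G) H) ≤ Nat.card F := Nat.card_le_card_of_injective _ hfinj
    have h3 : Nat.card (Fc (S : Subgroup G) H) = Nat.card (Ec (S : Subgroup G) P) := D.card_F_eq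
    have h4 : Nat.card (Ec (S : Subgroup G) P) = Nat.card F := by omega
    refine ⟨h4, fun z hz => ?_⟩
    have hbij := hfinj.bijective_of_nat_card_le (by omega)
    obtain ⟨f, hf⟩ := hbij.2 (e z 0)
    have hf' : e (f : G) 0 = e z 0 := hf
    have h5 : (f : G) * z ∈ Ec (S : Subgroup G) P := by
      rw [Ec, ← D.ker _ (D.ZV (mul_mem (hFZ f.2) hz)), D.mul _ (D.ZV (hFZ f.2)) _ (D.ZV hz)]
      funext i
      fin_cases i
      · change e (f : G) 0 + e z 0 = 0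
        rw [hf', D.two_eq]
      · change e (f : G) 1 + e z 1 = 0
        rw [D.ZV_P (hFZ f.2), D.ZV_P hz, add_zero]
    have h6 : z = (f : G) * ((f : G) * z) := by
      rw [← mul_assoc, D.sqZ (hFZ f.2), one_mul]
    rw [h6]
    exact mul_mem ((le_sup_left : Fc (S : Subgroup G) H ≤ _) f.2) ((le_sup_right : Ec (S : Subgroup G) P ≤ _) h5)

end HypQ

end Cfsg.Agent.Omega.NOThreeL.RA
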