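import Cfsg.Agent.Mrg.Omega.NOThreeL.RA.Base
import Cfsg.Agent.Mrg.Omega.NOThreeL.RA.End
import Cfsg.Agent.Mrg.Omega.NOThreeL.AOne


/-!
# NO-3L, R ∩ (A), `k = 1`, `q > 2` (#19087): the instance of (7)

`HypQ.sit` : `HypQ`, `Z ≤ [U, V] R` and `Z = F E` give `End.Sit`;
`HypQ.false_of` : with (Q) a contradiction.
-/

set_option autoImplicit false
set_option linter.unusedSectionVars false

namespace Cfsg.Agent.Omega.NOThreeL.RA

open Subgroup Cfsg Cfsg.Agent.Omega.MinPar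
open Cfsg.Agent.ZN (zc zl o2)
open Cfsg.Agent.Omega.Frame Cfsg.Agent.Omega.FrameNOFF
open Cfsg.Agent.Omega.Node.NO3L Cfsg.Agent.Omega.NOThreeL.Basic
open Cfsg.Agent.Omega.NoFF.Basic (conj_conj mem_conj conj_le_iff conj_le_centralizer comm_symm comm_mono)
open Cfsg.Agent.MinSimple.VModule (zl_le zc_le_zl le_normalizer_zl zc_le o2_isPGroup le_normalizer_o2 le_o2
  normalizer_le_normalizer_zc)
open Cfsg.Agent.Omega.NOThreeL.RTools (cm cm_def NN le_NN)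
open Cfsg.Agent.Omega.NOThreeL.AOne (Act)
open Cfsg.Agent.Lib.SL2Mat
open Cfsg.Agent.Omega.NatPair (ap ap_mul ap_one ap_inv_ap)
open scoped Pointwise commutatorElement

universe u

variable {G : Type u} [Group G]

namespace HypQ

variable [Finite G] {F : Type} [Field F] {e : G → Fin 2 → F} {S : Sylow 2 G} {P H : Subgroup G} (D : HypQ e S P H)
include D

/-- `H = ⟨C, P' ∈ P*(S), P' ≤ H⟩` -/
theorem gen : RTransv.Gen (S : Subgroup G) H := by
  obtain ⟨H₁, h1, h2, h3, h4⟩ := RTransv.exists_gen D.long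
  by_cases h : H₁ = H
  · rwa [h] at h4
  · exact absurd (by rw [← h3]; exact D.min H₁ h2 h1 h) D.ne

theorem e_oneI : e 1 = 0 := by
  have h := D.mul 1 (one_mem _) 1 (one_mem _)
  rw [mul_one] at h
  exact left_eq_add.1 h

theorem e_invI {v : G} (hv : v ∈ zl (S : Subgroup G) P) : e v⁻¹ = - e v := by
  have h := D.mul v hv v⁻¹ (inv_mem hv)
  rw [mul_inv_cancel, D.e_oneI] at h
  exact (neg_eq_of_add_eq_zero_right h.symm).symm

theorem conjVI {g v : G} (hg : g ∈ P) (hv : v ∈ zl (S : Subgroup G) P) : g * v * g⁻¹ ∈ zl (S : Subgroup G) P :=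
  (mem_normalizer_iff.1 (D.PV hg) v).1 hv

/-- coordinates of `[u, v]` -/
theorem e_commI {b : F} {u v : G} (hu : u ∈ zl (S : Subgroup G) H)
    (h : Act e (zl (S : Subgroup G) P) u (up b)) (hv : v ∈ zl (S : Subgroup G) P) :
    u * v * u⁻¹ * v⁻¹ ∈ zl (S : Subgroup G) P ∧ e (u * v * u⁻¹ * v⁻¹) 0 = b * e v 1 ∧
      e (u * v * u⁻¹ * v⁻¹) 1 = 0 := by
  have h1 := D.conjVI (D.SP (D.US hu)) hv
  have h2 := D.mul _ h1 _ (inv_mem hv)
  rw [h v hv, D.e_invI hv] at h2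
  refine ⟨mul_mem h1 (inv_mem hv), ?_, ?_⟩
  · rw [h2, Pi.add_apply, Pi.neg_apply, AOne.ap_up_0]
    ring
  · rw [h2, Pi.add_apply, Pi.neg_apply, RAOne.ap_up']
    change e v 1 + -e v 1 = 0
    ring

theorem comm_mem_Z {u v : G} (hu : u ∈ zl (S : Subgroup G) H) (hv : v ∈ zl (S : Subgroup G) P) :
    u * v * u⁻¹ * v⁻¹ ∈ zc (S : Subgroup G) := by
  obtain ⟨b, hb⟩ := D.up1 u hu
  obtain ⟨h1, -, h3⟩ := D.e_commI hu hb hv
  exact (D.line _ h1).1 h3

/-- `[v, U] E = Z` for `v ∉ Z` -/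
theorem full {v z : G} (hv : v ∈ zl (S : Subgroup G) P) (hvZ : v ∉ zc (S : Subgroup G))
    (hz : z ∈ zc (S : Subgroup G)) : ∃ u ∈ zl (S : Subgroup G) H,
      u * v * u⁻¹ * v⁻¹ * z⁻¹ ∈ zc (S : Subgroup G) ⊓ centralizer (P : Set G) := by
  have h0 : e v 1 ≠ 0 := fun h => hvZ ((D.line v hv).1 h)
  obtain ⟨u, hu, hb⟩ := D.up2 (e z 0 * (e v 1)⁻¹)
  obtain ⟨h1, h2, h3⟩ := D.e_commI hu hb hv
  refine ⟨u, hu, (D.ker _ (mul_mem h1 (inv_mem (D.ZV hz)))).1 ?_⟩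
  have h4 := D.mul _ h1 _ (inv_mem (D.ZV hz))
  rw [h4, D.e_invI (D.ZV hz)]
  have h5 := (D.line z (D.ZV hz)).2 hz
  funext i
  fin_cases i
  · change e (u * v * u⁻¹ * v⁻¹) 0 + -e z 0 = 0
    rw [h2, inv_mul_cancel_right₀ h0]
    ring
  · change e (u * v * u⁻¹ * v⁻¹) 1 + -e z 1 = 0
    rw [h3, h5]
    ring

/-- `V = Z Z^r`, `Z ∩ Z^r = E` -/
theorem rho : ∃ r ∈ P, zl (S : Subgroup G) P ≤ zc (S : Subgroup G) ⊔ MulAut.conj r • zc (S : Subgroup G) ∧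
    zc (S : Subgroup G) ⊓ MulAut.conj r • zc (S : Subgroup G) ≤ centralizer (P : Set G) := by
  obtain ⟨r, hr, hA⟩ := D.lift (lo 1)
  have key : ∀ y ∈ zl (S : Subgroup G) P, e (r * y * r⁻¹) = ![e y 0, e y 0 + e y 1] := fun y hy => by
    rw [hA y hy, RAOne.ap_lo', one_mul]
  refine ⟨r, hr, fun v hv => ?_, fun v hv => ?_⟩
  · obtain ⟨y, hy, hey⟩ := D.surj ![e v 1, 0]
    have hyZ : y ∈ zc (S : Subgroup G) := (D.line y hy).1 (by rw [hey]; rfl)
    have h1 := D.conjVI hr hy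
    have h2 : v * (r * y * r⁻¹)⁻¹ ∈ zc (S : Subgroup G) := by
      refine (D.line _ (mul_mem hv (inv_mem h1))).1 ?_
      rw [D.mul _ hv _ (inv_mem h1), D.e_invI h1, key y hy, hey]
      change e v 1 + -(e v 1 + 0) = 0
      ring
    have e1 : v = v * (r * y * r⁻¹)⁻¹ * (r * y * r⁻¹) := by group
    rw [e1]
    refine mul_mem (mem_sup_left h2) (mem_sup_right ?_)
    rw [mem_conj]
    simpa [mul_assoc] using hyZ
  · obtain ⟨h1, h2⟩ := mem_inf.1 hv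
    rw [mem_conj] at h2
    have h3 := key _ (D.ZV h2)
    have e1 : r * (r⁻¹ * v * r) * r⁻¹ = v := by group
    rw [e1] at h3
    have h4 := (D.line _ (D.ZV h2)).2 h2
    have h5 := (D.line _ (D.ZV h1)).2 h1
    have h6 : e v 1 = e (r⁻¹ * v * r) 0 + e (r⁻¹ * v * r) 1 := by rw [h3]; rfl
    have h7 : e v 0 = e (r⁻¹ * v * r) 0 := by rw [h3]; rfl
    rw [h4, add_zero, h5] at h6
    refine (mem_inf.1 ((D.ker v (D.ZV h1)).1 ?_)).2
    funext i
    fin_cases i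
    · change e v 0 = 0
      rw [h7, ← h6]
    · exact h5

theorem RV : Rr (S : Subgroup G) P H ≤ centralizer (zl (S : Subgroup G) P : Set G) :=
  inf_le_right.trans (centralizer_le (le_NN _ _ _))

/-- **The instance of (7).** -/
theorem sit (hZR : zc (S : Subgroup G) ≤ ⁅zl (S : Subgroup G) H, zl (S : Subgroup G) P⁆ ⊔ Rr (S : Subgroup G) P H)
    (hFE : zc (S : Subgroup G) ≤ Fc (S : Subgroup G) H ⊔ (zc (S : Subgroup G) ⊓ centralizer (P : Set G))) :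
    End.Sit (S : Subgroup G) P H (Rr (S : Subgroup G) P H) where
  par := D.par
  long := D.long
  ne := fun h => D.ne (comm_symm h)
  gen := D.gen
  RV := D.RV
  HR := D.HR
  UV := fun _ hu _ hv => D.comm_mem_Z hu hv
  ZR := hZR
  full := fun _ hv hvZ _ hz => D.full hv hvZ hz
  FE := hFE
  rho := D.rho

/-- **(7)**: `Z ≤ [U, V] R`, `Z = F E` and (Q) give a contradiction. -/
theorem false_of (hZR : zc (S : Subgroup G) ≤ ⁅zl (S : Subgroup G) H, zl (S : Subgroup G) P⁆ ⊔ Rr (S : Subgroup G) P H)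
    (hFE : zc (S : Subgroup G) ≤ Fc (S : Subgroup G) H ⊔ (zc (S : Subgroup G) ⊓ centralizer (P : Set G)))
    (hQ : End.QP (S : Subgroup G) P H) : False :=
  (D.sit hZR hFE).false D.hc D.data hQ

end HypQ

end Cfsg.Agent.Omega.NOThreeL.RA
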